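import Groth.Agent.TorusPts.Scheme
import Groth.Agent.GrpSchLib.MultTypeBC

/-!
# Tori over an algebraically closed field are split
-/

universe u

open CategoryTheory CategoryTheory.Limits MonoidalCategory CartesianMonoidalCategory MonObj AlgebraicGeometry
open TensorProduct

noncomputable section

namespace Groth.Agent.AGFRoot

open GrpSchLib.AffineHopf GrpSchLib.MultTypeBC

theorem bc_id {S : Scheme.{u}} (X : Over S) [GrpObj X] :
    Nonempty (Grp.mk (Red.bc (𝟙 S) X) ≅ Grp.mk X) :=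
  ⟨(Functor.mapGrpNatIso (Over.pullbackId) ≪≫ Functor.mapGrpIdIso).app (Grp.mk X)⟩

/-- A torus over a field is split by an extension field. -/
theorem exists_split_field {K : Type u} [Field K] {T : Over (Spec (CommRingCat.of K))} [GrpObj T]
    (hT : Red.IsTorus T) :
    ∃ (r : ℕ) (L : Type u) (_ : Field L) (_ : Algebra K L),
      Red.IsSplitTorusWith (Fin r → ℤ) (Red.bc (Spec.map (CommRingCat.ofHom (algebraMap K L))) T) := by
  obtain ⟨S', f, -, hs, -, hloc⟩ := hT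
  obtain ⟨s', -⟩ := f.surjective (IsLocalRing.closedPoint K)
  obtain ⟨U, hU, r, ⟨e⟩⟩ := hloc s'
  let x : ↥((U : Scheme.{u})) := ⟨s', hU⟩
  let L := (U : Scheme.{u}).residueField x
  let j := (U : Scheme.{u}).fromSpecResidueField x
  let φ : K →+* L := (Spec.preimage (j ≫ U.ι ≫ f)).hom
  have hφ : Spec.map (CommRingCat.ofHom φ) = j ≫ U.ι ≫ f := by
    rw [CommRingCat.ofHom_hom, Spec.map_preimage]
  let _ : Algebra K L := φ.toAlgebra
  obtain ⟨a⟩ := bc_bc j (U.ι ≫ f) T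
  obtain ⟨b⟩ := bc_iso j e
  obtain ⟨c⟩ := bc_DS j (Fin r → ℤ)
  obtain ⟨d⟩ := bc_congr (show Spec.map (CommRingCat.ofHom (algebraMap K L)) = j ≫ U.ι ≫ f from hφ) T
  exact ⟨r, L, inferInstance, φ.toAlgebra, ⟨d ≪≫ a.symm ≪≫ b ≪≫ c⟩⟩

/-- A torus over an algebraically closed field is split. -/
theorem exists_isSplitTorusWith {K : Type u} [Field K] [IsAlgClosed K]
    {T : Over (Spec (CommRingCat.of K))} [GrpObj T] (hT : Red.IsTorus T) :
    ∃ r : ℕ, Red.IsSplitTorusWith (Fin r → ℤ) T := by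
  obtain ⟨r, L₀, _, _, hL₀⟩ := exists_split_field hT
  have hA : IsAffine T.left := by
    let φ := Spec.map (CommRingCat.ofHom (algebraMap K L₀))
    obtain ⟨s⟩ := hL₀
    obtain ⟨d⟩ := nonempty_DS_iso L₀ (Fin r → ℤ)
    have : IsAffine (pullback T.hom φ) :=
      @IsAffine.of_isIso _ _ ((Over.forget _).mapIso ((Grp.forget _).mapIso (s.trans d.symm))).hom
        (Iso.isIso_hom _) (isAffine_Spec _)
    have hA' : IsAffineHom (pullback.snd T.hom φ) := isAffineHom_of_isAffine (pullback.snd T.hom φ)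
    have := EtFound.fpqc_isAffineHom.{u}
    have : Surjective φ :=
      ⟨fun x => ⟨(IsLocalRing.closedPoint L₀ : Spec (CommRingCat.of L₀)), Subsingleton.elim _ _⟩⟩
    have : Flat φ := by
      rw [Flat.SpecMap_iff]
      show (algebraMap K L₀).Flat
      rw [RingHom.flat_algebraMap_iff]
      infer_instance
    have : IsAffineHom T.hom := MorphismProperty.of_pullback_snd_of_descendsAlong
      (Q := (@Surjective ⊓ @Flat ⊓ @QuasiCompact : MorphismProperty Scheme.{u}))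
      ⟨⟨‹_›, ‹_›⟩, inferInstance⟩ hA'
    exact isAffine_of_isAffineHom T.hom
  obtain ⟨A, _, _, ⟨t⟩⟩ := exists_hopf T
  obtain ⟨b⟩ := nonempty_bc_sp (R := K) L₀ A
  obtain ⟨s⟩ := hL₀
  obtain ⟨d⟩ := nonempty_DS_iso L₀ (Fin r → ℤ)
  obtain ⟨e₁⟩ := TorusPts.exists_bialgEquiv (b.symm.trans (((Over.pullback
    (Spec.map (CommRingCat.ofHom (algebraMap K L₀)))).mapGrp.mapIso t).trans (s.trans d.symm)))
  obtain ⟨L, _, _, _, _, ⟨e⟩⟩ := TorusPts.exists_galois_split L₀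
    (e₁.trans (MonoidAlgebra.domCongrBialgEquiv L₀ L₀ MulEquiv.ulift.symm))
  have hbij : Function.Bijective (algebraMap K L) :=
    ⟨RingHom.injective _, IsAlgClosed.algebraMap_bijective_of_isIntegral.2⟩
  let φ := Spec.map (CommRingCat.ofHom (algebraMap K L))
  let ψ := Spec.map (CommRingCat.ofHom (RingEquiv.ofBijective (algebraMap K L) hbij).symm.toRingHom)
  have hψ : ψ ≫ φ = 𝟙 _ := by
    rw [← Spec.map_comp, ← CommRingCat.ofHom_comp]
    rw [show (RingEquiv.ofBijective (algebraMap K L) hbij).symm.toRingHom.comp (algebraMap K L) = RingHom.id K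
      from RingHom.ext fun x => (RingEquiv.ofBijective (algebraMap K L) hbij).symm_apply_apply x]
    rw [CommRingCat.ofHom_id, Spec.map_id]
  obtain ⟨bL⟩ := nonempty_bc_sp (R := K) L A
  obtain ⟨dL⟩ := nonempty_DS_iso L (Fin r → ℤ)
  let sL : Grp.mk (Red.bc φ T) ≅ Grp.mk (Red.DS (Spec (CommRingCat.of L)) (Fin r → ℤ)) :=
    ((Over.pullback φ).mapGrp.mapIso t.symm) ≪≫ bL ≪≫
      spIso (e.trans (MonoidAlgebra.domCongrBialgEquiv L L MulEquiv.ulift)).symm ≪≫ dL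
  obtain ⟨i₁⟩ := bc_bc ψ φ T
  obtain ⟨i₂⟩ := bc_congr hψ T
  obtain ⟨i₃⟩ := bc_id T
  obtain ⟨i₄⟩ := bc_iso ψ sL
  obtain ⟨i₅⟩ := bc_DS ψ (Fin r → ℤ)
  exact ⟨r, ⟨i₃.symm ≪≫ i₂.symm ≪≫ i₁.symm ≪≫ i₄ ≪≫ i₅⟩⟩

end Groth.Agent.AGFRoot
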