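import Groth.Agent.GrpSchLib.AffineHopfClosed
import Groth.Agent.GrpSchLib.RankOneBase
import Groth.Agent.AGFRoot.TorusSplit

/-!
# Affine test objects and split subtori of affine groups over a field, in coordinates
-/

universe u

open CategoryTheory CategoryTheory.Limits MonoidalCategory CartesianMonoidalCategory MonObj AlgebraicGeometry
open WithConv

noncomputable section

namespace Groth.Agent.AGFRoot

open GrpSchLib.AffineHopf

variable {K : Type u} [Field K]

theorem algebraMap_self_map : Spec.map (CommRingCat.ofHom (algebraMap K K)) = 𝟙 (Spec (CommRingCat.of K)) := by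
  rw [show algebraMap K K = RingHom.id K from Algebra.algebraMap_self, CommRingCat.ofHom_id, Spec.map_id]

theorem left_comp {X : Over (Spec (CommRingCat.of K))} (f : X ⟶ sp K K) :
    f.left ≫ Spec.map (CommRingCat.ofHom (algebraMap K K)) = X.hom := Over.w f

theorem left_eq_hom {X : Over (Spec (CommRingCat.of K))} (f : X ⟶ sp K K) : f.left = X.hom := by
  have h := left_comp f
  rw [algebraMap_self_map] at h
  exact (Category.comp_id f.left).symm.trans h

theorem unique_to_base {X : Over (Spec (CommRingCat.of K))} (f g : X ⟶ sp K K) : f = g :=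
  Over.OverMorphism.ext ((left_eq_hom f).trans (left_eq_hom g).symm)

/-- The unit object as the spectrum of the base. -/
def unitSp : 𝟙_ (Over (Spec (CommRingCat.of K))) ≅ sp K K where
  hom := Over.homMk (𝟙 (Spec (CommRingCat.of K))) ((congrArg (fun w => 𝟙 (Spec (CommRingCat.of K)) ≫ w) algebraMap_self_map).trans (Category.id_comp _))
  inv := toUnit _
  hom_inv_id := toUnit_unique _ _
  inv_hom_id := unique_to_base _ _

/-- Morphisms agree when they agree on affine test objects. -/
theorem ext_sp {X Y : Over (Spec (CommRingCat.of K))} {f g : X ⟶ Y}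
    (h : ∀ (R : Type u) (_ : CommRing R) (_ : Algebra K R) (j : sp K R ⟶ X), j ≫ f = j ≫ g) : f = g := by
  refine GrpSchLib.RankOne.ext_spec fun A b j => ?_
  obtain ⟨φ, rfl⟩ : ∃ φ : CommRingCat.of K ⟶ A, Spec.map φ = b := ⟨Spec.preimage b, Spec.map_preimage b⟩
  let _ : Algebra K A := φ.hom.toAlgebra
  exact h A inferInstance inferInstance j

theorem toUnit_comp_spMap {B R : Type u} [CommRing B] [CommRing R] [Algebra K B]
    [Algebra K R] (f : B →ₐ[K] K) :
    toUnit (sp K R) ≫ unitSp.hom ≫ spMap f = spMap ((Algebra.ofId K R).comp f) := by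
  rw [← spMap_comp, ← Category.assoc]
  exact congrArg (fun w => w ≫ spMap f) (unique_to_base _ _)

theorem finiteType_of_iso {B : Type u} [CommRing B] [Algebra K B] {G : Over (Spec (CommRingCat.of K))}
    [LocallyOfFiniteType G.hom] (e : sp K B ≅ G) : Algebra.FiniteType K B := by
  have hi : IsIso e.hom.left := inferInstanceAs (IsIso ((Over.forget _).map e.hom))
  have hl : LocallyOfFiniteType e.hom.left := inferInstance
  have h : LocallyOfFiniteType (e.hom.left ≫ G.hom) := inferInstance
  have hw : LocallyOfFiniteType (Spec.map (CommRingCat.ofHom (algebraMap K B))) := by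
    have h2 := Over.w e.hom
    rw [h2] at h
    exact h
  exact RingHom.finiteType_algebraMap.mp ((HasRingHomProperty.Spec_iff (P := @LocallyOfFiniteType)).mp hw)

variable [IsAlgClosed K]

/-- A subtorus of an affine group over an algebraically closed field, in coordinates. -/
theorem exists_diag_sub {G S : Over (Spec (CommRingCat.of K))} [GrpObj G] [GrpObj S] [IsAffine G.left]
    (iS : S ⟶ G) [IsMonHom iS] [IsClosedImmersion iS.left] (hS : Red.IsTorus S) :
    ∃ (r : ℕ) (B : Type u) (_ : CommRing B) (_ : HopfAlgebra K B)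
      (φ : B →ₐc[K] MonoidAlgebra K (Multiplicative (Fin r → ℤ)))
      (eG : sp K B ≅ G) (eS : sp K (MonoidAlgebra K (Multiplicative (Fin r → ℤ))) ≅ S)
      (_ : IsMonHom eG.hom) (_ : IsMonHom eS.hom),
      spMap (φ : B →ₐ[K] MonoidAlgebra K (Multiplicative (Fin r → ℤ))) ≫ eG.hom = eS.hom ≫ iS ∧
        Function.Surjective φ := by
  obtain ⟨r, ⟨s⟩⟩ := exists_isSplitTorusWith hS
  obtain ⟨B, _, _, ⟨t⟩⟩ := exists_hopf G
  obtain ⟨d⟩ := nonempty_DS_iso K (Fin r → ℤ)
  let eG : sp K B ≅ G := (Grp.forget _).mapIso t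
  let tS : Grp.mk (sp K (MonoidAlgebra K (Multiplicative (Fin r → ℤ)))) ≅ Grp.mk S := d ≪≫ s.symm
  let eS : sp K (MonoidAlgebra K (Multiplicative (Fin r → ℤ))) ≅ S := (Grp.forget _).mapIso tS
  have h1 : IsMonHom eG.hom := t.hom.hom.isMonHom_hom
  have h2 : IsMonHom eS.hom := tS.hom.hom.isMonHom_hom
  have : IsMonHom eG.inv := t.inv.hom.isMonHom_hom
  obtain ⟨φ, hφ⟩ := exists_bialgHom (eS.hom ≫ iS ≫ eG.inv)
  refine ⟨r, B, inferInstance, inferInstance, φ, eG, eS, h1, h2, ?_, ?_⟩
  · rw [← hφ, Category.assoc, Category.assoc, Iso.inv_hom_id, Category.comp_id]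
  · refine surjective_of_isClosedImmersion (φ : B →ₐ[K] MonoidAlgebra K (Multiplicative (Fin r → ℤ))) ?_
    rw [← hφ, Over.comp_left, Over.comp_left]
    have : IsIso eS.hom.left := inferInstanceAs (IsIso ((Over.forget _).map eS.hom))
    have : IsIso eG.inv.left := inferInstanceAs (IsIso ((Over.forget _).map eG.inv))
    infer_instance

end Groth.Agent.AGFRoot
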