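import Groth.Agent.AGFRoot.BorelExist
import Groth.Agent.S0348

/-!
# Conjugacy of Borel subgroups over an algebraically closed field
-/

set_option autoImplicit false
set_option backward.isDefEq.respectTransparency false

universe u

open CategoryTheory CategoryTheory.Limits MonoidalCategory CartesianMonoidalCategory MonObj GrpObj AlgebraicGeometry

namespace Groth.Agent.AGFRoot

variable {k : Type u} [Field k]

section General

variable {G H T : Over (Spec (CommRingCat.of k))} [GrpObj G]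

theorem comp_conjBy (f : T ⟶ H) (g : 𝟙_ (Over (Spec (CommRingCat.of k))) ⟶ G) (i : H ⟶ G) :
    f ≫ AGF.conjBy g i = AGF.conjBy g (f ≫ i) := by
  simp only [AGF.conjBy, MonObj.comp_mul, GrpObj.comp_inv, ← Category.assoc, comp_toUnit]

theorem conjBy_eq_comp (g : 𝟙_ (Over (Spec (CommRingCat.of k))) ⟶ G) (i : H ⟶ G) :
    AGF.conjBy g i = i ≫ AGF.conjBy g (𝟙 G) := by
  rw [comp_conjBy, Category.comp_id]

theorem conjBy_conjBy (g h : 𝟙_ (Over (Spec (CommRingCat.of k))) ⟶ G) (i : H ⟶ G) :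
    AGF.conjBy g (AGF.conjBy h i) = AGF.conjBy (g * h) i := by
  simp only [AGF.conjBy, MonObj.comp_mul, _root_.mul_inv_rev, _root_.mul_assoc]

theorem conjBy_one (i : H ⟶ G) : AGF.conjBy (1 : 𝟙_ (Over (Spec (CommRingCat.of k))) ⟶ G) i = i := by
  simp only [AGF.conjBy, MonObj.comp_one, _root_.one_mul, inv_one, _root_.mul_one]

theorem conjBy_inv_cancel (g : 𝟙_ (Over (Spec (CommRingCat.of k))) ⟶ G) (i : H ⟶ G) :
    AGF.conjBy g (AGF.conjBy g⁻¹ i) = i := by
  rw [conjBy_conjBy, mul_inv_cancel, conjBy_one]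

theorem conjBy_inv_cancel' (g : 𝟙_ (Over (Spec (CommRingCat.of k))) ⟶ G) (i : H ⟶ G) :
    AGF.conjBy g⁻¹ (AGF.conjBy g i) = i := by
  rw [conjBy_conjBy, inv_mul_cancel, conjBy_one]

theorem conjBy_mul (g : 𝟙_ (Over (Spec (CommRingCat.of k))) ⟶ G) (i j : H ⟶ G) :
    AGF.conjBy g (i * j) = AGF.conjBy g i * AGF.conjBy g j := by
  simp only [AGF.conjBy]
  group

instance isMonHom_conjBy [GrpObj H] (g : 𝟙_ (Over (Spec (CommRingCat.of k))) ⟶ G) (i : H ⟶ G) [IsMonHom i] :
    IsMonHom (AGF.conjBy g i) where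
  one_hom := by
    rw [comp_conjBy, IsMonHom.one_hom, AGF.conjBy, toUnit_unit, Category.id_comp,
      show (η[G] : 𝟙_ (Over (Spec (CommRingCat.of k))) ⟶ G) = 1 by rw [Hom.one_def, toUnit_unit, Category.id_comp],
      _root_.mul_one, mul_inv_cancel]
  mul_hom := by
    rw [comp_conjBy, show μ[H] ≫ i = (fst H H ≫ i) * (snd H H ≫ i) by rw [IsMonHom.mul_hom, Hom.mul_def]; congr 1,
      conjBy_mul, ← comp_conjBy, ← comp_conjBy, Hom.mul_def]
    congr 1

/-- Conjugation by a rational point. -/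
noncomputable def conjIso (g : 𝟙_ (Over (Spec (CommRingCat.of k))) ⟶ G) : G ≅ G where
  hom := AGF.conjBy g (𝟙 G)
  inv := AGF.conjBy g⁻¹ (𝟙 G)
  hom_inv_id := by rw [comp_conjBy, Category.comp_id, conjBy_inv_cancel']
  inv_hom_id := by rw [comp_conjBy, Category.comp_id, conjBy_inv_cancel]

instance mono_conjBy (g : 𝟙_ (Over (Spec (CommRingCat.of k))) ⟶ G) (i : H ⟶ G) [Mono i] :
    Mono (AGF.conjBy g i) := by
  rw [conjBy_eq_comp]
  exact inferInstanceAs (Mono (i ≫ (conjIso g).hom))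

instance isClosedImmersion_conjBy (g : 𝟙_ (Over (Spec (CommRingCat.of k))) ⟶ G) (i : H ⟶ G)
    [IsClosedImmersion i.left] : IsClosedImmersion (AGF.conjBy g i).left := by
  rw [conjBy_eq_comp, Over.comp_left]
  have : IsIso (AGF.conjBy g (𝟙 G)).left := inferInstanceAs (IsIso ((Over.forget _).map (conjIso g).hom))
  infer_instance

/-- The pullback square of a quotient from the pointwise description of the fibres. -/
theorem isPullback_of_orbit_eq_iff [GrpObj H] {X : Over (Spec (CommRingCat.of k))} (i : H ⟶ G) [Mono i] (p : G ⟶ X)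
    (hcrit : ∀ {T : Over (Spec (CommRingCat.of k))} (u v : T ⟶ G), u ≫ p = v ≫ p ↔ ∃ h : T ⟶ H, v = u * (h ≫ i)) :
    IsPullback (fst G H) ((G ◁ i) ≫ μ[G]) p p := by
  have hm : ∀ {T : Over (Spec (CommRingCat.of k))} (m : T ⟶ G ⊗ H),
      m ≫ (G ◁ i) ≫ μ[G] = (m ≫ fst G H) * (m ≫ snd G H ≫ i) := fun m => Quot.lift_whisker_mul i m
  have hw : fst G H ≫ p = ((G ◁ i) ≫ μ[G]) ≫ p := by
    refine (hcrit _ _).mpr ⟨snd G H, ?_⟩
    rw [← Category.id_comp ((G ◁ i) ≫ μ[G]), hm, Category.id_comp, Category.id_comp]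
  choose h hh using fun c : PullbackCone p p => (hcrit c.fst c.snd).mp c.condition
  refine ⟨⟨hw⟩, ⟨PullbackCone.IsLimit.mk _ (fun c => lift c.fst (h c)) (fun c => lift_fst _ _) (fun c => ?_)
    (fun c m h₁ h₂ => ?_)⟩⟩
  · rw [hm, lift_fst, lift_snd_assoc, ← hh]
  · refine CartesianMonoidalCategory.hom_ext _ _ (by rw [h₁, lift_fst]) ?_
    rw [hm, h₁, hh c, mul_right_inj] at h₂
    rw [lift_snd, ← cancel_mono i, Category.assoc]
    exact h₂

variable [LocallyOfFiniteType G.hom] [QuasiCompact G.hom]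

/-- Translating the base point of a quotient conjugates the subgroup. -/
theorem isQuotient_translate {H' X : Over (Spec (CommRingCat.of k))} [GrpObj H] [GrpObj H'] {i : H ⟶ G}
    (i' : H' ⟶ G) [Mono i'] {a : AlgGrp.Action G X} {o : 𝟙_ (Over (Spec (CommRingCat.of k))) ⟶ X}
    (hX : AGF.IsQuotient i X a o) (g : 𝟙_ (Over (Spec (CommRingCat.of k))) ⟶ G) (e : H' ≅ H)
    (he : e.hom ≫ i = AGF.conjBy g i') : AGF.IsQuotient i' X a (g⁻¹ ≫ a.orbitMap o) := by
  obtain ⟨hl, hfl, hs, sq⟩ := hX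
  let R : G ≅ G :=
    { hom := 𝟙 G * (toUnit G ≫ g⁻¹)
      inv := 𝟙 G * (toUnit G ≫ g)
      hom_inv_id := by
        rw [MonObj.comp_mul, Category.comp_id, ← Category.assoc, comp_toUnit, GrpObj.comp_inv, inv_mul_cancel_right]
      inv_hom_id := by
        rw [MonObj.comp_mul, Category.comp_id, ← Category.assoc, comp_toUnit, GrpObj.comp_inv, mul_inv_cancel_right] }
  have hR : ∀ {T : Over (Spec (CommRingCat.of k))} (u : T ⟶ G), u ≫ R.hom = u * (toUnit T ≫ g⁻¹) := fun u => by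
    show u ≫ (𝟙 G * (toUnit G ≫ g⁻¹)) = _
    rw [MonObj.comp_mul, Category.comp_id, ← Category.assoc, comp_toUnit]
  have horb : a.orbitMap (g⁻¹ ≫ a.orbitMap o) = R.hom ≫ a.orbitMap o := by
    rw [AlgGrp.Action.orbitMap, ← Category.assoc (toUnit G), ← Category.id_comp R.hom, hR, Quot.mul_orbitMap]
  have : IsIso R.hom.left := ((Over.forget _).mapIso R).isIso_hom
  refine ⟨hl, ?_, ?_, ?_⟩
  · rw [horb, Over.comp_left]; infer_instance
  · rw [horb, Over.comp_left]; infer_instance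
  · rw [horb]
    refine isPullback_of_orbit_eq_iff i' _ fun u v => ?_
    rw [← Category.assoc, ← Category.assoc, Quot.orbit_eq_iff sq, hR, hR]
    refine ⟨fun ⟨h, hh⟩ => ⟨h ≫ e.inv, ?_⟩, fun ⟨h, hh⟩ => ⟨h ≫ e.hom, ?_⟩⟩
    · have h1 : h ≫ i = AGF.conjBy g ((h ≫ e.inv) ≫ i') := by
        rw [← comp_conjBy, ← he, Category.assoc, Iso.inv_hom_id_assoc]
      rw [h1, AGF.conjBy, GrpObj.comp_inv] at hh
      calc v = v * (toUnit _ ≫ g)⁻¹ * (toUnit _ ≫ g) := by group
        _ = u * ((h ≫ e.inv) ≫ i') := by rw [hh]; group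
    · rw [Category.assoc, he, comp_conjBy, AGF.conjBy, hh, GrpObj.comp_inv]
      group

/-- A closed endomorphism of a reduced noetherian scheme over `k` is an isomorphism. -/
theorem isIso_of_endo {B : Over (Spec (CommRingCat.of k))} [CompactSpace B.left] [IsLocallyNoetherian B.left]
    [IsReduced B.left] (f : B ⟶ B) [IsClosedImmersion f.left] : IsIso f := by
  have : IsNoetherian B.left := {}
  have hce := f.left.isClosedEmbedding
  have hiter : ∀ n, Topology.IsClosedEmbedding (⇑f.left)^[n] := fun n => by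
    induction n with
    | zero => exact Topology.IsClosedEmbedding.id
    | succ n ih => rw [Function.iterate_succ']; exact hce.comp ih
  let C : ℕ → TopologicalSpace.Closeds B.left := fun n => ⟨Set.range (⇑f.left)^[n], (hiter n).isClosed_range⟩
  obtain ⟨_, ⟨m, rfl⟩, hmin⟩ := (wellFounded_lt (α := TopologicalSpace.Closeds B.left)).has_min (Set.range C)
    ⟨C 0, 0, rfl⟩
  have hle : C (m + 1) ≤ C m := by
    rintro _ ⟨z, rfl⟩
    exact ⟨f.left z, (Function.iterate_succ_apply _ m z).symm⟩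
  have heq : C (m + 1) = C m := eq_of_le_of_not_lt hle (hmin _ ⟨m + 1, rfl⟩)
  have : Surjective f.left := ⟨fun y => by
    have hy : (⇑f.left)^[m] y ∈ C (m + 1) := heq ▸ ⟨y, rfl⟩
    obtain ⟨x, hx⟩ := hy
    rw [Function.iterate_succ_apply] at hx
    exact ⟨x, (hiter m).injective hx⟩⟩
  have := isIso_of_isClosedImmersion_of_surjective f.left
  have : IsIso ((Over.forget _).map f) := this
  exact isIso_of_reflects_iso f (Over.forget _)

/-- An action restricted along a homomorphism. -/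
noncomputable def resAction {X : Over (Spec (CommRingCat.of k))} [GrpObj H] (a : AlgGrp.Action G X) (φ : H ⟶ G)
    [IsMonHom φ] : AlgGrp.Action H X where
  act := (φ ▷ X) ≫ a.act
  one_act := by rw [← Category.assoc, ← MonoidalCategory.comp_whiskerRight, IsMonHom.one_hom, a.one_act]
  mul_act := by
    have e1 : (μ[H] ▷ X) ≫ (φ ▷ X) =
        lift ((fst (H ⊗ H) X ≫ fst H H ≫ φ) * (fst (H ⊗ H) X ≫ snd H H ≫ φ)) (snd _ _) := by
      apply CartesianMonoidalCategory.hom_ext
      · rw [lift_fst, ← MonObj.comp_mul, Category.assoc, whiskerRight_fst, whiskerRight_fst_assoc, IsMonHom.mul_hom,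
          Hom.mul_def]
        congr 2
      · simp
    have e2 : (α_ H H X).hom ≫ (H ◁ ((φ ▷ X) ≫ a.act)) ≫ (φ ▷ X) = lift (fst (H ⊗ H) X ≫ fst H H ≫ φ)
        (lift (fst (H ⊗ H) X ≫ snd H H ≫ φ) (snd _ _) ≫ a.act) := by
      apply CartesianMonoidalCategory.hom_ext
      · simp
      · rw [lift_snd]
        simp only [Category.assoc, whiskerRight_snd, whiskerLeft_snd]
        rw [← Category.assoc, ← Category.assoc]
        congr 1
        apply CartesianMonoidalCategory.hom_ext <;> simp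
    rw [← Category.assoc, e1, ← Category.assoc (H ◁ _), ← Category.assoc (α_ H H X).hom, e2, GrpSchLib.act_mul]

theorem resAction_act {X : Over (Spec (CommRingCat.of k))} [GrpObj H] (a : AlgGrp.Action G X) (φ : H ⟶ G)
    [IsMonHom φ] {T : Over (Spec (CommRingCat.of k))} (h : T ⟶ H) (x : T ⟶ X) :
    lift h x ≫ (resAction a φ).act = lift (h ≫ φ) x ≫ a.act := by
  show lift h x ≫ (φ ▷ X) ≫ a.act = _
  rw [lift_whiskerRight_assoc]

theorem isReduced_of_smooth {B : Over (Spec (CommRingCat.of k))} [Smooth B.hom] : IsReduced B.left :=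
  GrpSchLib.isReduced_of_smooth_field B.hom

end General

variable [IsAlgClosed k] {G : Over (Spec (CommRingCat.of k))} [GrpObj G]

/-- A rational point of the target of a surjective orbit map lifts. -/
theorem exists_point_over [LocallyOfFiniteType G.hom] {X : Over (Spec (CommRingCat.of k))}
    [LocallyOfFiniteType X.hom] (p : G ⟶ X) [Surjective p.left] (x : 𝟙_ (Over (Spec (CommRingCat.of k))) ⟶ X) :
    ∃ g : 𝟙_ (Over (Spec (CommRingCat.of k))) ⟶ G, g ≫ p = x := by
  have : JacobsonSpace G.left := LocallyOfFiniteType.jacobsonSpace G.hom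
  have hw : x.left ≫ X.hom = 𝟙 _ := Over.w x
  let pt : ↥(Spec (CommRingCat.of k)) := IsLocalRing.closedPoint k
  have hclosed : IsClosed ({x.left pt} : Set X.left) := ((pointEquivClosedPoint X.hom) ⟨x.left, hw⟩).2
  obtain ⟨y, hy⟩ := p.left.surjective (x.left pt)
  obtain ⟨c, hc1, hc⟩ := nonempty_inter_closedPoints (Z := p.left ⁻¹' {x.left pt}) ⟨y, hy⟩
    (hclosed.preimage p.left.continuous).isLocallyClosed
  let s := (pointEquivClosedPoint G.hom).symm ⟨c, hc⟩
  have hsc : s.1 pt = c := congrArg Subtype.val ((pointEquivClosedPoint G.hom).apply_symm_apply ⟨c, hc⟩)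
  refine ⟨Over.homMk s.1 s.2, Over.OverMorphism.ext (ext_of_apply_closedPoint_eq X.hom ?_ hw ?_)⟩
  · show (s.1 ≫ p.left) ≫ X.hom = 𝟙 _
    rw [Category.assoc, Over.w p, s.2]
  · show p.left (s.1 pt) = x.left pt
    rw [hsc]
    exact hc1

variable [IsAffine G.left] [Smooth G.hom]

/-- A connected solvable subgroup is conjugate into any subgroup with proper quotient. -/
theorem exists_conj_le {B' B X : Over (Spec (CommRingCat.of k))} [GrpObj B'] [GrpObj B] (i' : B' ⟶ G) [IsMonHom i']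
    [IsClosedImmersion i'.left] [Smooth B'.hom] [ConnectedSpace B'.left] (hs : Red.IsSolvableGrp B') (i : B ⟶ G)
    {a : AlgGrp.Action G X} {o : 𝟙_ (Over (Spec (CommRingCat.of k))) ⟶ X} (hX : AGF.IsQuotient i X a o)
    [IsProper X.hom] :
    ∃ (g : 𝟙_ (Over (Spec (CommRingCat.of k))) ⟶ G) (f : B' ⟶ B), f ≫ i = AGF.conjBy g⁻¹ i' := by
  have : IsAffine B'.left := isAffine_of_isAffineHom i'.left
  have := isSolvable_points hs
  have : Nonempty X.left := ⟨o.left (IsLocalRing.closedPoint k)⟩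
  obtain ⟨x, hx⟩ := exists_fixedPt (resAction a i')
  obtain ⟨-, hfl, hsur, sq⟩ := hX
  have := hsur
  obtain ⟨g, hg⟩ := exists_point_over (a.orbitMap o) x
  have h1 := hx B' (𝟙 B')
  rw [resAction_act, Category.id_comp, ← hg, ← Category.assoc (toUnit B'), ← Quot.mul_orbitMap, eq_comm,
    Quot.orbit_eq_iff sq] at h1
  obtain ⟨f, hf⟩ := h1
  refine ⟨g, f, ?_⟩
  rw [AGF.conjBy, GrpObj.comp_inv, _root_.inv_inv, _root_.mul_assoc, hf, inv_mul_cancel_left]

/-- A conjugate of a Borel subgroup is a Borel subgroup. -/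
theorem isBorelOver_conjBy {B : Over (Spec (CommRingCat.of k))} [GrpObj B] {i : B ⟶ G}
    (hB : Red.IsBorelOver k i) (g : 𝟙_ (Over (Spec (CommRingCat.of k))) ⟶ G) :
    Red.IsBorelOver k (AGF.conjBy g i) := by
  obtain ⟨hm, hc, hsm, hcn, hs, hmax⟩ := hB
  have := hm
  have := hc
  refine ⟨inferInstance, inferInstance, hsm, hcn, hs, fun B' _ i' _ f hc' hsm' hcn' hs' hf => ?_⟩
  have := hc'
  exact hmax B' (AGF.conjBy g⁻¹ i') f inferInstance hsm' hcn' hs'
    (by rw [comp_conjBy, hf, conjBy_inv_cancel'])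

/-- A connected solvable subgroup with proper quotient is a Borel subgroup. -/
theorem isBorelOver_of_isProper {H X : Over (Spec (CommRingCat.of k))} [GrpObj H] (iH : H ⟶ G) [IsMonHom iH]
    [IsClosedImmersion iH.left] [Smooth H.hom] [ConnectedSpace H.left] (hs : Red.IsSolvableGrp H)
    {a : AlgGrp.Action G X} {o : 𝟙_ (Over (Spec (CommRingCat.of k))) ⟶ X} (hX : AGF.IsQuotient iH X a o)
    [IsProper X.hom] : Red.IsBorelOver k iH := by
  refine ⟨‹_›, ‹_›, ‹_›, ‹_›, hs, fun B' _ i' _ f hc' hsm' hcn' hs' hf => ?_⟩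
  have := hc'
  have := hsm'
  have := hcn'
  obtain ⟨g, h, hh⟩ := exists_conj_le i' hs' iH hX
  have e : (h ≫ f) ≫ i' = AGF.conjBy g⁻¹ i' := by rw [Category.assoc, hf, hh]
  have : IsAffine B'.left := isAffine_of_isAffineHom i'.left
  have : IsLocallyNoetherian B'.left := LocallyOfFiniteType.isLocallyNoetherian B'.hom
  have : IsReduced B'.left := isReduced_of_smooth
  have : IsClosedImmersion ((h ≫ f).left ≫ i'.left) := by rw [← Over.comp_left, e]; infer_instance
  have : IsClosedImmersion (h ≫ f).left := IsClosedImmersion.of_comp _ i'.left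
  have := isIso_of_endo (h ≫ f)
  have : IsClosedImmersion (f.left ≫ i'.left) := by rw [← Over.comp_left, hf]; infer_instance
  have : IsClosedImmersion f.left := IsClosedImmersion.of_comp _ i'.left
  have : Mono f.left := inferInstance
  have : Mono f := Over.mono_of_mono_left f
  have hsec : (inv (h ≫ f) ≫ h) ≫ f = 𝟙 B' := by rw [Category.assoc, IsIso.inv_hom_id]
  exact ⟨inv (h ≫ f) ≫ h, by rw [← cancel_mono f, Category.assoc, hsec, Category.comp_id, Category.id_comp], hsec⟩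

variable [ConnectedSpace G.left]

/-- A group has a Borel subgroup with proper quotient. -/
theorem exists_borel_proper :
    ∃ (B : Over (Spec (CommRingCat.of k))) (_ : GrpObj B) (i : B ⟶ G), Red.IsBorelOver k i ∧
      ∀ (X : Over (Spec (CommRingCat.of k))) (a : AlgGrp.Action G X)
        (o : 𝟙_ (Over (Spec (CommRingCat.of k))) ⟶ X), AGF.IsQuotient i X a o → IsProper X.hom := by
  obtain ⟨B, _, i, _, _, _, _, hs, hp⟩ := exists_solvable_proper (G := G)
  refine ⟨B, inferInstance, i, ?_, hp⟩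
  have : IsAffine B.left := isAffine_of_isAffineHom i.left
  have : Mono i.left := inferInstance
  have : Mono i := Over.mono_of_mono_left i
  obtain ⟨Y, b, y, hY1, -, hY2, hY3, hY4⟩ := GrpSchLib.HomogeneousQuot.exists_quot G B i
  have hY : AGF.IsQuotient i Y b y := ⟨hY1, hY2, hY3, hY4⟩
  have := hp Y b y hY
  exact isBorelOver_of_isProper i hs hY

/-- Borel subgroups are conjugate. -/
theorem borel_conj {B B' : Over (Spec (CommRingCat.of k))} [GrpObj B] [GrpObj B'] {iB : B ⟶ G} {iB' : B' ⟶ G}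
    (hB : Red.IsBorelOver k iB) (hB' : Red.IsBorelOver k iB') :
    ∃ (g : 𝟙_ (Over (Spec (CommRingCat.of k))) ⟶ G) (f : B ≅ B'), f.hom ≫ iB' = AGF.conjBy g iB := by
  obtain ⟨B₀, _, i₀, h₀, hp⟩ := exists_borel_proper (G := G)
  obtain ⟨hm₀, hc₀, hsm₀, hcn₀, hs₀, -⟩ := h₀
  have := hm₀
  have := hc₀
  have := hsm₀
  have : IsAffine B₀.left := isAffine_of_isAffineHom i₀.left
  have : Mono i₀.left := inferInstance
  have : Mono i₀ := Over.mono_of_mono_left i₀
  obtain ⟨Y, b, y, hY1, -, hY2, hY3, hY4⟩ := GrpSchLib.HomogeneousQuot.exists_quot G B₀ i₀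
  have := hp Y b y ⟨hY1, hY2, hY3, hY4⟩
  have key : ∀ (C : Over (Spec (CommRingCat.of k))) [GrpObj C] (iC : C ⟶ G), Red.IsBorelOver k iC →
      ∃ (g : 𝟙_ (Over (Spec (CommRingCat.of k))) ⟶ G) (f : C ⟶ B₀), IsIso f ∧ f ≫ i₀ = AGF.conjBy g iC := by
    intro C _ iC hC
    obtain ⟨hm, hc, hsm, hcn, hs, hmax⟩ := hC
    have := hm
    have := hc
    have := hsm
    have := hcn
    obtain ⟨g, f, hf⟩ := exists_conj_le iC hs i₀ (a := b) (o := y) ⟨hY1, hY2, hY3, hY4⟩
    refine ⟨g⁻¹, f, hmax B₀ (AGF.conjBy g i₀) f inferInstance hsm₀ hcn₀ hs₀ ?_, hf⟩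
    rw [comp_conjBy, hf, conjBy_inv_cancel]
  obtain ⟨g, f, hfi, hf⟩ := key B iB hB
  obtain ⟨g', f', hfi', hf'⟩ := key B' iB' hB'
  refine ⟨g'⁻¹ * g, asIso f ≪≫ (asIso f').symm, ?_⟩
  have h2 : iB' = AGF.conjBy g'⁻¹ (f' ≫ i₀) := by rw [hf', conjBy_inv_cancel']
  show (f ≫ inv f') ≫ iB' = _
  rw [h2, comp_conjBy, Category.assoc, IsIso.inv_hom_id_assoc, hf, conjBy_conjBy]

/-- The quotient by a Borel subgroup is proper. -/
theorem isProper_of_isBorelOver {B X : Over (Spec (CommRingCat.of k))} [GrpObj B] {iB : B ⟶ G}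
    (hB : Red.IsBorelOver k iB) {a : AlgGrp.Action G X} {o : 𝟙_ (Over (Spec (CommRingCat.of k))) ⟶ X}
    (hX : AGF.IsQuotient iB X a o) : IsProper X.hom := by
  obtain ⟨B₀, _, i₀, h₀, hp⟩ := exists_borel_proper (G := G)
  obtain ⟨g, f, hf⟩ := borel_conj h₀ hB
  have := h₀.2.1
  have : Mono i₀.left := inferInstance
  have : Mono i₀ := Over.mono_of_mono_left i₀
  exact hp X a _ (isQuotient_translate i₀ hX g f hf)

/-- A smooth closed subgroup has proper quotient iff it is parabolic. -/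
theorem isProper_iff_isParabolicOver {P X : Over (Spec (CommRingCat.of k))} [GrpObj P] (iP : P ⟶ G) [IsMonHom iP]
    [IsClosedImmersion iP.left] [Smooth P.hom] {a : AlgGrp.Action G X}
    {o : 𝟙_ (Over (Spec (CommRingCat.of k))) ⟶ X} (hX : AGF.IsQuotient iP X a o) :
    IsProper X.hom ↔ Red.IsParabolicOver k iP := by
  constructor
  · intro hp
    obtain ⟨B₀, _, i₀, h₀, -⟩ := exists_borel_proper (G := G)
    have := h₀.1
    have := h₀.2.1
    have := h₀.2.2.1
    have := h₀.2.2.2.1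
    obtain ⟨g, f, hf⟩ := exists_conj_le i₀ h₀.2.2.2.2.1 iP hX
    exact ⟨‹_›, ‹_›, ‹_›, B₀, inferInstance, f, hf ▸ isBorelOver_conjBy h₀ g⁻¹⟩
  · rintro ⟨-, -, -, B, _, b, hb⟩
    have := hb.1
    have := hb.2.1
    have := hb.2.2.1
    have : IsAffine B.left := isAffine_of_isAffineHom (b ≫ iP).left
    have : Mono (b ≫ iP).left := inferInstance
    have : Mono (b ≫ iP) := Over.mono_of_mono_left _
    obtain ⟨Y, c, y, hY1, -, hY2, hY3, hY4⟩ := GrpSchLib.HomogeneousQuot.exists_quot G B (b ≫ iP)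
    have hY : AGF.IsQuotient (b ≫ iP) Y c y := ⟨hY1, hY2, hY3, hY4⟩
    have := isProper_of_isBorelOver hb hY
    have := Quot.isSeparated_quotient hX
    obtain ⟨hl, -, -, -⟩ := Quot.facts hX
    obtain ⟨-, -, hlfp, -⟩ := Quot.facts hY
    have := hl
    have := hlfp
    have := hY2
    have := hY3
    obtain ⟨π, hπ⟩ := GrpSchLib.OrbitImmersion.exists_desc hY4 (a.orbitMap o) (by
      refine (Quot.orbit_eq_iff hX.2.2.2 _ _).mpr ⟨snd G B ≫ b, ?_⟩
      rw [← Category.id_comp ((G ◁ (b ≫ iP)) ≫ μ[G]), Quot.lift_whisker_mul, Category.id_comp, Category.id_comp,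
        Category.assoc])
    have : Surjective π.left := by
      have : Surjective ((c.orbitMap y).left ≫ π.left) := by rw [← Over.comp_left, hπ]; exact hX.2.2.1
      exact Surjective.of_comp (c.orbitMap y).left π.left
    have : UniversallyClosed (π.left ≫ X.hom) := by rw [Over.w π]; infer_instance
    have := UniversallyClosed.of_comp_surjective π.left X.hom
    exact ⟨⟩

/-- Homomorphisms agreeing on a Borel subgroup are equal. -/
theorem hom_eq_of_eq_on_borel {G' B : Over (Spec (CommRingCat.of k))} [GrpObj G'] [IsAffine G'.left] [GrpObj B]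
    {iB : B ⟶ G} (hB : Red.IsBorelOver k iB) (φ₁ φ₂ : G ⟶ G') [IsMonHom φ₁] [IsMonHom φ₂]
    (h : iB ≫ φ₁ = iB ≫ φ₂) : φ₁ = φ₂ := by
  have := hB.1
  have := hB.2.1
  have := hB.2.2.1
  have : IsAffine B.left := isAffine_of_isAffineHom iB.left
  have : Mono iB.left := inferInstance
  have : Mono iB := Over.mono_of_mono_left iB
  obtain ⟨Y, c, y, hY1, -, hY2, hY3, hY4⟩ := GrpSchLib.HomogeneousQuot.exists_quot G B iB
  have hY : AGF.IsQuotient iB Y c y := ⟨hY1, hY2, hY3, hY4⟩
  have := isProper_of_isBorelOver hB hY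
  obtain ⟨-, -, hlfp, -⟩ := Quot.facts hY
  have := hlfp
  have := hY2
  have := hY3
  let δ : G ⟶ G' := φ₁ * φ₂⁻¹
  obtain ⟨d, hd⟩ := GrpSchLib.OrbitImmersion.exists_desc hY4 δ (by
    have e : ∀ (φ : G ⟶ G') [IsMonHom φ],
        ((G ◁ iB) ≫ μ[G]) ≫ φ = (fst G B ≫ φ) * (snd G B ≫ iB ≫ φ) := fun φ _ => by
      rw [← Category.id_comp ((G ◁ iB) ≫ μ[G]), Quot.lift_whisker_mul, MonObj.mul_comp, Category.id_comp,
        Category.id_comp, Category.assoc]
    simp only [δ, MonObj.comp_mul, GrpObj.comp_inv, e, h]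
    group)
  have : IsReduced G.left := GrpSchLib.isReduced_of_smooth_field G.hom
  have : IsReduced Y.left := FBaseLib.isReduced_of_flat_surjective (c.orbitMap y).left
  have : IrreducibleSpace G.left := S0348.result k G
  have : IrreducibleSpace Y.left :=
    irreducibleSpace_of_surjective (c.orbitMap y).left.continuous (c.orbitMap y).left.surjective
  have : IsIntegral Y.left := isIntegral_of_irreducibleSpace_of_isReduced Y.left
  have hconst := GrpSchLib.AntiAffine.eq_const_of_isAffine (bijective_appTop_of_integral Y) d (η[G] ≫ c.orbitMap y)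
  have hδ : δ = toUnit G ≫ η[G] ≫ δ := by
    rw [← hd]
    conv_lhs => rw [hconst]
    rw [← Category.assoc (c.orbitMap y), comp_toUnit, Category.assoc]
  have h1 : η[G] ≫ δ = 1 := by
    simp only [δ, MonObj.comp_mul, GrpObj.comp_inv, IsMonHom.one_hom, mul_inv_cancel]
  rw [h1, MonObj.comp_one] at hδ
  exact mul_inv_eq_one.mp hδ

/-- The only Borel subgroup of a solvable group is the group itself. -/
theorem isIso_borel_of_isSolvableGrp (hs : Red.IsSolvableGrp G) {B : Over (Spec (CommRingCat.of k))} [GrpObj B]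
    {iB : B ⟶ G} (hB : Red.IsBorelOver k iB) : IsIso iB :=
  hB.2.2.2.2.2 G (𝟙 G) iB inferInstance inferInstance inferInstance hs (Category.comp_id iB)

end Groth.Agent.AGFRoot
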