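import Groth.Agent.GrpSchLib.ProjLine
import Groth.Agent.GrpSchLib.LineVec
import Groth.Agent.GrpSchLib.Action
import Groth.Agent.PnCoh.Chow.Proper
import Groth.Prelude.Def_AlgGrp

/-!
# Points of projective space as lines, and linear actions on projective space
-/

set_option autoImplicit false
set_option backward.isDefEq.respectTransparency false
set_option linter.style.haveILetI false

universe u

open CategoryTheory CategoryTheory.Limits MonoidalCategory CartesianMonoidalCategory MonObj AlgebraicGeometry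

namespace Groth.Agent.AGFRoot.ProjAct

open GrpSchLib.Kunneth GrpSchLib.ProjLine

variable {k : Type u} [Field k] {n : ℕ} {T R : Over (Spec (CommRingCat.of k))}

theorem isProper_Pn : IsProper (Pn k n).hom := PnCoh.Chow.isProper_toSpec n k

section Cover

variable {J : Type} (V : J → T.left.Opens)

/-- An open piece. -/
noncomputable abbrev piece (i : J) : Over (Spec (CommRingCat.of k)) := Over.mk ((V i).ι ≫ T.hom)

/-- The inclusion of an open piece. -/
noncomputable abbrev pieceι (i : J) : piece V i ⟶ T := Over.homMk (V i).ι rfl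

variable {V} (hV : ∀ p, ∃ i, p ∈ V i)
include hV

theorem isOpenCover : TopologicalSpace.IsOpenCover V :=
  TopologicalSpace.IsOpenCover.mk (eq_top_iff.2 fun p _ => TopologicalSpace.Opens.mem_iSup.2 (hV p))

theorem hom_ext_pieces {Z : Over (Spec (CommRingCat.of k))} {f g : T ⟶ Z}
    (h : ∀ i, pieceι V i ≫ f = pieceι V i ≫ g) : f = g :=
  Over.OverMorphism.ext (Scheme.Cover.hom_ext (T.left.openCoverOfIsOpenCover V (isOpenCover hV)) _ _
    fun i => congrArg CommaMorphism.left (h i))

theorem fn_ext_pieces {a b : Fn T} (h : ∀ i, ev (pieceι V i) a = ev (pieceι V i) b) : a = b := by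
  refine sub_eq_zero.mp (Scheme.zero_of_zero_cover _ (T.left.openCoverOfIsOpenCover V (isOpenCover hV)) fun i => ?_)
  show ev (pieceι V i) (a - b) = 0
  rw [map_sub, h, sub_self]

theorem exists_glue {Z : Over (Spec (CommRingCat.of k))} (f : ∀ i, piece V i ⟶ Z)
    (h : ∀ (R : Over (Spec (CommRingCat.of k))) i j (a : R ⟶ piece V i) (b : R ⟶ piece V j),
      a ≫ pieceι V i = b ≫ pieceι V j → a ≫ f i = b ≫ f j) : ∃ φ : T ⟶ Z, ∀ i, pieceι V i ≫ φ = f i := by
  let 𝒰 : T.left.OpenCover := T.left.openCoverOfIsOpenCover V (isOpenCover hV)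
  let φ₀ : T.left ⟶ Z.left := 𝒰.glueMorphisms (fun i => (f i).left) fun i j => by
    let R : Over (Spec (CommRingCat.of k)) := Over.mk (pullback.fst (𝒰.f i) (𝒰.f j) ≫ (piece V i).hom)
    let a : R ⟶ piece V i := Over.homMk (pullback.fst (𝒰.f i) (𝒰.f j)) rfl
    let b : R ⟶ piece V j := Over.homMk (pullback.snd (𝒰.f i) (𝒰.f j)) (by
      show pullback.snd (𝒰.f i) (𝒰.f j) ≫ 𝒰.f j ≫ T.hom = pullback.fst (𝒰.f i) (𝒰.f j) ≫ 𝒰.f i ≫ T.hom
      rw [← pullback.condition_assoc])
    exact congrArg CommaMorphism.left (h R i j a b (Over.OverMorphism.ext pullback.condition))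
  have hφ₀ : ∀ i, 𝒰.f i ≫ φ₀ = (f i).left := fun i => Scheme.Cover.ι_glueMorphisms 𝒰 _ _ i
  refine ⟨Over.homMk φ₀ (Scheme.Cover.hom_ext 𝒰 _ _ fun i => by
    rw [← Category.assoc, hφ₀]
    exact Over.w (f i)), fun i => Over.OverMorphism.ext (hφ₀ i)⟩

end Cover

/-- A vector of functions without common zero. -/
def Unimodular (v : Fin (n + 1) → Fn T) : Prop := ∃ α : Fin (n + 1) → Fn T, ∑ l, α l * v l = 1

theorem Unimodular.comp {v : Fin (n + 1) → Fn T} (h : Unimodular v) (g : R ⟶ T) :
    Unimodular (T := R) fun l => GrpSchLib.Kunneth.ev g (v l) := by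
  obtain ⟨α, hα⟩ := h
  exact ⟨fun l => GrpSchLib.Kunneth.ev g (α l), by simp only [← map_mul, ← map_sum, hα, map_one]⟩

theorem unimodular_of_isUnit {v : Fin (n + 1) → Fn T} {i : Fin (n + 1)} (h : IsUnit (v i)) : Unimodular v := by
  obtain ⟨u, hu⟩ := h
  exact ⟨Pi.single i ↑u⁻¹, by simp [Pi.single_apply, ← hu]⟩

/-- The open pieces where a coordinate is invertible. -/
noncomputable abbrev vOpen (v : Fin (n + 1) → Fn T) (i : Fin (n + 1)) : T.left.Opens := T.left.basicOpen (v i)

theorem Unimodular.cover {v : Fin (n + 1) → Fn T} (h : Unimodular v) (p : T.left) : ∃ i, p ∈ vOpen v i := by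
  obtain ⟨α, h1⟩ := h
  by_contra hne
  push Not at hne
  have hm : (∑ l, T.left.presheaf.germ ⊤ p trivial (α l) * T.left.presheaf.germ ⊤ p trivial (v l)) ∈
      IsLocalRing.maximalIdeal (T.left.presheaf.stalk p) :=
    Ideal.sum_mem _ fun l _ => Ideal.mul_mem_left _ _ (by
      rw [IsLocalRing.mem_maximalIdeal, mem_nonunits_iff, ← Scheme.mem_basicOpen_top T.left (v l) p]
      exact hne l)
  simp only [← map_mul, ← map_sum, h1, map_one] at hm
  exact (IsLocalRing.maximalIdeal.isMaximal _).ne_top ((Ideal.eq_top_iff_one _).mpr hm)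

theorem isUnit_piece (v : Fin (n + 1) → Fn T) (i : Fin (n + 1)) : IsUnit (ev (pieceι (vOpen v) i) (v i)) := by
  have h : (vOpen v i).toScheme.basicOpen (ev (pieceι (vOpen v) i) (v i)) = ⊤ := by
    rw [ev_apply]
    erw [← Scheme.preimage_basicOpen_top]
    exact (T.left.basicOpen (v i)).ι_preimage_self
  refine (vOpen v i).toScheme.toLocallyRingedSpace.toRingedSpace.isUnit_of_isUnit_germ ⊤ _ fun x hx => ?_
  exact ((vOpen v i).toScheme.mem_basicOpen_top (ev (pieceι (vOpen v) i) (v i)) x).mp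
    ((SetLike.ext_iff.mp h x).mpr hx)

/-- Two vectors span the same line. -/
def Cross (v w : Fin (n + 1) → Fn T) : Prop := ∀ x q, v x * w q = v q * w x

/-- The point of projective space `p` is the line of `v`. -/
def IsLine (p : T ⟶ Pn k n) (v : Fin (n + 1) → Fn T) : Prop :=
  Unimodular v ∧ ∀ (R : Over (Spec (CommRingCat.of k))) (g : R ⟶ T) (i : Fin (n + 1))
    (hu : IsUnit (ev g (v i))), g ≫ p = pv (fun l => ev g (v l)) i hu

theorem IsLine.comp {p : T ⟶ Pn k n} {v : Fin (n + 1) → Fn T} (h : IsLine p v) (g : R ⟶ T) :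
    IsLine (g ≫ p) fun l => ev g (v l) :=
  ⟨h.1.comp g, fun S f i hu => by rw [← Category.assoc]; exact h.2 S (f ≫ g) i hu⟩

theorem isLine_pv (v : Fin (n + 1) → Fn T) (i : Fin (n + 1)) (hu : IsUnit (v i)) : IsLine (pv v i hu) v :=
  ⟨unimodular_of_isUnit hu, fun R g j hj => by rw [comp_pv, pv_eq_iff]; exact fun x q => mul_comm _ _⟩

theorem exists_isLine (v : Fin (n + 1) → Fn T) (hv : Unimodular v) : ∃ p : T ⟶ Pn k n, IsLine p v := by
  obtain ⟨p, hp⟩ := exists_glue hv.cover (fun i => pv (fun l => ev (pieceι (vOpen v) i) (v l)) i (isUnit_piece v i))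
    fun R i j a b hab => by
      rw [comp_pv, comp_pv, pv_eq_iff]
      simp only [ev_ev, hab]
      exact fun x q => mul_comm _ _
  refine ⟨p, hv, fun R g j hj => ?_⟩
  refine hom_ext_pieces (V := fun i => g.left ⁻¹ᵁ vOpen v i) (fun q => hv.cover (g.left q)) fun i => ?_
  let r := pieceι (fun i => g.left ⁻¹ᵁ vOpen v i) i
  have hr : Set.range (r ≫ g).left ⊆ Set.range (vOpen v i).ι := by
    rintro _ ⟨t, rfl⟩
    rw [Scheme.Opens.range_ι]
    exact t.2
  let l : piece (fun i => g.left ⁻¹ᵁ vOpen v i) i ⟶ piece (vOpen v) i :=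
    Over.homMk (IsOpenImmersion.lift (vOpen v i).ι (r ≫ g).left hr) (by
      show _ ≫ (vOpen v i).ι ≫ T.hom = _
      rw [IsOpenImmersion.lift_fac_assoc, Over.w (r ≫ g)])
  have hl : l ≫ pieceι (vOpen v) i = r ≫ g := Over.OverMorphism.ext (IsOpenImmersion.lift_fac _ _ _)
  show r ≫ g ≫ p = r ≫ pv _ _ _
  rw [← reassoc_of% hl, hp, comp_pv, comp_pv, pv_eq_iff]
  simp only [ev_ev, hl]
  exact fun x q => mul_comm _ _

theorem IsLine.eq_of_cross {p q : T ⟶ Pn k n} {v w : Fin (n + 1) → Fn T} (hp : IsLine p v) (hq : IsLine q w)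
    (h : Cross v w) : p = q := by
  refine hom_ext_pieces hp.1.cover fun i => ?_
  let w' := fun l => ev (pieceι (vOpen v) i) (w l)
  refine hom_ext_pieces (hq.1.comp (pieceι (vOpen v) i)).cover fun j => ?_
  rw [← Category.assoc, ← Category.assoc, hp.2 _ (pieceι (vOpen w') j ≫ pieceι (vOpen v) i) i ?_,
    hq.2 _ (pieceι (vOpen w') j ≫ pieceι (vOpen v) i) j ?_, pv_eq_iff]
  · exact fun x y => by simp only [← map_mul, h x y]
  · rw [← ev_ev]; exact isUnit_piece w' j
  · rw [← ev_ev]; exact (isUnit_piece v i).map _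

theorem IsLine.cross {p : T ⟶ Pn k n} {v w : Fin (n + 1) → Fn T} (hp : IsLine p v) (hq : IsLine p w) :
    Cross v w := by
  intro x y
  refine fn_ext_pieces hp.1.cover fun i => ?_
  let w' := fun l => ev (pieceι (vOpen v) i) (w l)
  refine fn_ext_pieces (hq.1.comp (pieceι (vOpen v) i)).cover fun j => ?_
  have h1 : IsUnit (ev (pieceι (vOpen w') j ≫ pieceι (vOpen v) i) (v i)) := by
    rw [← ev_ev]; exact (isUnit_piece v i).map _
  have h2 : IsUnit (ev (pieceι (vOpen w') j ≫ pieceι (vOpen v) i) (w j)) := by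
    rw [← ev_ev]; exact isUnit_piece w' j
  have h := (pv_eq_iff _ _ i j h1 h2).mp ((hp.2 _ _ i h1).symm.trans (hq.2 _ _ j h2))
  simp only [ev_ev, map_mul]
  exact h x y

/-- The standard chart. -/
noncomputable abbrev chart (k : Type u) [Field k] {n : ℕ} (i : Fin (n + 1)) : Over (Spec (CommRingCat.of k)) :=
  Over.mk (Proj.awayι (CohB1.polyGrading n k) (MvPolynomial.X i) (ProjPt.X_mem i) one_pos ≫ (Pn k n).hom)

/-- The inclusion of the standard chart. -/
noncomputable abbrev chartι (k : Type u) [Field k] {n : ℕ} (i : Fin (n + 1)) : chart k i ⟶ Pn k n :=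
  Over.homMk (Proj.awayι (CohB1.polyGrading n k) (MvPolynomial.X i) (ProjPt.X_mem i) one_pos) rfl

instance isOpenImmersion_chartι (i : Fin (n + 1)) : IsOpenImmersion (chartι k i).left :=
  inferInstanceAs (IsOpenImmersion (Proj.awayι (CohB1.polyGrading n k) (MvPolynomial.X i) (ProjPt.X_mem i) one_pos))

/-- The coordinates on the standard chart. -/
noncomputable def chartVec (k : Type u) [Field k] {n : ℕ} (i : Fin (n + 1)) (l : Fin (n + 1)) : Fn (chart k i) :=
  (Scheme.ΓSpecIso (CommRingCat.of _)).inv (ProjPt.crd (R := k) i l)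

theorem chartVec_self (i : Fin (n + 1)) : chartVec k i i = 1 := by
  rw [chartVec, ProjPt.crd_self]
  exact map_one _

theorem isLine_chartι (i : Fin (n + 1)) : IsLine (chartι k i) (chartVec k i) := by
  have h1 : IsUnit (chartVec k i i) := by rw [chartVec_self]; exact isUnit_one
  have e : chartι k i = pv (chartVec k i) i h1 := by
    refine Over.OverMorphism.ext ?_
    let u := (Scheme.ΓSpecIso (CommRingCat.of (HomogeneousLocalization.Away (CohB1.polyGrading n k) (MvPolynomial.X i)))).inv.hom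
    have hc : u.comp (ProjPt.cst i) = str (chart k i) := by
      have hw : Proj.awayι (CohB1.polyGrading n k) (MvPolynomial.X i) (ProjPt.X_mem i) one_pos ≫ (Pn k n).hom =
          Spec.map (CommRingCat.ofHom (ProjPt.cst (R := k) i)) := by
        show _ ≫ Proj.toSpecZero (CohB1.polyGrading n k) ≫ _ = _
        rw [Proj.awayι_toSpecZero_assoc, ← Spec.map_comp, ← CommRingCat.ofHom_comp]
        rfl
      show u.comp (ProjPt.cst i) = ((Scheme.ΓSpecIso (CommRingCat.of k)).inv ≫ (chart k i).hom.appTop).hom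
      rw [show (chart k i).hom = Spec.map (CommRingCat.ofHom (ProjPt.cst (R := k) i)) from hw]
      rw [← Scheme.ΓSpecIso_inv_naturality]
      rfl
    have hu : IsUnit (MvPolynomial.eval₂Hom (u.comp (ProjPt.cst i)) (fun l => u (ProjPt.crd i l)) (MvPolynomial.X i)) := by
      rw [MvPolynomial.eval₂Hom_X']; exact h1
    have hcoord := ProjPt.eq_coordHom i u hu
    show _ = ProjPt.pt _ _ _ _ _
    have key : ∀ (f : MvPolynomial (Fin (n + 1)) k →+* Γ((chart k i).left, ⊤)) (hf : IsUnit (f (MvPolynomial.X i))),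
        f = MvPolynomial.eval₂Hom (u.comp (ProjPt.cst i)) (fun l => u (ProjPt.crd i l)) →
        ProjPt.pt (CohB1.polyGrading n k) f (ProjPt.X_mem i) one_pos hf = (chartι k i).left := by
      rintro f hf rfl
      rw [ProjPt.pt, ← hcoord]
      show (chart k i).left.toSpecΓ ≫ Spec.map (Scheme.ΓSpecIso (CommRingCat.of _)).inv ≫ _ = _
      rw [← Category.assoc]
      erw [toSpecΓ_SpecMap_ΓSpecIso_inv]
      exact Category.id_comp _
    exact (key _ _ (by rw [hc]; rfl)).symm
  rw [e]
  exact isLine_pv _ _ h1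

/-- The preimages of the standard charts. -/
noncomputable abbrev xOpen (x : T ⟶ Pn k n) (i : Fin (n + 1)) : T.left.Opens :=
  x.left ⁻¹ᵁ (chartι k i).left.opensRange

theorem xOpen_cover (x : T ⟶ Pn k n) (p : T.left) : ∃ i, p ∈ xOpen x i := by
  have h : ⨆ i, (chartι k (n := n) i).left.opensRange = ⊤ := by
    simp only [Proj.opensRange_awayι, Over.homMk_left]
    refine Proj.iSup_basicOpen_eq_top' (CohB1.polyGrading n k) _ (fun i => ⟨1, ProjPt.X_mem i⟩) ?_
    refine Algebra.eq_top_iff.mpr fun q => ?_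
    induction q using MvPolynomial.induction_on with
    | C r => exact Subalgebra.algebraMap_mem _ (⟨_, (MvPolynomial.mem_homogeneousSubmodule _ _).mpr
        (MvPolynomial.isHomogeneous_C _ r)⟩ : CohB1.polyGrading n k 0)
    | add p q hp hq => exact add_mem hp hq
    | mul_X p j hp => exact mul_mem hp (Algebra.subset_adjoin ⟨j, rfl⟩)
  have h2 : x.left p ∈ ⨆ i, (chartι k (n := n) i).left.opensRange := by rw [h]; trivial
  obtain ⟨i, hi⟩ := TopologicalSpace.Opens.mem_iSup.mp h2
  exact ⟨i, hi⟩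

theorem exists_line_piece (x : T ⟶ Pn k n) (i : Fin (n + 1)) :
    ∃ v, IsLine (pieceι (xOpen x) i ≫ x) v := by
  have hr : Set.range (pieceι (xOpen x) i ≫ x).left ⊆ Set.range (chartι k i).left := by
    rintro _ ⟨t, rfl⟩
    exact t.2
  let l : piece (xOpen x) i ⟶ chart k i :=
    Over.homMk (IsOpenImmersion.lift (chartι k i).left (pieceι (xOpen x) i ≫ x).left hr) (by
      show _ ≫ (chartι k i).left ≫ (Pn k n).hom = _
      rw [IsOpenImmersion.lift_fac_assoc, Over.w (pieceι (xOpen x) i ≫ x)])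
  have hl : l ≫ chartι k i = pieceι (xOpen x) i ≫ x := Over.OverMorphism.ext (IsOpenImmersion.lift_fac _ _ _)
  exact ⟨_, hl ▸ (isLine_chartι i).comp l⟩

variable {G : Over (Spec (CommRingCat.of k))} [GrpObj G]

/-- A matrix of functions on a group is a representation. -/
structure IsMatRep (M : Fin (n + 1) → Fin (n + 1) → Fn G) : Prop where
  mul : ∀ (T : Over (Spec (CommRingCat.of k))) (g h : T ⟶ G) (x t : Fin (n + 1)),
    ev (g * h) (M x t) = ∑ s, ev g (M x s) * ev h (M s t)
  one : ∀ (T : Over (Spec (CommRingCat.of k))) (x t : Fin (n + 1)),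
    ev (1 : T ⟶ G) (M x t) = if x = t then 1 else 0

/-- A vector moved by a point of the group. -/
noncomputable def moveVec (M : Fin (n + 1) → Fin (n + 1) → Fn G) (g : T ⟶ G) (v : Fin (n + 1) → Fn T)
    (x : Fin (n + 1)) : Fn T := ∑ s, ev g (M x s) * v s

variable {M : Fin (n + 1) → Fin (n + 1) → Fn G} (hM : IsMatRep M)
include hM

theorem moveVec_mul (g h : T ⟶ G) (v : Fin (n + 1) → Fn T) :
    moveVec M g (moveVec M h v) = moveVec M (g * h) v := by
  funext x
  simp only [moveVec, hM.mul, Finset.mul_sum, Finset.sum_mul, _root_.mul_assoc]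
  rw [Finset.sum_comm]

theorem moveVec_one (v : Fin (n + 1) → Fn T) : moveVec M (1 : T ⟶ G) v = v := by
  funext x
  simp [moveVec, hM.one]

theorem unimodular_moveVec (g : T ⟶ G) {v : Fin (n + 1) → Fn T} (h : Unimodular v) : Unimodular (moveVec M g v) := by
  obtain ⟨α, hα⟩ := h
  refine ⟨fun s => ∑ x, α x * ev g⁻¹ (M x s), ?_⟩
  have e : v = moveVec M g⁻¹ (moveVec M g v) := by rw [moveVec_mul hM, inv_mul_cancel, moveVec_one hM]
  rw [← hα]
  conv_rhs => rw [e]
  generalize moveVec M g v = w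
  simp only [moveVec, Finset.sum_mul, Finset.mul_sum, _root_.mul_assoc]
  exact Finset.sum_comm

omit hM in
theorem ev_moveVec (r : R ⟶ T) (g : T ⟶ G) (v : Fin (n + 1) → Fn T) (x : Fin (n + 1)) :
    ev r (moveVec M g v x) = moveVec M (r ≫ g) (fun l => ev r (v l)) x := by
  simp [moveVec, map_sum, ev_ev]

omit hM in
theorem cross_moveVec (g : T ⟶ G) {v w : Fin (n + 1) → Fn T} (h : Cross v w) :
    Cross (moveVec M g v) (moveVec M g w) := fun x q =>
  GrpSchLib.LineVec.prop_of_linear (fun x s => ev g (M x s)) v w h x q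

theorem exists_action : ∃ a : AlgGrp.Action G (Pn k n), ∀ (T : Over (Spec (CommRingCat.of k))) (g : T ⟶ G)
    (x : T ⟶ Pn k n) (v : Fin (n + 1) → Fn T), IsLine x v → IsLine (lift g x ≫ a.act) (moveVec M g v) := by
  let P := G ⊗ Pn k n
  let V := xOpen (snd G (Pn k n))
  choose v hv using exists_line_piece (snd G (Pn k n))
  choose p hp using fun i => exists_isLine _ (unimodular_moveVec hM (pieceι V i ≫ fst G (Pn k n)) (hv i).1)
  obtain ⟨act, hact⟩ := exists_glue (xOpen_cover (snd G (Pn k n))) p fun R i j a b hab => by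
    refine ((hp i).comp a).eq_of_cross ((hp j).comp b) ?_
    have h1 := (hv i).comp a
    have h2 := (hv j).comp b
    rw [reassoc_of% hab] at h1
    have e1 : (fun l => ev a (moveVec M (pieceι V i ≫ fst G (Pn k n)) (v i) l)) =
        moveVec M (b ≫ pieceι V j ≫ fst G (Pn k n)) (fun l => ev a (v i l)) := funext fun l => by
      rw [ev_moveVec, reassoc_of% hab]
    have e2 : (fun l => ev b (moveVec M (pieceι V j ≫ fst G (Pn k n)) (v j) l)) =
        moveVec M (b ≫ pieceι V j ≫ fst G (Pn k n)) (fun l => ev b (v j l)) := funext fun l => ev_moveVec ..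
    rw [e1, e2]
    exact cross_moveVec _ (h1.cross h2)
  have key : ∀ (T : Over (Spec (CommRingCat.of k))) (g : T ⟶ G) (x : T ⟶ Pn k n) (w : Fin (n + 1) → Fn T),
      IsLine x w → IsLine (lift g x ≫ act) (moveVec M g w) := by
    intro T g x w hw
    obtain ⟨p', hp'⟩ := exists_isLine _ (unimodular_moveVec hM g hw.1)
    suffices lift g x ≫ act = p' by rwa [this]
    refine hom_ext_pieces (xOpen_cover x) fun i => ?_
    let r := pieceι (xOpen x) i
    have hr : Set.range (r ≫ lift g x).left ⊆ Set.range (V i).ι := by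
      rintro _ ⟨t, rfl⟩
      rw [Scheme.Opens.range_ι]
      show (snd G (Pn k n)).left ((r ≫ lift g x).left t) ∈ (chartι k i).left.opensRange
      rw [← Scheme.Hom.comp_apply, ← Over.comp_left, Category.assoc, lift_snd]
      exact t.2
    let l : piece (xOpen x) i ⟶ piece V i :=
      Over.homMk (IsOpenImmersion.lift (V i).ι (r ≫ lift g x).left hr) (by
        show _ ≫ (V i).ι ≫ P.hom = _
        rw [IsOpenImmersion.lift_fac_assoc, Over.w (r ≫ lift g x)])
    have hl : l ≫ pieceι V i = r ≫ lift g x := Over.OverMorphism.ext (IsOpenImmersion.lift_fac _ _ _)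
    show r ≫ lift g x ≫ act = r ≫ p'
    rw [← reassoc_of% hl, hact]
    refine ((hp i).comp l).eq_of_cross (hp'.comp r) ?_
    have h1 := (hv i).comp l
    rw [reassoc_of% hl, lift_snd] at h1
    have e1 : (fun m => ev l (moveVec M (pieceι V i ≫ fst G (Pn k n)) (v i) m)) =
        moveVec M (r ≫ g) (fun m => ev l (v i m)) := funext fun m => by
      rw [ev_moveVec, reassoc_of% hl, lift_fst]
    have e2 : (fun m => ev r (moveVec M g w m)) = moveVec M (r ≫ g) (fun m => ev r (w m)) :=
      funext fun m => ev_moveVec ..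
    rw [e1, e2]
    exact cross_moveVec _ (h1.cross (hw.comp r))
  refine ⟨{ act := act, one_act := ?_, mul_act := ?_ }, key⟩
  · refine hom_ext_pieces (xOpen_cover (snd _ (Pn k n))) fun i => ?_
    obtain ⟨w, hw⟩ := exists_line_piece (snd (𝟙_ _) (Pn k n)) i
    let r := pieceι (xOpen (snd (𝟙_ (Over (Spec (CommRingCat.of k)))) (Pn k n))) i
    have h := key _ 1 _ w hw
    rw [moveVec_one hM] at h
    have e : r ≫ (η[G] ▷ Pn k n) = lift 1 (r ≫ snd _ _) := by
      apply CartesianMonoidalCategory.hom_ext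
      · rw [lift_fst, Category.assoc, whiskerRight_fst, ← Category.assoc, toUnit_unique (r ≫ fst _ _) (toUnit _)]
        rfl
      · rw [lift_snd, Category.assoc, whiskerRight_snd]
    show r ≫ (η[G] ▷ Pn k n) ≫ act = r ≫ (λ_ (Pn k n)).hom
    rw [← Category.assoc, e, leftUnitor_hom]
    exact h.eq_of_cross hw fun x q => mul_comm _ _
  · refine hom_ext_pieces (xOpen_cover (snd (G ⊗ G) (Pn k n))) fun i => ?_
    obtain ⟨w, hw⟩ := exists_line_piece (snd (G ⊗ G) (Pn k n)) i
    let r := pieceι (xOpen (snd (G ⊗ G) (Pn k n))) i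
    let g := r ≫ fst (G ⊗ G) (Pn k n) ≫ fst G G
    let h := r ≫ fst (G ⊗ G) (Pn k n) ≫ snd G G
    have h1 := key _ g _ _ (key _ h _ w hw)
    have h2 := key _ (g * h) _ w hw
    rw [moveVec_mul hM] at h1
    have e1 : r ≫ (μ[G] ▷ Pn k n) = lift (g * h) (r ≫ snd _ _) := by
      apply CartesianMonoidalCategory.hom_ext
      · rw [lift_fst, Category.assoc, whiskerRight_fst, Hom.mul_def,
          show lift g h = r ≫ fst (G ⊗ G) (Pn k n) by apply CartesianMonoidalCategory.hom_ext <;> simp [g, h],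
          Category.assoc]
      · rw [lift_snd, Category.assoc, whiskerRight_snd]
    have e2 : r ≫ (α_ G G (Pn k n)).hom ≫ (G ◁ act) = lift g (lift h (r ≫ snd _ _) ≫ act) := by
      have : r ≫ (α_ G G (Pn k n)).hom = lift g (lift h (r ≫ snd _ _)) := by
        apply CartesianMonoidalCategory.hom_ext
        · simp [g]
        · apply CartesianMonoidalCategory.hom_ext <;> simp [h]
      rw [← Category.assoc, this, lift_whiskerLeft]
    show r ≫ (μ[G] ▷ Pn k n) ≫ act = r ≫ (α_ G G (Pn k n)).hom ≫ (G ◁ act) ≫ act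
    rw [← Category.assoc, e1, ← Category.assoc (α_ G G (Pn k n)).hom, ← Category.assoc r, e2]
    exact h2.eq_of_cross h1 fun x q => mul_comm _ _

end Groth.Agent.AGFRoot.ProjAct
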