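import Groth.Agent.AGStr.Orbit
import Groth.Agent.EtFound.Descent
import Groth.Agent.GrpSchLib.HomogeneousQuot
import Groth.Agent.GrpSchLib.OrbitImmersion
import Groth.Prelude.Def_AGF

/-!
# Quotients by subgroups: uniqueness, separatedness, transitivity of properness
-/

set_option autoImplicit false
set_option backward.isDefEq.respectTransparency false
set_option backward.isDefEq.respectTransparency.types false

universe u

open CategoryTheory CategoryTheory.Limits MonoidalCategory CartesianMonoidalCategory MonObj GrpObj AlgebraicGeometry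

namespace Groth.Agent.AGFRoot.Quot

variable {k : Type u} [Field k] {G H X : Over (Spec (CommRingCat.of k))} [GrpObj G] [GrpObj H]

theorem comp_orbitMap' {T : Over (Spec (CommRingCat.of k))} (a : AlgGrp.Action G X)
    (o : 𝟙_ (Over (Spec (CommRingCat.of k))) ⟶ X) (g : T ⟶ G) :
    g ≫ a.orbitMap o = lift g (toUnit T ≫ o) ≫ a.act := by
  rw [AlgGrp.Action.orbitMap, ← Category.assoc, comp_lift, Category.comp_id, ← Category.assoc, comp_toUnit]

theorem mul_orbitMap {T : Over (Spec (CommRingCat.of k))} (a : AlgGrp.Action G X)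
    (o : 𝟙_ (Over (Spec (CommRingCat.of k))) ⟶ X) (g h : T ⟶ G) :
    (g * h) ≫ a.orbitMap o = lift g (h ≫ a.orbitMap o) ≫ a.act := by
  rw [comp_orbitMap', comp_orbitMap', GrpSchLib.act_mul]

theorem lift_whisker_mul {T : Over (Spec (CommRingCat.of k))} (i : H ⟶ G) (m : T ⟶ G ⊗ H) :
    m ≫ (G ◁ i) ≫ μ[G] = (m ≫ fst G H) * (m ≫ snd G H ≫ i) := by
  have : m ≫ (G ◁ i) = lift (m ≫ fst G H) (m ≫ snd G H ≫ i) := by
    apply CartesianMonoidalCategory.hom_ext <;> simp
  rw [Hom.mul_def, ← this, Category.assoc]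

/-- Equality of orbit points in a quotient is congruence modulo the subgroup. -/
theorem orbit_eq_iff {T : Over (Spec (CommRingCat.of k))} {i : H ⟶ G} {p : G ⟶ X}
    (sq : IsPullback (fst G H) ((G ◁ i) ≫ μ[G]) p p) (g g' : T ⟶ G) :
    g ≫ p = g' ≫ p ↔ ∃ h : T ⟶ H, g' = g * (h ≫ i) := by
  constructor
  · intro hgg
    refine ⟨sq.lift g g' hgg ≫ snd G H, ?_⟩
    have := lift_whisker_mul i (sq.lift g g' hgg)
    rw [sq.lift_snd, sq.lift_fst] at this
    exact this.trans (by rw [Category.assoc])
  · rintro ⟨h, rfl⟩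
    have := congrArg (lift g h ≫ ·) sq.w
    rwa [lift_fst_assoc, ← Category.assoc, lift_whisker_mul, lift_fst, ← Category.assoc, lift_snd] at this

variable {i : H ⟶ G} {a : AlgGrp.Action G X} {o : 𝟙_ (Over (Spec (CommRingCat.of k))) ⟶ X}
  [LocallyOfFiniteType G.hom] [QuasiCompact G.hom]

theorem facts (hX : AGF.IsQuotient i X a o) : LocallyOfFiniteType X.hom ∧ QuasiCompact X.hom ∧
    LocallyOfFinitePresentation (a.orbitMap o).left ∧ QuasiCompact (a.orbitMap o).left := by
  obtain ⟨hl, hfl, hs, -⟩ := hX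
  have := hl; have := hfl; have := hs
  have : IsLocallyNoetherian X.left := LocallyOfFiniteType.isLocallyNoetherian X.hom
  have : LocallyOfFiniteType ((a.orbitMap o).left ≫ X.hom) := by rw [Over.w (a.orbitMap o)]; infer_instance
  have : LocallyOfFiniteType (a.orbitMap o).left := locallyOfFiniteType_of_comp _ X.hom
  have : CompactSpace G.left := (quasiCompact_iff_compactSpace G.hom).mp inferInstance
  have : CompactSpace X.left := ⟨by
    rw [← Set.range_eq_univ.mpr (a.orbitMap o).left.surjective]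
    exact isCompact_range (a.orbitMap o).left.continuous⟩
  have : QuasiCompact ((a.orbitMap o).left ≫ X.hom) := by rw [Over.w (a.orbitMap o)]; infer_instance
  have : QuasiSeparated X.hom := inferInstance
  exact ⟨hl, (quasiCompact_iff_compactSpace X.hom).mpr inferInstance, inferInstance,
    QuasiCompact.of_comp _ X.hom⟩

/-- A quotient by a closed subgroup is separated. -/
theorem isSeparated_quotient [IsMonHom i] [IsClosedImmersion i.left] (hX : AGF.IsQuotient i X a o) :
    IsSeparated X.hom := by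
  obtain ⟨hl, hqc, hlfp, hpqc⟩ := facts hX
  obtain ⟨-, hfl, hs, sq⟩ := hX
  have := hl; have := hqc; have := hfl; have := hs; have := hlfp
  let p := a.orbitMap o
  let e : G ⊗ G ≅ G ⊗ G :=
    { hom := lift (fst G G) μ[G]
      inv := lift (fst G G) ((fst G G)⁻¹ * snd G G)
      hom_inv_id := by
        apply CartesianMonoidalCategory.hom_ext
        · simp
        · rw [Category.assoc, lift_snd, MonObj.comp_mul, GrpObj.comp_inv, lift_fst, lift_snd, Category.id_comp,
            show (μ[G] : G ⊗ G ⟶ G) = fst G G * snd G G by rw [Hom.mul_def, lift_fst_snd, Category.id_comp],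
            inv_mul_cancel_left]
      inv_hom_id := by
        apply CartesianMonoidalCategory.hom_ext
        · simp
        · rw [Category.assoc, lift_snd, ← Hom.mul_def, mul_inv_cancel_left, Category.id_comp] }
  let m : G ⊗ H ⟶ G ⊗ G := lift (fst G H) ((G ◁ i) ≫ μ[G])
  have hm : m = (G ◁ i) ≫ e.hom := by
    apply CartesianMonoidalCategory.hom_ext <;> simp [m, e]
  have : IsClosedImmersion m.left := by
    have : IsClosedImmersion (G ◁ i).left :=
      MorphismProperty.of_isPullback (P := @IsClosedImmersion) (GrpSchLib.isPullback_whiskerLeft (W := G) i).flip ‹_›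
    have : IsIso e.hom.left := ((Over.forget _).mapIso e).isIso_hom
    rw [hm, Over.comp_left]
    infer_instance
  have hp : IsPullback m.left (fst G H ≫ p).left (p ⊗ₘ p).left (lift (𝟙 X) (𝟙 X)).left :=
    AGStr.isPullback_left (AGStr.isPullback_diag a o i sq)
  have hq : (@Surjective ⊓ @Flat ⊓ @QuasiCompact : MorphismProperty Scheme.{u}) (p ⊗ₘ p).left := by
    have h1 : ∀ (P : MorphismProperty Scheme.{u}) [P.IsStableUnderBaseChange] [P.IsStableUnderComposition],
        P p.left → P (p ⊗ₘ p).left := by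
      intro P _ _ hP
      rw [MonoidalCategory.tensorHom_def, Over.comp_left]
      exact P.comp_mem _ _ (GrpSchLib.property_whiskerRight p G P hP)
        (MorphismProperty.of_isPullback (P := P) (GrpSchLib.isPullback_whiskerLeft (W := X) p).flip hP)
    exact ⟨⟨h1 @Surjective hs, h1 @Flat hfl⟩, h1 @QuasiCompact hpqc⟩
  have := EtFound.fpqc_isClosedImmersion.{u}
  have hd : IsClosedImmersion (lift (𝟙 X) (𝟙 X)).left :=
    MorphismProperty.of_isPullback_of_descendsAlong (P := @IsClosedImmersion) hp hq ‹_›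
  refine ⟨?_⟩
  show IsClosedImmersion (pullback.diagonal X.hom)
  have e' : (lift (𝟙 X) (𝟙 X)).left = pullback.diagonal X.hom := by
    apply pullback.hom_ext
    · rw [pullback.diagonal_fst]
      exact congrArg CommaMorphism.left (lift_fst (𝟙 X) (𝟙 X))
    · rw [pullback.diagonal_snd]
      exact congrArg CommaMorphism.left (lift_snd (𝟙 X) (𝟙 X))
  exact e' ▸ hd

/-- Quotients are unique. -/
theorem exists_iso {X' : Over (Spec (CommRingCat.of k))} {a' : AlgGrp.Action G X'}
    {o' : 𝟙_ (Over (Spec (CommRingCat.of k))) ⟶ X'} (hX : AGF.IsQuotient i X a o) (hX' : AGF.IsQuotient i X' a' o') :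
    ∃ e : X ≅ X', a.orbitMap o ≫ e.hom = a'.orbitMap o' := by
  obtain ⟨-, -, hlfp, -⟩ := facts hX
  obtain ⟨-, -, hlfp', -⟩ := facts hX'
  obtain ⟨-, hfl, hs, sq⟩ := hX
  obtain ⟨-, hfl', hs', sq'⟩ := hX'
  have := hlfp; have := hlfp'; have := hfl; have := hs; have := hfl'; have := hs'
  obtain ⟨e, he⟩ := GrpSchLib.OrbitImmersion.exists_desc sq (a'.orbitMap o') sq'.w
  obtain ⟨e', he'⟩ := GrpSchLib.OrbitImmersion.exists_desc sq' (a.orbitMap o) sq.w
  have : Epi (a.orbitMap o) := Over.epi_of_epi_left _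
  have : Epi (a'.orbitMap o') := Over.epi_of_epi_left _
  refine ⟨⟨e, e', ?_, ?_⟩, he⟩
  · rw [← cancel_epi (a.orbitMap o), reassoc_of% he, he', Category.comp_id]
  · rw [← cancel_epi (a'.orbitMap o'), reassoc_of% he', he, Category.comp_id]

theorem isProper_of_iso {X' : Over (Spec (CommRingCat.of k))} (e : X ≅ X') [IsProper X.hom] : IsProper X'.hom := by
  have : IsIso e.inv.left := inferInstanceAs (IsIso ((Over.forget _).map e.inv))
  rw [← Over.w e.inv]
  infer_instance

/-- Properness of quotients is transitive. -/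
theorem isProper_trans {H' X' : Over (Spec (CommRingCat.of k))} [GrpObj H'] [LocallyOfFiniteType H.hom]
    [QuasiCompact H.hom] [IsMonHom i] [IsClosedImmersion i.left]
    (j : H' ⟶ H) [IsMonHom j] [IsClosedImmersion j.left]
    (hX : AGF.IsQuotient i X a o) [IsProper X.hom]
    (hH : ∀ (F : Over (Spec (CommRingCat.of k))) (b : AlgGrp.Action H F) (y : 𝟙_ (Over (Spec (CommRingCat.of k))) ⟶ F),
      AGF.IsQuotient j F b y → IsProper F.hom)
    {a' : AlgGrp.Action G X'} {o' : 𝟙_ (Over (Spec (CommRingCat.of k))) ⟶ X'}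
    (hX' : AGF.IsQuotient (j ≫ i) X' a' o') : IsProper X'.hom := by
  have : IsClosedImmersion (j ≫ i).left := by rw [Over.comp_left]; infer_instance
  have hsep := isSeparated_quotient hX'
  obtain ⟨hl, hqc, hlfp, hpqc⟩ := facts hX
  obtain ⟨hl', hqc', hlfp', hpqc'⟩ := facts hX'
  have := hl; have := hlfp; have := hl'; have := hqc'; have := hlfp'
  obtain ⟨-, hfl, hs, sq⟩ := hX
  obtain ⟨-, hfl', hs', sq'⟩ := hX'
  have := hfl; have := hs; have := hfl'; have := hs'
  set p := a.orbitMap o with hp
  set p' := a'.orbitMap o' with hp'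
  obtain ⟨π, hπ⟩ := GrpSchLib.OrbitImmersion.exists_desc sq' p (by
    refine (orbit_eq_iff sq _ _).mpr ⟨snd G H' ≫ j, ?_⟩
    rw [← Category.id_comp ((G ◁ (j ≫ i)) ≫ μ[G]), lift_whisker_mul, Category.id_comp, Category.id_comp,
      Category.assoc])
  have hequiv : (G ◁ π) ≫ a.act = a'.act ≫ π := by
    have : Surjective (G ◁ p').left :=
      MorphismProperty.of_isPullback (P := @Surjective) (GrpSchLib.isPullback_whiskerLeft (W := G) p').flip inferInstance
    have : Flat (G ◁ p').left :=
      MorphismProperty.of_isPullback (P := @Flat) (GrpSchLib.isPullback_whiskerLeft (W := G) p').flip inferInstance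
    have : LocallyOfFinitePresentation (G ◁ p').left := MorphismProperty.of_isPullback
      (P := @LocallyOfFinitePresentation) (GrpSchLib.isPullback_whiskerLeft (W := G) p').flip inferInstance
    have : Epi (G ◁ p') := Over.epi_of_epi_left _
    have h1 : (G ◁ p') = lift (fst G G) (snd G G ≫ p') := by
      apply CartesianMonoidalCategory.hom_ext <;> simp
    rw [← cancel_epi (G ◁ p'), ← MonoidalCategory.whiskerLeft_comp_assoc, hπ, ← Category.assoc, h1,
      show (G ◁ p) = lift (fst G G) (snd G G ≫ p) by apply CartesianMonoidalCategory.hom_ext <;> simp,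
      hp, hp', ← mul_orbitMap, ← mul_orbitMap, Category.assoc, ← hp, ← hp', hπ]
  have hequiv' : ∀ {T : Over (Spec (CommRingCat.of k))} (g : T ⟶ G) (x : T ⟶ X'),
      (lift g x ≫ a'.act) ≫ π = lift g (x ≫ π) ≫ a.act := fun g x => by
    rw [Category.assoc, ← hequiv, ← Category.assoc, lift_whiskerLeft]
  let F := pullback π o
  let f : F ⟶ X' := pullback.fst π o
  have hF : IsPullback f (toUnit F) π o := by
    have h := IsPullback.of_hasPullback π o
    rwa [toUnit_unique (pullback.snd π o) (toUnit _)] at h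
  have : Mono o := ⟨fun u v _ => toUnit_unique u v⟩
  have : Mono f := inferInstanceAs (Mono (pullback.fst π o))
  have hfπ : f ≫ π = toUnit F ≫ o := hF.w
  have hmemH : ∀ {T : Over (Spec (CommRingCat.of k))} (g : T ⟶ G),
      g ≫ p = toUnit T ≫ o ↔ ∃ h : T ⟶ H, h ≫ i = g := fun {T} g => by
    have e : (1 : T ⟶ G) ≫ p = toUnit T ≫ o := by rw [hp, comp_orbitMap', GrpSchLib.act_one]
    rw [← e, eq_comm, orbit_eq_iff sq]
    simp only [_root_.one_mul]
    exact ⟨fun ⟨h, e⟩ => ⟨h, e.symm⟩, fun ⟨h, e⟩ => ⟨h, e.symm⟩⟩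
  -- the action on the fibre
  have hact : ((lift (fst H F ≫ i) (snd H F ≫ f)) ≫ a'.act) ≫ π = toUnit (H ⊗ F) ≫ o := by
    rw [hequiv', Category.assoc, hfπ, ← Category.assoc, comp_toUnit, ← comp_orbitMap', ← hp]
    exact (hmemH _).mpr ⟨_, rfl⟩
  let act : H ⊗ F ⟶ F := hF.lift _ (toUnit _) hact
  have hactf : act ≫ f = lift (fst H F ≫ i) (snd H F ≫ f) ≫ a'.act := hF.lift_fst _ _ _
  have hactT : ∀ {T : Over (Spec (CommRingCat.of k))} (h : T ⟶ H) (x : T ⟶ F),
      (lift h x ≫ act) ≫ f = lift (h ≫ i) (x ≫ f) ≫ a'.act := fun h x => by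
    rw [Category.assoc, hactf, ← Category.assoc, comp_lift, lift_fst_assoc, lift_snd_assoc]
  let b : AlgGrp.Action H F :=
    { act := act
      one_act := by
        rw [← cancel_mono f, show (η[H] ▷ F) = lift (1 : 𝟙_ _ ⊗ F ⟶ H) (snd _ _) by
          apply CartesianMonoidalCategory.hom_ext
          · rw [lift_fst, whiskerRight_fst, toUnit_unique (fst _ _) (toUnit _)]; rfl
          · simp, hactT, MonObj.one_comp, GrpSchLib.act_one, leftUnitor_hom]
      mul_act := by
        have e1 : (μ[H] ▷ F) = lift ((fst (H ⊗ H) F ≫ fst H H) * (fst (H ⊗ H) F ≫ snd H H)) (snd _ _) := by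
          apply CartesianMonoidalCategory.hom_ext
          · rw [lift_fst, whiskerRight_fst, ← MonObj.comp_mul, Hom.mul_def, lift_fst_snd, Category.id_comp]
          · simp
        have e2 : (α_ H H F).hom ≫ (H ◁ act) = lift (fst (H ⊗ H) F ≫ fst H H)
            (lift (fst (H ⊗ H) F ≫ snd H H) (snd _ _) ≫ act) := by
          rw [show (α_ H H F).hom = lift (fst (H ⊗ H) F ≫ fst H H) (lift (fst (H ⊗ H) F ≫ snd H H) (snd _ _)) by
            apply CartesianMonoidalCategory.hom_ext
            · simp
            · apply CartesianMonoidalCategory.hom_ext <;> simp, lift_whiskerLeft]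
        rw [← cancel_mono f, e1, ← Category.assoc (α_ H H F).hom, e2, hactT, hactT, hactT, MonObj.mul_comp,
          GrpSchLib.act_mul] }
  have hone' : (1 : 𝟙_ (Over (Spec (CommRingCat.of k))) ⟶ G) ≫ p' = o' := by
    rw [hp', comp_orbitMap', GrpSchLib.act_one, toUnit_unit, Category.id_comp]
  have hq : (i ≫ p') ≫ π = toUnit H ≫ o := by
    rw [Category.assoc, hπ]
    exact (hmemH i).mpr ⟨𝟙 H, Category.id_comp i⟩
  let q : H ⟶ F := hF.lift _ (toUnit _) hq
  have hqf : q ≫ f = i ≫ p' := hF.lift_fst _ _ _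
  let y : 𝟙_ (Over (Spec (CommRingCat.of k))) ⟶ F := η[H] ≫ q
  have hy : y ≫ f = o' := by
    rw [Category.assoc, hqf, ← Category.assoc, IsMonHom.one_hom, ← hone', Hom.one_def, toUnit_unit,
      Category.id_comp]
  have hbq : b.orbitMap y = q := by
    rw [← cancel_mono f, hqf, AlgGrp.Action.orbitMap, hactT, Category.assoc, hy, Category.id_comp, hp',
      comp_orbitMap']
  have : Mono i.left := inferInstance
  have : Mono j.left := inferInstance
  have : Mono j := Over.mono_of_mono_left j
  have : Mono i := Over.mono_of_mono_left i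
  have hsH : ∀ c : PullbackCone f p', ∃ h : c.pt ⟶ H, h ≫ i = c.snd := fun c => (hmemH c.snd).mp (by
    rw [← hπ, ← Category.assoc, ← c.condition, Category.assoc, hfπ, ← Category.assoc, comp_toUnit])
  choose hc hhc using hsH
  have hsqq : IsPullback q i f p' := by
    refine ⟨⟨hqf⟩, ⟨PullbackCone.IsLimit.mk _ hc (fun c => ?_) hhc (fun c m h1 h2 => ?_)⟩⟩
    · rw [← cancel_mono f, Category.assoc, hqf, ← Category.assoc]
      exact (congrArg (· ≫ p') (hhc c)).trans c.condition.symm
    · rw [← cancel_mono i, h2, hhc]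
  have hL := hsqq.map (Over.forget _)
  have hqflat : Flat q.left := MorphismProperty.of_isPullback (P := @Flat) hL.flip hfl'
  have hqsurj : Surjective q.left := MorphismProperty.of_isPullback (P := @Surjective) hL.flip hs'
  have hfc : IsClosedImmersion f.left := by
    have : IsSeparated X.hom := inferInstance
    have : IsClosedImmersion o.left := by
      have : IsClosedImmersion (o.left ≫ X.hom) := by
        rw [Over.w o]; exact inferInstanceAs (IsClosedImmersion (𝟙 (Spec (CommRingCat.of k))))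
      exact IsClosedImmersion.of_comp o.left X.hom
    exact MorphismProperty.of_isPullback (P := @IsClosedImmersion) (hF.map (Over.forget _)).flip ‹_›
  have hFl : LocallyOfFiniteType F.hom := by
    rw [← Over.w f]; infer_instance
  have hquot : AGF.IsQuotient j F b y := by
    refine ⟨hFl, hbq ▸ hqflat, hbq ▸ hqsurj, ?_⟩
    rw [hbq]
    have hmulj : ∀ {T : Over (Spec (CommRingCat.of k))} (m : T ⟶ H ⊗ H'),
        m ≫ (H ◁ j) ≫ μ[H] = (m ≫ fst H H') * (m ≫ snd H H' ≫ j) := fun m => lift_whisker_mul j m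
    have hcrit : ∀ {T : Over (Spec (CommRingCat.of k))} (u v : T ⟶ H),
        u ≫ q = v ≫ q ↔ ∃ h : T ⟶ H', v = u * (h ≫ j) := fun u v => by
      rw [← cancel_mono f, Category.assoc, Category.assoc, hqf, ← Category.assoc, ← Category.assoc,
        orbit_eq_iff sq']
      refine exists_congr fun h => ?_
      rw [← cancel_mono i, MonObj.mul_comp, Category.assoc]
    have hw : fst H H' ≫ q = ((H ◁ j) ≫ μ[H]) ≫ q := by
      refine (hcrit _ _).mpr ⟨snd H H', ?_⟩
      rw [← Category.id_comp ((H ◁ j) ≫ μ[H]), hmulj, Category.id_comp, Category.id_comp]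
    choose h hh using fun c : PullbackCone q q => (hcrit c.fst c.snd).mp c.condition
    refine ⟨⟨hw⟩, ⟨PullbackCone.IsLimit.mk _ (fun c => lift c.fst (h c)) (fun c => lift_fst _ _) (fun c => ?_)
      (fun c m h₁ h₂ => ?_)⟩⟩
    · rw [hmulj, lift_fst, lift_snd_assoc, ← hh]
    · refine CartesianMonoidalCategory.hom_ext _ _ (by rw [h₁, lift_fst]) ?_
      rw [hmulj, h₁, hh c, mul_right_inj] at h₂
      rw [lift_snd, ← cancel_mono j, Category.assoc]
      exact h₂
  have hFp := hH F b y hquot
  -- the base change of `π` along `p`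
  let r : G ⊗ F ⟶ X' := lift (fst G F) (snd G F ≫ f) ≫ a'.act
  have hrw : fst G F ≫ p = r ≫ π := by
    rw [hequiv', Category.assoc, hfπ, ← Category.assoc, comp_toUnit, hp, comp_orbitMap']
  have hbc : IsPullback (fst G F) r p π := by
    refine ⟨⟨hrw⟩, ⟨PullbackCone.IsLimit.mk _
      (fun s => lift s.fst (hF.lift (lift s.fst⁻¹ s.snd ≫ a'.act) (toUnit _) ?_)) (fun s => lift_fst _ _)
      (fun s => ?_) (fun s m h1 h2 => ?_)⟩⟩
    · rw [hequiv']
      refine (congrArg (fun w => lift s.fst⁻¹ w ≫ a.act) s.condition.symm).trans ?_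
      exact (mul_orbitMap a o _ _).symm.trans (by rw [inv_mul_cancel, comp_orbitMap', GrpSchLib.act_one])
    · show _ ≫ lift (fst G F) (snd G F ≫ f) ≫ a'.act = _
      rw [← Category.assoc, comp_lift, lift_fst, lift_snd_assoc, hF.lift_fst, GrpSchLib.act_mul,
        mul_inv_cancel, GrpSchLib.act_one]
    · refine CartesianMonoidalCategory.hom_ext _ _ (by rw [h1, lift_fst]) ?_
      rw [lift_snd, ← cancel_mono f, hF.lift_fst]
      change m ≫ lift (fst G F) (snd G F ≫ f) ≫ a'.act = _ at h2
      rw [← Category.assoc, comp_lift, h1] at h2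
      rw [← h2, GrpSchLib.act_mul, inv_mul_cancel, GrpSchLib.act_one, Category.assoc]
  have hfstp : IsProper (fst G F).left := inferInstanceAs (IsProper (pullback.fst G.hom F.hom))
  have hQ : (@Surjective ⊓ @Flat ⊓ @QuasiCompact : MorphismProperty Scheme.{u}) p.left := ⟨⟨hs, hfl⟩, hpqc⟩
  have := EtFound.fpqc_isProper.{u}
  have hπp : IsProper π.left := MorphismProperty.of_isPullback_of_descendsAlong (P := @IsProper)
    (AGStr.isPullback_left hbc) hQ hfstp
  rw [← Over.w π]
  infer_instance

end Groth.Agent.AGFRoot.Quot
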