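import Groth.Agent.AVFac.Points
import Groth.Agent.GrpSchLib.AntiAffineHom
import Groth.Prelude.Def_AGF
import Mathlib.GroupTheory.Solvable

/-!
# Solvability of a smooth group can be tested on rational points
-/

set_option autoImplicit false

universe u

open CategoryTheory MonoidalCategory CartesianMonoidalCategory MonObj GrpObj AlgebraicGeometry
open scoped commutatorElement

namespace Groth.Agent.AGFRoot

/-- Iterated commutators of depth `n`. -/
def commSet (H : Type u) [Group H] : ℕ → Set H
  | 0 => Set.univ
  | n + 1 => {x | ∃ a ∈ commSet H n, ∃ b ∈ commSet H n, x = ⁅a, b⁆}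

theorem conj_mem_commSet {H : Type u} [Group H] (g : H) :
    ∀ (n : ℕ) (x : H), x ∈ commSet H n → g * x * g⁻¹ ∈ commSet H n := by
  intro n
  induction n with
  | zero => exact fun _ _ => Set.mem_univ _
  | succ n ih =>
    rintro _ ⟨a, ha, b, hb, rfl⟩
    exact ⟨_, ih a ha, _, ih b hb, by simp only [commutatorElement_def]; group⟩

theorem derivedSeries_le_closure {H : Type u} [Group H] :
    ∀ n, derivedSeries H n ≤ Subgroup.closure (commSet H n) := by
  intro n
  induction n with
  | zero => rw [derivedSeries_zero, commSet, Subgroup.closure_univ]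
  | succ n ih =>
    have hN : (Subgroup.closure (commSet H (n + 1))).Normal := by
      refine ⟨fun x hx g => ?_⟩
      induction hx using Subgroup.closure_induction with
      | mem y hy => exact Subgroup.subset_closure (conj_mem_commSet g _ y hy)
      | one => simp
      | mul y z _ _ hy hz =>
        have : g * (y * z) * g⁻¹ = (g * y * g⁻¹) * (g * z * g⁻¹) := by group
        rw [this]; exact mul_mem hy hz
      | inv y _ hy =>
        have : g * y⁻¹ * g⁻¹ = (g * y * g⁻¹)⁻¹ := by group
        rw [this]; exact inv_mem hy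
    rw [derivedSeries_succ]
    refine le_trans (Subgroup.commutator_mono ih ih) ?_
    rw [← (QuotientGroup.ker_mk' (Subgroup.closure (commSet H (n + 1)))), Subgroup.commutator_le]
    intro a ha b hb
    rw [MonoidHom.mem_ker, map_commutatorElement, commutatorElement_eq_one_iff_mul_comm]
    have key : ∀ x ∈ Subgroup.closure (commSet H n), ∀ y ∈ Subgroup.closure (commSet H n),
        Commute (QuotientGroup.mk' (Subgroup.closure (commSet H (n + 1))) x)
          (QuotientGroup.mk' (Subgroup.closure (commSet H (n + 1))) y) := by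
      intro x hx y hy
      induction hx, hy using Subgroup.closure_induction₂ with
      | mem x y hx hy =>
        rw [← commutatorElement_eq_one_iff_commute, ← map_commutatorElement, ← MonoidHom.mem_ker,
          QuotientGroup.ker_mk']
        exact Subgroup.subset_closure ⟨x, hx, y, hy, rfl⟩
      | one_left x hx => simp
      | one_right x hx => simp
      | mul_left x y z _ _ _ h₁ h₂ => rw [map_mul]; exact h₁.mul_left h₂
      | mul_right y z x _ _ _ h₁ h₂ => rw [map_mul]; exact h₁.mul_right h₂
      | inv_left x y _ _ h => rw [map_inv]; exact h.inv_left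
      | inv_right x y _ _ h => rw [map_inv]; exact h.inv_right
    exact key a ha b hb

variable {k : Type u} [Field k] {G : Over (Spec (CommRingCat.of k))}

variable (G) in
/-- The parameter space of the iterated commutator words. -/
noncomputable def wordObj : ℕ → Over (Spec (CommRingCat.of k))
  | 0 => G
  | n + 1 => wordObj n ⊗ wordObj n

variable [GrpObj G]

variable (G) in
/-- The iterated commutator word. -/
noncomputable def word : ∀ n, wordObj G n ⟶ G
  | 0 => 𝟙 G
  | n + 1 => (⁅fst (wordObj G n) (wordObj G n) ≫ word n, snd (wordObj G n) (wordObj G n) ≫ word n⁆ :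
      wordObj G n ⊗ wordObj G n ⟶ G)

theorem mem_commSet_iff (X : Over (Spec (CommRingCat.of k))) :
    ∀ (n : ℕ) (x : X ⟶ G), x ∈ commSet (X ⟶ G) n ↔ ∃ p, p ≫ word G n = x := by
  intro n
  induction n with
  | zero => exact fun x => ⟨fun _ => ⟨x, Category.comp_id x⟩, fun _ => Set.mem_univ _⟩
  | succ n ih =>
    intro x
    have key : ∀ p : X ⟶ wordObj G n ⊗ wordObj G n,
        p ≫ word G (n + 1) = ⁅(p ≫ fst _ _) ≫ word G n, (p ≫ snd _ _) ≫ word G n⁆ := fun p => by
      show p ≫ (⁅fst (wordObj G n) (wordObj G n) ≫ word G n, snd (wordObj G n) (wordObj G n) ≫ word G n⁆ :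
        wordObj G n ⊗ wordObj G n ⟶ G) = _
      simp only [commutatorElement_def, MonObj.comp_mul, GrpObj.comp_inv, Category.assoc]
    constructor
    · rintro ⟨a, ha, b, hb, rfl⟩
      obtain ⟨p, rfl⟩ := (ih a).mp ha
      obtain ⟨q, rfl⟩ := (ih b).mp hb
      exact ⟨lift p q, (key (lift p q)).trans (by rw [lift_fst, lift_snd])⟩
    · rintro ⟨p, rfl⟩
      exact ⟨_, (ih _).mpr ⟨_, rfl⟩, _, (ih _).mpr ⟨_, rfl⟩, key p⟩

theorem smooth_wordObj [Smooth G.hom] : ∀ n, Smooth (wordObj G n).hom := by
  intro n
  induction n with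
  | zero => assumption
  | succ n ih =>
    have : Smooth (Limits.pullback.fst (wordObj G n).hom (wordObj G n).hom) := inferInstance
    exact inferInstanceAs (Smooth (Limits.pullback.fst (wordObj G n).hom (wordObj G n).hom ≫ (wordObj G n).hom))

/-- A smooth group whose group of rational points is solvable is solvable. -/
theorem isSolvableGrp_of_points [IsAlgClosed k] [Smooth G.hom]
    [Group.IsSolvable (𝟙_ (Over (Spec (CommRingCat.of k))) ⟶ G)] : Red.IsSolvableGrp G := by
  obtain ⟨n, hn⟩ := (Group.isSolvable_def (𝟙_ (Over (Spec (CommRingCat.of k))) ⟶ G)).mp inferInstance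
  refine ⟨n, fun X => ?_⟩
  have := smooth_wordObj (G := G) n
  have : IsReduced (wordObj G n).left := GrpSchLib.isReduced_of_smooth_field (wordObj G n).hom
  have : IsSeparated G.hom := GrpSchLib.AntiAffine.isSeparated_grp G
  have hw : word G n = 1 := AVFac.ext_pts fun p => by
    rw [MonObj.comp_one]
    have hmem : p ≫ word G n ∈ derivedSeries (𝟙_ (Over (Spec (CommRingCat.of k))) ⟶ G) n := by
      have : ∀ (H : Type u) [Group H] (m : ℕ), commSet H m ⊆ derivedSeries H m := by
        intro H _ m
        induction m with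
        | zero => simp
        | succ m ih =>
          rintro _ ⟨a, ha, b, hb, rfl⟩
          rw [derivedSeries_succ]
          exact Subgroup.commutator_mem_commutator (ih ha) (ih hb)
      exact this _ n ((mem_commSet_iff _ n _).mpr ⟨p, rfl⟩)
    rwa [hn, Subgroup.mem_bot] at hmem
  rw [eq_bot_iff]
  refine (derivedSeries_le_closure n).trans ((Subgroup.closure_le _).mpr fun x hx => ?_)
  obtain ⟨p, rfl⟩ := (mem_commSet_iff X n x).mp hx
  rw [SetLike.mem_coe, Subgroup.mem_bot, hw, MonObj.comp_one]

theorem isSolvable_points (h : Red.IsSolvableGrp G) :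
    Group.IsSolvable (𝟙_ (Over (Spec (CommRingCat.of k))) ⟶ G) := by
  obtain ⟨n, hn⟩ := h
  exact ⟨⟨n, hn _⟩⟩

end Groth.Agent.AGFRoot
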