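import Groth.Agent.AGFRoot.BorelFixed
import Groth.Agent.AGFRoot.ProjAct
import Groth.Agent.AGFRoot.SolvPts
import Groth.Agent.AGFRoot.QuotTrans
import Groth.Agent.GrpSchLib.RedSubgroup
import Groth.Agent.GrpSchLib.IdentityComp
import Groth.Agent.GrpSchLib.Cartier
import Groth.Agent.S3267

/-!
# A connected group has a connected solvable subgroup with proper quotient
-/

set_option autoImplicit false
set_option backward.isDefEq.respectTransparency false

universe u

open CategoryTheory CategoryTheory.Limits MonoidalCategory CartesianMonoidalCategory MonObj GrpObj AlgebraicGeometry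
open WithConv

namespace Groth.Agent.AGFRoot

open GrpSchLib.AffineHopf

variable {k : Type u} [Field k]

section Chart

open ProjAct GrpSchLib.Kunneth

/-- A rational point of projective space is a line of constants. -/
theorem exists_line_const {n : ℕ} (x : 𝟙_ (Over (Spec (CommRingCat.of k))) ⟶ GrpSchLib.ProjLine.Pn k n) :
    ∃ c : Fin (n + 1) → k, IsLine x fun l => algebraMap k _ (c l) := by
  obtain ⟨i, hi⟩ := xOpen_cover x (IsLocalRing.closedPoint k)
  have hr : Set.range x.left ⊆ Set.range (chartι k (n := n) i).left := by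
    rintro _ ⟨t, rfl⟩
    have : t = IsLocalRing.closedPoint k := @Subsingleton.elim (Spec (CommRingCat.of k)) inferInstance _ _
    rw [this]
    exact hi
  let l : 𝟙_ (Over (Spec (CommRingCat.of k))) ⟶ chart k (n := n) i :=
    Over.homMk (IsOpenImmersion.lift (chartι k (n := n) i).left x.left hr) (by
      show _ ≫ (chartι k i).left ≫ (GrpSchLib.ProjLine.Pn k n).hom = _
      rw [IsOpenImmersion.lift_fac_assoc, Over.w x])
  have hl : l ≫ chartι k i = x := Over.OverMorphism.ext (IsOpenImmersion.lift_fac _ _ _)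
  have hv := (isLine_chartι i).comp l
  rw [hl] at hv
  have hsurj : Function.Surjective (algebraMap k (Fn (𝟙_ (Over (Spec (CommRingCat.of k)))))) := by
    intro z
    obtain ⟨c, hc⟩ := (ConcreteCategory.bijective_of_isIso
      ((Scheme.ΓSpecIso (CommRingCat.of k)).inv)).2 z
    refine ⟨c, ?_⟩
    show Scheme.Hom.appTop (𝟙 (Spec (CommRingCat.of k))) ((Scheme.ΓSpecIso (CommRingCat.of k)).inv c) = z
    rw [Scheme.Hom.id_appTop]
    exact hc
  choose c hc using fun m => hsurj (ev l (chartVec k i m))
  exact ⟨c, by simpa only [hc] using hv⟩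

theorem nonempty_Pn (n : ℕ) : Nonempty (GrpSchLib.ProjLine.Pn k n).left :=
  ⟨(GrpSchLib.ProjLine.pv (Z := 𝟙_ (Over (Spec (CommRingCat.of k)))) (fun _ : Fin (n + 1) => 1) 0 isUnit_one).left
    (IsLocalRing.closedPoint k)⟩

end Chart

variable [IsAlgClosed k] {G : Over (Spec (CommRingCat.of k))} [GrpObj G] [IsAffine G.left] [Smooth G.hom]
  [ConnectedSpace G.left]

/-- A non-solvable connected group has a proper subgroup scheme with proper quotient. -/
theorem exists_stab_proper (hns : ¬ Red.IsSolvableGrp G) :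
    ∃ (S : Over (Spec (CommRingCat.of k))) (_ : GrpObj S) (i : S ⟶ G), IsMonHom i ∧ IsClosedImmersion i.left ∧
      ¬ IsIso i ∧ ∃ (X : Over (Spec (CommRingCat.of k))) (a : AlgGrp.Action G X)
        (o : 𝟙_ (Over (Spec (CommRingCat.of k))) ⟶ X), AGF.IsQuotient i X a o ∧ IsProper X.hom := by
  classical
  obtain ⟨A, _, _, ⟨tG⟩⟩ := exists_hopf G
  let eG : sp k A ≅ G := (Grp.forget _).mapIso tG
  have : IsMonHom eG.hom := tG.hom.hom.isMonHom_hom
  have : IsMonHom eG.inv := tG.inv.hom.isMonHom_hom
  have : Algebra.FiniteType k A := finiteType_of_iso eG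
  have hnT : ¬ HopfRep.IsTrigonalizable k A := fun hT => hns <| by
    have := S3267.result k A hT
    let ψ : (𝟙_ (Over (Spec (CommRingCat.of k))) ⟶ G) →* WithConv (A →ₐ[k] k) :=
      MonoidHom.mk' (fun g => toConv (Classical.choose (exists_eq_spMap (unitSp.inv ≫ g ≫ eG.inv)))) fun g h => by
        refine WithConv.ofConv_injective (spMap_injective ?_)
        rw [← spMap_mul, toConv_ofConv, ← Classical.choose_spec (exists_eq_spMap (unitSp.inv ≫ g ≫ eG.inv)),
          ← Classical.choose_spec (exists_eq_spMap (unitSp.inv ≫ h ≫ eG.inv)),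
          ← Classical.choose_spec (exists_eq_spMap (unitSp.inv ≫ (g * h) ≫ eG.inv)), ← MonObj.comp_mul,
          ← MonObj.mul_comp]
    have hψ : Function.Injective ψ := fun g h e => by
      have e' : Classical.choose (exists_eq_spMap (unitSp.inv ≫ g ≫ eG.inv)) =
          Classical.choose (exists_eq_spMap (unitSp.inv ≫ h ≫ eG.inv)) := congrArg WithConv.ofConv e
      have := (Classical.choose_spec (exists_eq_spMap (unitSp.inv ≫ g ≫ eG.inv))).trans
        ((congrArg spMap e').trans (Classical.choose_spec (exists_eq_spMap (unitSp.inv ≫ h ≫ eG.inv))).symm)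
      rwa [cancel_epi, cancel_mono] at this
    have : Group.IsSolvable (𝟙_ (Over (Spec (CommRingCat.of k))) ⟶ G) :=
      Group.isSolvable_of_isSolvable_injective hψ
    exact isSolvableGrp_of_points
  unfold HopfRep.IsTrigonalizable at hnT
  push_neg at hnT
  obtain ⟨V, _, _, cV, hVf, hVs, hrk⟩ := hnT
  have := hVf
  have := hVs.1
  obtain ⟨n, hn⟩ := Nat.exists_eq_succ_of_ne_zero (Module.finrank_pos (R := k) (M := V)).ne'
  let bV : Module.Basis (Fin (n + 1)) k V := Module.finBasisOfFinrankEq k V hn
  let M₀ : Fin (n + 1) → Fin (n + 1) → A := ComodLib.matrixOf (A := A) bV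
  have hM₀ : ComodLib.IsComodMatrix k M₀ := ComodLib.isComodMatrix_matrixOf bV
  open GrpSchLib in
  let M : Fin (n + 1) → Fin (n + 1) → Kunneth.Fn G :=
    fun x t => Kunneth.ev eG.inv (LineVec.toFn (k := k) (A := A) (M₀ x t))
  have hev : ∀ {T : Over (Spec (CommRingCat.of k))} (g : T ⟶ G) x t,
      GrpSchLib.Kunneth.ev g (M x t) = GrpSchLib.LineVec.fn (g ≫ eG.inv) (M₀ x t) := fun g x t => rfl
  have hM : ProjAct.IsMatRep M := by
    refine ⟨fun T g h x t => ?_, fun T x t => ?_⟩
    · simp only [hev, MonObj.mul_comp]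
      rw [GrpSchLib.LineVec.fn_mul]
      show (toConv (GrpSchLib.LineVec.fn (g ≫ eG.inv)) * toConv (GrpSchLib.LineVec.fn (h ≫ eG.inv))) (M₀ x t) = _
      rw [AlgHom.convMul_apply, hM₀.comul, map_sum]
      simp
    · rw [hev, MonObj.one_comp, GrpSchLib.LineVec.fn_one]
      show (1 : WithConv (A →ₐ[k] GrpSchLib.Kunneth.Fn T)) (M₀ x t) = _
      rw [AlgHom.convOne_apply, hM₀.counit]
      split_ifs <;> simp
  obtain ⟨a, ha⟩ := ProjAct.exists_action hM
  have : IsProper (GrpSchLib.ProjLine.Pn k n).hom := ProjAct.isProper_Pn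
  have := nonempty_Pn (k := k) n
  obtain ⟨x, hx⟩ := exists_closed_orbit a
  obtain ⟨S, _, i, _, _, hpb⟩ := exists_stab a x
  refine ⟨S, inferInstance, i, inferInstance, inferInstance, ?_, ?_⟩
  · -- the stabiliser is not the whole group since the comodule has no stable line
    intro hiso
    obtain ⟨c, hc⟩ := exists_line_const x
    have hfix : lift (𝟙 G) (toUnit G ≫ x) ≫ a.act = toUnit G ≫ x := by
      have h1 : a.orbitMap x = toUnit G ≫ x := by
        rw [← IsIso.inv_hom_id_assoc i (a.orbitMap x), hpb.w, ← Category.assoc, comp_toUnit]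
      exact h1
    have h1 := ha G (𝟙 G) (toUnit G ≫ x) _ (hc.comp (toUnit G))
    rw [hfix] at h1
    have hcross := h1.cross (hc.comp (toUnit G))
    have hz : ∀ y, ProjAct.moveVec M (𝟙 G) (fun l => GrpSchLib.Kunneth.ev (toUnit G) (algebraMap k _ (c l))) y =
        GrpSchLib.Kunneth.ev eG.inv (GrpSchLib.LineVec.toFn (k := k) (A := A) (ComodLib.orbit k M₀ c y)) := fun y => by
      simp only [ProjAct.moveVec, ComodLib.orbit, map_sum, map_smul]
      refine Finset.sum_congr rfl fun s _ => ?_
      rw [AlgHom.commutes, GrpSchLib.Kunneth.ev_id, Algebra.smul_def, mul_comm]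
    have hcrossA : ∀ y q, ComodLib.orbit k M₀ c y * algebraMap k A (c q) =
        ComodLib.orbit k M₀ c q * algebraMap k A (c y) := fun y q => by
      have h2 := hcross y q
      rw [hz, hz] at h2
      simp only [AlgHom.commutes] at h2
      have hinj : Function.Injective fun z : A => GrpSchLib.Kunneth.ev eG.inv (GrpSchLib.LineVec.toFn (k := k) (A := A) z) := by
        intro z z' e
        have e' := congrArg (GrpSchLib.Kunneth.ev eG.hom) e
        simp only [GrpSchLib.Kunneth.ev_ev, Iso.hom_inv_id, GrpSchLib.Kunneth.ev_id] at e'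
        exact (GrpSchLib.LineVec.toFn (k := k) (A := A)).injective e'
      apply hinj
      simp only [map_mul, AlgEquiv.commutes, AlgHom.commutes]
      exact h2
    obtain ⟨q, hq⟩ : ∃ q, c q ≠ 0 := by
      by_contra hne
      push Not at hne
      obtain ⟨α, hα⟩ := hc.1
      have : (0 : GrpSchLib.Kunneth.Fn (𝟙_ (Over (Spec (CommRingCat.of k))))) = 1 := by simpa [hne] using hα
      have hnt : Nontrivial (GrpSchLib.Kunneth.Fn (𝟙_ (Over (Spec (CommRingCat.of k))))) :=
        (Scheme.ΓSpecIso (CommRingCat.of k)).commRingCatIsoToRingEquiv.toEquiv.nontrivial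
      exact zero_ne_one this
    let θ : A := (c q)⁻¹ • ComodLib.orbit k M₀ c q
    have horb : ∀ y, ComodLib.orbit k M₀ c y = c y • θ := fun y => by
      have h2 := hcrossA y q
      rw [mul_comm, ← Algebra.smul_def, mul_comm, ← Algebra.smul_def] at h2
      calc ComodLib.orbit k M₀ c y = (c q)⁻¹ • (c q • ComodLib.orbit k M₀ c y) := by
            rw [smul_smul, inv_mul_cancel₀ hq, one_smul]
        _ = c y • θ := by rw [h2, smul_comm]
    let v : V := bV.equivFun.symm c
    have hv : v ≠ 0 := fun h => hq (by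
      have := congrFun (congrArg bV.equivFun h) q
      rwa [show bV.equivFun v = c from bV.equivFun.apply_symm_apply c, map_zero] at this)
    have hcoact : HopfRep.Comod.coact (k := k) (A := A) v = v ⊗ₜ[k] θ := by
      rw [ComodLib.coact_eq_orbit bV v, show ((bV.repr v : Fin (n + 1) →₀ k) : Fin (n + 1) → k) = c from
        bV.equivFun.apply_symm_apply c]
      refine (Finset.sum_congr rfl fun y _ => congrArg (bV y ⊗ₜ[k] ·) (horb y)).trans ?_
      simp only [TensorProduct.tmul_smul, TensorProduct.smul_tmul', ← TensorProduct.sum_tmul]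
      congr 1
      exact (bV.equivFun_symm_apply c).symm
    have hW : HopfRep.IsSubcomod (k := k) (A := A) (Submodule.span k {v}) := by
      intro w hw
      obtain ⟨r, rfl⟩ := Submodule.mem_span_singleton.mp hw
      exact ⟨(⟨r • v, hw⟩ : Submodule.span k {v}) ⊗ₜ[k] θ, by
        rw [map_smul, hcoact, LinearMap.rTensor_tmul, TensorProduct.smul_tmul']; rfl⟩
    rcases hVs.2 _ hW with h | h
    · exact hv (Submodule.span_singleton_eq_bot.mp h)
    · exact hrk (by rw [← finrank_top k V, ← h, finrank_span_singleton hv])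
  · obtain ⟨Q, q, m, ⟨hs, hfl, hlfp, sq⟩, hQ, hm, hqm⟩ := GrpSchLib.OrbitImmersion.exists_quot a x i hpb
    have : IsReduced G.left := GrpSchLib.isReduced_of_smooth_field G.hom
    obtain ⟨himm, -, hrange⟩ := GrpSchLib.OrbitImmersion.main a x q m hqm
    have : IsClosedImmersion m.left := IsClosedImmersion.of_isPreimmersion _ (by rw [hrange]; exact hx)
    have : IsProper Q.hom := by rw [← Over.w m]; infer_instance
    obtain ⟨b, -, hbq, -, -⟩ := GrpSchLib.OrbitImmersion.exists_action a x q m hqm
    refine ⟨Q, b, η[G] ≫ q, ⟨inferInstance, ?_, ?_, ?_⟩, ‹_›⟩ <;> rw [hbq] <;> assumption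

omit [IsAlgClosed k] [IsAffine G.left] [Smooth G.hom] [ConnectedSpace G.left] in
/-- A quotient by a subgroup with open image is proper. -/
theorem isProper_of_isOpen {H X : Over (Spec (CommRingCat.of k))} [GrpObj H] [LocallyOfFiniteType G.hom]
    [QuasiCompact G.hom] {h : H ⟶ G} {a : AlgGrp.Action G X} {o : 𝟙_ (Over (Spec (CommRingCat.of k))) ⟶ X}
    (hopen : IsOpen (Set.range h.left)) (hq : AGF.IsQuotient h X a o) : IsProper X.hom := by
  have := AGStr.isFinite_quotient a o h hopen hq
  infer_instance

/-- Every quotient by a subgroup is proper once one is. -/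
theorem isProper_of_isProper {H X X' : Over (Spec (CommRingCat.of k))} [GrpObj H] {i : H ⟶ G}
    {a : AlgGrp.Action G X} {o : 𝟙_ (Over (Spec (CommRingCat.of k))) ⟶ X}
    {a' : AlgGrp.Action G X'} {o' : 𝟙_ (Over (Spec (CommRingCat.of k))) ⟶ X'}
    (hX : AGF.IsQuotient i X a o) (hp : IsProper X.hom) (hX' : AGF.IsQuotient i X' a' o') : IsProper X'.hom := by
  have := hp
  obtain ⟨e, -⟩ := Quot.exists_iso hX hX'
  exact Quot.isProper_of_iso e

/-- A non-solvable connected group has a smaller smooth connected subgroup with proper quotient. -/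
theorem exists_smaller (hns : ¬ Red.IsSolvableGrp G) :
    ∃ (H : Over (Spec (CommRingCat.of k))) (_ : GrpObj H) (i : H ⟶ G), IsMonHom i ∧ IsClosedImmersion i.left ∧
      Smooth H.hom ∧ ConnectedSpace H.left ∧ Set.range i.left ≠ Set.univ ∧
      ∀ (X : Over (Spec (CommRingCat.of k))) (a : AlgGrp.Action G X)
        (o : 𝟙_ (Over (Spec (CommRingCat.of k))) ⟶ X), AGF.IsQuotient i X a o → IsProper X.hom := by
  obtain ⟨S, _, iS, _, _, hne, X, a, o, hX, hp⟩ := exists_stab_proper hns
  have : LocallyOfFiniteType S.hom := by rw [← Over.w iS]; infer_instance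
  have : QuasiCompact S.hom := by rw [← Over.w iS]; infer_instance
  obtain ⟨R, _, iR, _, _, _, hsR, _, _⟩ := GrpSchLib.RedSubgroup.exists_redSubgroup S
  have : Smooth R.hom := GrpSchLib.smooth_of_isReduced_of_isAlgClosed R
  obtain ⟨H, _, iH, _, hcH, hflH, hrH, -, -⟩ := GrpSchLib.exists_identityComponent (G := R)
  have := hcH
  have := hflH
  have : IsLocallyNoetherian R.left := LocallyOfFiniteType.isLocallyNoetherian R.hom
  have : LocallyOfFinitePresentation iH.left := inferInstance
  have : IsOpenImmersion iH.left := IsOpenImmersion.of_flat_of_mono iH.left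
  have hHsm : Smooth H.hom := by rw [← Over.w iH]; infer_instance
  have hHc : ConnectedSpace H.left := by
    have h1 : _root_.IsConnected (Set.range iH.left) := hrH ▸ isConnected_connectedComponent
    rw [connectedSpace_iff_univ]
    refine ⟨?_, ?_⟩
    · obtain ⟨_, z, -⟩ := h1.nonempty
      exact ⟨z, trivial⟩
    · exact (iH.left.isClosedEmbedding.isInducing.isPreconnected_image).mp (Set.image_univ ▸ h1.isPreconnected)
  have : IsClosedImmersion (iH ≫ iR).left := by rw [Over.comp_left]; infer_instance
  have : IsClosedImmersion ((iH ≫ iR) ≫ iS).left := by rw [Over.comp_left]; infer_instance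
  refine ⟨H, inferInstance, (iH ≫ iR) ≫ iS, inferInstance, inferInstance, hHsm, hHc, fun hr => hne ?_, fun X' a' o' hX' => ?_⟩
  · have hsurj : Surjective iS.left := ⟨fun z => by
      obtain ⟨w, hw⟩ := (hr.ge trivial : z ∈ Set.range ((iH ≫ iR) ≫ iS).left)
      exact ⟨(iH ≫ iR).left w, hw⟩⟩
    have : IsReduced G.left := GrpSchLib.isReduced_of_smooth_field G.hom
    have := isIso_of_isClosedImmersion_of_surjective iS.left
    have : IsIso ((Over.forget _).map iS) := this
    exact isIso_of_reflects_iso iS (Over.forget _)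
  · refine Quot.isProper_trans (iH ≫ iR) hX (fun F b y hF => ?_) hX'
    refine isProper_of_isOpen (G := S) ?_ hF
    have hRhomeo : Function.Bijective iR.left := ⟨iR.left.isClosedEmbedding.injective, iR.left.surjective⟩
    rw [Over.comp_left, Scheme.Hom.comp_base, TopCat.coe_comp, Set.range_comp]
    have := iR.left.isClosedEmbedding.isInducing
    exact (isHomeomorph_iff_continuous_isClosedMap_bijective.mpr ⟨iR.left.continuous, iR.left.isClosedEmbedding.isClosedMap, hRhomeo⟩).isOpenMap _ iH.left.isOpenMap.isOpen_range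

/-- Every connected group has a smooth connected solvable subgroup with proper quotient. -/
theorem exists_solvable_proper :
    ∃ (B : Over (Spec (CommRingCat.of k))) (_ : GrpObj B) (i : B ⟶ G), IsMonHom i ∧ IsClosedImmersion i.left ∧
      Smooth B.hom ∧ ConnectedSpace B.left ∧ Red.IsSolvableGrp B ∧
      ∀ (X : Over (Spec (CommRingCat.of k))) (a : AlgGrp.Action G X)
        (o : 𝟙_ (Over (Spec (CommRingCat.of k))) ⟶ X), AGF.IsQuotient i X a o → IsProper X.hom := by
  suffices h : ∀ (C : TopologicalSpace.Closeds G.left) (H : Over (Spec (CommRingCat.of k))) (_ : GrpObj H)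
      (iH : H ⟶ G) (_ : IsMonHom iH) (_ : IsClosedImmersion iH.left) (_ : Smooth H.hom) (_ : ConnectedSpace H.left),
      Set.range iH.left = (C : Set G.left) →
      ∃ (B : Over (Spec (CommRingCat.of k))) (_ : GrpObj B) (i : B ⟶ H), IsMonHom i ∧ IsClosedImmersion i.left ∧
        Smooth B.hom ∧ ConnectedSpace B.left ∧ Red.IsSolvableGrp B ∧
        ∀ (X : Over (Spec (CommRingCat.of k))) (a : AlgGrp.Action H X)
          (o : 𝟙_ (Over (Spec (CommRingCat.of k))) ⟶ X), AGF.IsQuotient i X a o → IsProper X.hom by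
    exact h ⊤ G inferInstance (𝟙 G) inferInstance inferInstance inferInstance inferInstance
      (Set.range_eq_univ.mpr fun z => ⟨z, rfl⟩)
  have : CompactSpace G.left := inferInstance
  have : IsLocallyNoetherian G.left := LocallyOfFiniteType.isLocallyNoetherian G.hom
  have : IsNoetherian G.left := {}
  intro C
  induction C using WellFoundedLT.induction with
  | ind C ih =>
    intro H _ iH _ _ _ _ hC
    have : IsAffine H.left := isAffine_of_isAffineHom iH.left
    by_cases hs : Red.IsSolvableGrp H
    · refine ⟨H, inferInstance, 𝟙 H, inferInstance, inferInstance, inferInstance, inferInstance, hs, fun X a o hX => ?_⟩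
      exact isProper_of_isOpen (G := H) (h := 𝟙 H) (by
        have : Set.range (𝟙 H : H ⟶ H).left = Set.univ := Set.range_eq_univ.mpr fun z => ⟨z, rfl⟩
        rw [this]; exact isOpen_univ) hX
    obtain ⟨H', _, j, _, _, _, _, hjne, hjp⟩ := exists_smaller hs
    have : IsClosedImmersion (j ≫ iH).left := by rw [Over.comp_left]; infer_instance
    let C' : TopologicalSpace.Closeds G.left := ⟨Set.range (j ≫ iH).left, (j ≫ iH).left.isClosedEmbedding.isClosed_range⟩
    have hlt : C' < C := by
      refine lt_of_le_of_ne (fun z hz => ?_) fun he => hjne (Set.eq_univ_of_forall fun w => ?_)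
      · obtain ⟨w, rfl⟩ := hz
        exact hC.le ⟨j.left w, rfl⟩
      · have : iH.left w ∈ (C' : Set G.left) := he ▸ (hC.le ⟨w, rfl⟩)
        obtain ⟨v, hv⟩ := this
        exact ⟨v, iH.left.isClosedEmbedding.injective hv⟩
    obtain ⟨B, _, i, _, _, _, _, hBs, hBp⟩ := ih C' hlt H' inferInstance (j ≫ iH) inferInstance inferInstance
      inferInstance inferInstance rfl
    have : IsClosedImmersion (i ≫ j).left := by rw [Over.comp_left]; infer_instance
    refine ⟨B, inferInstance, i ≫ j, inferInstance, inferInstance, inferInstance, inferInstance, hBs,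
      fun X a o hX => ?_⟩
    have : LocallyOfFiniteType H'.hom := inferInstance
    have : IsAffine H'.left := isAffine_of_isAffineHom j.left
    have : Mono j.left := inferInstance
    have : Mono j := Over.mono_of_mono_left j
    obtain ⟨Y, b, y, hY1, -, hY2, hY3, hY4⟩ := GrpSchLib.HomogeneousQuot.exists_quot H H' j
    have hYq : AGF.IsQuotient j Y b y := ⟨hY1, hY2, hY3, hY4⟩
    have := hjp Y b y hYq
    exact Quot.isProper_trans i hYq hBp hX

end Groth.Agent.AGFRoot
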