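import Groth.Agent.AGFRoot.SolvInvariant
import Groth.Agent.AGFRoot.AffBridge
import Groth.Agent.AlgGrpQ.Kolchin
import Groth.Agent.GITQuot.Good
import Groth.Agent.GrpSchLib.OrbitImmersion
import Groth.Agent.GrpSchLib.MonoSubgroup
import Groth.Agent.GrpSchLib.AntiAffineHom
import Groth.Agent.GrpSchLib.SmoothReduced
import Mathlib.AlgebraicGeometry.Morphisms.Proper

/-!
# A connected solvable group has no proper quotient and fixes a point on a proper scheme
-/

set_option backward.isDefEq.respectTransparency false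

universe u

open CategoryTheory CategoryTheory.Limits MonoidalCategory CartesianMonoidalCategory MonObj GrpObj AlgebraicGeometry
open WithConv

namespace Groth.Agent.AGFRoot

open GrpSchLib.AffineHopf

variable {k : Type u} [Field k]


theorem exists_eq_spMap' {R B : Type u} [CommRing R] [CommRing B] [Algebra k R] [Algebra k B]
    (g : sp k R ⟶ sp k B) : ∃ f : B →ₐ[k] R, g = spMap f := by
  refine ⟨⟨(Spec.preimage g.left).hom, fun c => ?_⟩, Over.OverMorphism.ext ?_⟩
  · have h : CommRingCat.ofHom (algebraMap k B) ≫ Spec.preimage g.left = CommRingCat.ofHom (algebraMap k R) := by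
      apply Spec.map_injective
      rw [Spec.map_comp, Spec.map_preimage]
      exact Over.w g
    exact congr($h c)
  · exact (Spec.map_preimage g.left).symm

theorem spMap_injective' {R B : Type u} [CommRing R] [CommRing B] [Algebra k R] [Algebra k B]
    {f g : B →ₐ[k] R} (h : spMap f = spMap g) : f = g := by
  have h1 : CommRingCat.ofHom f.toRingHom = CommRingCat.ofHom g.toRingHom :=
    Spec.map_injective (congrArg CommaMorphism.left h)
  exact AlgHom.ext fun b => congr($h1 b)

theorem comp_orbitMap {G X T : Over (Spec (CommRingCat.of k))} [GrpObj G] (a : AlgGrp.Action G X)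
    (x : 𝟙_ (Over (Spec (CommRingCat.of k))) ⟶ X) (g : T ⟶ G) : g ≫ a.orbitMap x = lift g (toUnit T ≫ x) ≫ a.act := by
  rw [AlgGrp.Action.orbitMap, ← Category.assoc, comp_lift, Category.comp_id, ← Category.assoc, comp_toUnit]

theorem idem_trivial {A : Type u} [CommRing A] [_root_.IsReduced A] [PreconnectedSpace (PrimeSpectrum A)]
    (e : A) (he : IsIdempotentElem e) : e = 0 ∨ e = 1 := by
  have hmul : e * (1 - e) = 0 := by rw [mul_sub, _root_.mul_one, he, sub_self]
  rcases isClopen_iff.mp (PrimeSpectrum.isClopen_basicOpen_of_mul_add e (1 - e) hmul (add_sub_cancel _ _)) with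
    h | h
  · exact Or.inl ((PrimeSpectrum.basicOpen_eq_bot_iff e).mp (SetLike.coe_injective (h.trans (by simp)))).eq_zero
  · refine Or.inr ?_
    have h2 : PrimeSpectrum.basicOpen (1 - e) = ⊥ := by
      rw [eq_bot_iff]
      intro p hp
      have hpe : p ∈ (PrimeSpectrum.basicOpen e : Set (PrimeSpectrum A)) := by rw [h]; trivial
      refine absurd ?_ (show (1 - e) ∉ p.asIdeal from hp)
      refine (p.isPrime.mem_or_mem (show e * (1 - e) ∈ p.asIdeal from hmul ▸ zero_mem _)).resolve_left hpe
    exact (sub_eq_zero.mp ((PrimeSpectrum.basicOpen_eq_bot_iff _).mp h2).eq_zero).symm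

/-- An integral proper scheme over an algebraically closed field has only constant functions. -/
theorem bijective_appTop_of_integral [IsAlgClosed k] (Q : Over (Spec (CommRingCat.of k))) [IsProper Q.hom]
    [IsIntegral Q.left] : Function.Bijective Q.hom.appTop := by
  have hfin := finite_appTop_of_universallyClosed k Q.hom
  let φ := (Scheme.ΓSpecIso (CommRingCat.of k)).inv ≫ Q.hom.appTop
  have hφ : φ.hom.Finite := hfin.comp
    (RingHom.Finite.of_surjective _ (ConcreteCategory.bijective_of_isIso (Scheme.ΓSpecIso (CommRingCat.of k)).inv).2)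
  let : Algebra k Γ(Q.left, ⊤) := φ.hom.toAlgebra
  have : Module.Finite k Γ(Q.left, ⊤) := hφ
  have : Algebra.IsIntegral k Γ(Q.left, ⊤) := Algebra.IsIntegral.of_finite k _
  exact (GrpSchLib.AntiAffine.bijective_appTop_iff Q.hom).mp
    ⟨RingHom.injective φ.hom, IsAlgClosed.algebraMap_bijective_of_isIntegral.2⟩

theorem irreducibleSpace_of_surjective {Y Z : Type*} [TopologicalSpace Y] [TopologicalSpace Z] [IrreducibleSpace Y]
    {f : Y → Z} (hf : Continuous f) (hs : Function.Surjective f) : IrreducibleSpace Z := by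
  rw [irreducibleSpace_def]
  show IsIrreducible Set.univ
  rw [← Set.image_univ_of_surjective hs]
  exact (IrreducibleSpace.isIrreducible_univ Y).image f hf.continuousOn

section Main

variable [IsAlgClosed k] {G : Over (Spec (CommRingCat.of k))} [GrpObj G] [IsAffine G.left] [Smooth G.hom]
  [ConnectedSpace G.left] [Group.IsSolvable (𝟙_ (Over (Spec (CommRingCat.of k))) ⟶ G)]

/-- A connected solvable affine group has no nontrivial proper quotient. -/
theorem isIso_of_proper_quotient {H Q : Over (Spec (CommRingCat.of k))} [GrpObj H] (i : H ⟶ G) [IsMonHom i]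
    [IsClosedImmersion i.left] (q : G ⟶ Q) [Surjective q.left] [Flat q.left] [LocallyOfFinitePresentation q.left]
    (sq : IsPullback (fst G H) ((G ◁ i) ≫ μ[G]) q q) [IsProper Q.hom] : IsIso i := by
  classical
  have : IsAffine H.left := isAffine_of_isAffineHom i.left
  obtain ⟨A, _, _, ⟨tG⟩⟩ := exists_hopf G
  obtain ⟨B, _, _, ⟨tH⟩⟩ := exists_hopf H
  let eG : sp k A ≅ G := (Grp.forget _).mapIso tG
  let eH : sp k B ≅ H := (Grp.forget _).mapIso tH
  have : IsMonHom eG.hom := tG.hom.hom.isMonHom_hom
  have : IsMonHom eG.inv := tG.inv.hom.isMonHom_hom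
  have : IsMonHom eH.hom := tH.hom.hom.isMonHom_hom
  have hiG : IsIso eG.inv.left := inferInstanceAs (IsIso ((Over.forget _).map eG.inv))
  have hiG' : IsIso eG.hom.left := inferInstanceAs (IsIso ((Over.forget _).map eG.hom))
  have hiH : IsIso eH.hom.left := inferInstanceAs (IsIso ((Over.forget _).map eH.hom))
  have : Algebra.FiniteType k A := finiteType_of_iso eG
  have : IsReduced G.left := GrpSchLib.isReduced_of_smooth_field G.hom
  have : IsReduced (Spec (CommRingCat.of A)) := isReduced_of_isOpenImmersion eG.hom.left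
  have : _root_.IsReduced A := (affine_isReduced_iff (CommRingCat.of A)).mp inferInstance
  have : PreconnectedSpace (PrimeSpectrum A) :=
    ((Scheme.homeoOfIso (asIso eG.inv.left)).surjective.denseRange.preconnectedSpace
      (Scheme.homeoOfIso (asIso eG.inv.left)).continuous :)
  have hconn : ∀ e : A, IsIdempotentElem e → e = 0 ∨ e = 1 := idem_trivial
  -- solvability of the points of the Hopf algebra
  let ψ : WithConv (A →ₐ[k] k) →* (𝟙_ (Over (Spec (CommRingCat.of k))) ⟶ G) := MonoidHom.mk' (fun f => unitSp.hom ≫ spMap f.ofConv ≫ eG.hom)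
    fun f g => by
      rw [← MonObj.comp_mul, ← MonObj.mul_comp, spMap_mul, toConv_ofConv, toConv_ofConv]
  have hψ : Function.Injective ψ := fun f g h => by
    have h' : unitSp.hom ≫ spMap f.ofConv ≫ eG.hom = unitSp.hom ≫ spMap g.ofConv ≫ eG.hom := h
    rw [cancel_epi, cancel_mono] at h'
    exact WithConv.ofConv_injective (spMap_injective h')
  have : Group.IsSolvable (WithConv (A →ₐ[k] k)) := Group.isSolvable_of_isSolvable_injective hψ
  have hT := AlgGrpQ.isTrigonalizable_of_solvable k A hconn
  have : IsDomain A := ComodLib.isDomain_of_connected k hconn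
  -- the subgroup in coordinates
  obtain ⟨π, hπ⟩ := exists_bialgHom (eH.hom ≫ i ≫ eG.inv)
  have hsurj : Function.Surjective π := surjective_of_isClosedImmersion (π : A →ₐ[k] B) (by
    rw [← hπ, Over.comp_left, Over.comp_left]; infer_instance)
  -- the quotient is integral
  have : IsReduced Q.left := FBaseLib.isReduced_of_flat_surjective q.left
  have : IrreducibleSpace (sp k A).left := inferInstanceAs (IrreducibleSpace (PrimeSpectrum A))
  have : IrreducibleSpace G.left :=
    irreducibleSpace_of_surjective (Scheme.homeoOfIso (asIso eG.hom.left)).continuous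
      (Scheme.homeoOfIso (asIso eG.hom.left)).surjective
  have : IrreducibleSpace Q.left := irreducibleSpace_of_surjective q.left.continuous q.left.surjective
  have : IsIntegral Q.left := isIntegral_of_irreducibleSpace_of_isReduced Q.left
  have hinj : Function.Injective π := by
    refine injective_of_rightInv_const hT π hsurj fun f hf => ?_
    let ψf : G ⟶ sp k (Polynomial k) := eG.inv ≫ spMap (Polynomial.aeval f)
    have heq : fst G H ≫ ψf = ((G ◁ i) ≫ μ[G]) ≫ ψf := by
      refine ext_sp fun R _ _ j => ?_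
      have hj : j ≫ (G ◁ i) ≫ μ[G] = (j ≫ fst G H) * (j ≫ snd G H ≫ i) := by
        have : j ≫ (G ◁ i) = lift (j ≫ fst G H) (j ≫ snd G H ≫ i) := by
          apply CartesianMonoidalCategory.hom_ext <;> simp
        rw [Hom.mul_def, ← this, Category.assoc]
      obtain ⟨g₀, hg₀⟩ := exists_eq_spMap (j ≫ fst G H ≫ eG.inv)
      obtain ⟨h₀, hh₀⟩ := exists_eq_spMap (j ≫ snd G H ≫ eH.inv)
      have hi : j ≫ snd G H ≫ i ≫ eG.inv = spMap (h₀.comp (π : A →ₐ[k] B)) := by
        rw [← spMap_comp, ← hh₀, ← hπ]
        simp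
      have hr : (j ≫ (G ◁ i) ≫ μ[G]) ≫ eG.inv =
          spMap (toConv g₀ * toConv (h₀.comp (π : A →ₐ[k] B))).ofConv := by
        rw [hj, MonObj.mul_comp, Category.assoc, Category.assoc, Category.assoc, hg₀, hi, spMap_mul]
      show j ≫ fst G H ≫ eG.inv ≫ spMap (Polynomial.aeval f) =
        j ≫ ((G ◁ i) ≫ μ[G]) ≫ eG.inv ≫ spMap (Polynomial.aeval f)
      rw [← Category.assoc (fst G H), ← Category.assoc j (fst G H ≫ eG.inv), hg₀,
        ← Category.assoc j ((G ◁ i) ≫ μ[G]), ← Category.assoc _ eG.inv, hr, spMap_comp, spMap_comp]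
      congr 1
      refine Polynomial.algHom_ext ?_
      simp only [AlgHom.comp_apply, Polynomial.aeval_X]
      exact (hf R g₀ h₀).symm
    obtain ⟨e, he⟩ := GrpSchLib.OrbitImmersion.exists_desc sq ψf heq
    have : IsAffine (sp k (Polynomial k)).left := isAffine_Spec _
    have hconst := GrpSchLib.AntiAffine.eq_const_of_isAffine (bijective_appTop_of_integral Q) e (η[G] ≫ q)
    obtain ⟨c, hc⟩ := exists_eq_spMap' (unitSp.inv ≫ η[G] ≫ q ≫ e)
    refine ⟨c Polynomial.X, ?_⟩
    have hψ' : ψf = toUnit G ≫ η[G] ≫ q ≫ e := by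
      rw [← he]
      conv_lhs => rw [hconst]
      rw [← Category.assoc q, comp_toUnit, Category.assoc]
    have h1 : spMap (Polynomial.aeval f) = spMap ((Algebra.ofId k A).comp c) := by
      have h2 := congrArg (fun w => eG.hom ≫ w) hψ'
      simp only [ψf, Iso.hom_inv_id_assoc] at h2
      rw [h2, ← spMap_comp, ← hc, ← Category.assoc eG.hom, comp_toUnit,
        unique_to_base (spMap (Algebra.ofId k A)) (toUnit _ ≫ unitSp.hom), Category.assoc,
        Iso.hom_inv_id_assoc]
    simpa using DFunLike.congr_fun (spMap_injective' h1) Polynomial.X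
  have : IsIso (spMap (π : A →ₐ[k] B)).left := by
    have : IsIso (CommRingCat.ofHom (π : A →ₐ[k] B).toRingHom) :=
      (ConcreteCategory.isIso_iff_bijective _).mpr ⟨hinj, hsurj⟩
    exact inferInstanceAs (IsIso (Spec.map (CommRingCat.ofHom (π : A →ₐ[k] B).toRingHom)))
  have : IsIso ((Over.forget _).map (spMap (π : A →ₐ[k] B))) := ‹_›
  have hsp : IsIso (spMap (π : A →ₐ[k] B)) := isIso_of_reflects_iso _ (Over.forget _)
  have : i = eH.inv ≫ spMap (π : A →ₐ[k] B) ≫ eG.hom := by rw [← hπ]; simp
  rw [this]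
  infer_instance

variable {X : Over (Spec (CommRingCat.of k))} (a : AlgGrp.Action G X)

omit [IsAffine G.left] [ConnectedSpace G.left] [Group.IsSolvable (𝟙_ (Over (Spec (CommRingCat.of k))) ⟶ G)] in
theorem exists_stab [IsSeparated X.hom] (x : 𝟙_ (Over (Spec (CommRingCat.of k))) ⟶ X) :
    ∃ (S : Over (Spec (CommRingCat.of k))) (_ : GrpObj S) (i : S ⟶ G), IsMonHom i ∧ IsClosedImmersion i.left ∧
      IsPullback i (toUnit S) (a.orbitMap x) x := by
  let i := pullback.fst (a.orbitMap x) x
  have hpb : IsPullback i (toUnit _) (a.orbitMap x) x := by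
    have h := IsPullback.of_hasPullback (a.orbitMap x) x
    rwa [toUnit_unique (pullback.snd (a.orbitMap x) x) (toUnit _)] at h
  have hlift : ∀ {T : Over (Spec (CommRingCat.of k))} (g : T ⟶ G),
      lift g (toUnit T ≫ x) ≫ a.act = toUnit T ≫ x → ∃ h, h ≫ i = g := fun g hg =>
    ⟨hpb.lift g (toUnit _) (by rw [comp_orbitMap, hg]), hpb.lift_fst _ _ _⟩
  have hmem : ∀ {T : Over (Spec (CommRingCat.of k))} (h : T ⟶ _),
      lift (h ≫ i) (toUnit T ≫ x) ≫ a.act = toUnit T ≫ x := fun {T} h => by
    rw [← comp_orbitMap, Category.assoc, hpb.w, ← Category.assoc, comp_toUnit]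
  obtain ⟨η', he⟩ := hlift (1 : 𝟙_ (Over (Spec (CommRingCat.of k))) ⟶ G) (GrpSchLib.act_one _ _)
  let P := pullback (a.orbitMap x) x
  obtain ⟨μ', hm⟩ := hlift ((fst P P ≫ i) * (snd P P ≫ i)) (by
    rw [← GrpSchLib.act_mul, hmem, hmem])
  obtain ⟨ι', hv⟩ := hlift i⁻¹ (by
    have h1 := hmem (𝟙 P)
    rw [Category.id_comp] at h1
    conv_lhs => rw [← h1]
    rw [GrpSchLib.act_mul, inv_mul_cancel, GrpSchLib.act_one])
  have he' : η' ≫ i = η[G] := by
    rw [he, Hom.one_def, toUnit_unit, Category.id_comp]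
  have hx' : IsClosedImmersion x.left := by
    have : IsClosedImmersion (x.left ≫ X.hom) := by
      rw [Over.w x]; exact inferInstanceAs (IsClosedImmersion (𝟙 (Spec (CommRingCat.of k))))
    exact IsClosedImmersion.of_comp x.left X.hom
  have : Mono x := Over.mono_of_mono_left _
  have : Mono i := inferInstanceAs (Mono (pullback.fst (a.orbitMap x) x))
  obtain ⟨str, hstr⟩ := GrpSchLib.exists_grpObj_of_mono i η' he' μ' hm ι' hv
  refine ⟨P, str, i, hstr, ?_, hpb⟩
  exact MorphismProperty.of_isPullback (P := @IsClosedImmersion) (hpb.map (Over.forget _)).flip hx'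

omit [IsAffine G.left] [ConnectedSpace G.left] [Group.IsSolvable (𝟙_ (Over (Spec (CommRingCat.of k))) ⟶ G)] in
theorem exists_closed_orbit [QuasiCompact G.hom] [LocallyOfFiniteType X.hom] [QuasiCompact X.hom]
    [Nonempty X.left] : ∃ x : 𝟙_ (Over (Spec (CommRingCat.of k))) ⟶ X, IsClosed (Set.range (a.orbitMap x).left) := by
  classical
  open GITQuot.Good in
  have : CompactSpace X.left := (quasiCompact_iff_compactSpace X.hom).mp inferInstance
  have : IsLocallyNoetherian X.left := LocallyOfFiniteType.isLocallyNoetherian X.hom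
  have : IsNoetherian X.left := {}
  let P : TopologicalSpace.Closeds X.left → Prop := fun C =>
    NRQuot.IsInvariantSet a (C : Set X.left) ∧ (C : Set X.left).Nonempty
  have hne : {C | P C}.Nonempty := ⟨⊤, fun p _ => trivial, Set.univ_nonempty⟩
  obtain ⟨C, ⟨hCi, hCne⟩, hmin⟩ := (wellFounded_lt (α := TopologicalSpace.Closeds X.left)).has_min _ hne
  obtain ⟨x, hx⟩ := GITQuot.Good.exists_point X C.isClosed.isLocallyClosed hCne
  refine ⟨x, ?_⟩
  have hO := GITQuot.Good.isInvariantSet_range_orbit a x
  have hsub : Set.range (a.orbitMap x).left ⊆ (C : Set X.left) := by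
    rintro _ ⟨g, rfl⟩
    show (lift (𝟙 G) (toUnit G ≫ x) ≫ a.act).left g ∈ (C : Set X.left)
    refine hCi _ ?_
    show (lift (𝟙 G) (toUnit G ≫ x) ≫ snd G X).left g ∈ (C : Set X.left)
    rw [lift_snd]
    exact (congrArg x.left (Subsingleton.elim (α := Spec (CommRingCat.of k)) _ _)).symm ▸ hx
  by_contra hnc
  let D : TopologicalSpace.Closeds X.left :=
    ⟨closure (Set.range (a.orbitMap x).left) \ Set.range (a.orbitMap x).left,
      ⟨(GITQuot.Good.isLocallyClosed_orbit a x).isOpen_coborder⟩⟩
  refine hmin D ⟨fun p hp => ⟨GITQuot.Good.isInvariantSet_closure a hO p hp.1,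
    fun h' => hp.2 ((GITQuot.Good.preimage_eq a hO).le h')⟩, ?_⟩ ?_
  · rw [Set.nonempty_iff_ne_empty]
    exact fun he => hnc (closure_subset_iff_isClosed.mp (Set.sdiff_eq_empty.mp he))
  · refine lt_of_le_not_ge (fun p hp => closure_minimal hsub C.isClosed hp.1) fun hle => ?_
    exact (hle hx).2 (GITQuot.Good.mem_orbit a x)

/-- Borel's fixed point theorem over an algebraically closed field. -/
theorem exists_fixedPt [IsProper X.hom] [Nonempty X.left] : ∃ x : 𝟙_ (Over (Spec (CommRingCat.of k))) ⟶ X, a.IsFixedPt x := by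
  have : IsReduced G.left := GrpSchLib.isReduced_of_smooth_field G.hom
  obtain ⟨x, hx⟩ := exists_closed_orbit a
  refine ⟨x, ?_⟩
  obtain ⟨S, _, i, _, _, hpb⟩ := exists_stab a x
  obtain ⟨Q, q, m, ⟨hs, hfl, hlfp, sq⟩, hQ, hm, hqm⟩ := GrpSchLib.OrbitImmersion.exists_quot a x i hpb
  obtain ⟨himm, -, hrange⟩ := GrpSchLib.OrbitImmersion.main a x q m hqm
  have : IsClosedImmersion m.left := IsClosedImmersion.of_isPreimmersion _ (by rw [hrange]; exact hx)
  have : IsProper Q.hom := by rw [← Over.w m]; infer_instance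
  have := isIso_of_proper_quotient i q sq
  intro T g
  rw [← comp_orbitMap, ← IsIso.inv_hom_id_assoc i (a.orbitMap x), hpb.w, ← Category.assoc _ (toUnit S),
    comp_toUnit, ← Category.assoc, comp_toUnit]

end Main

end Groth.Agent.AGFRoot
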