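import Groth.Agent.AGFRoot.BorelConj
import Groth.Agent.GrpSchLib.ImageFactor
import Groth.Agent.GrpSchLib.GeomIrr
import Groth.Agent.GrpSchLib.ReducedPoints
import Groth.Agent.GrpSchLib.NormalQuot

/-!
# Images of Borel subgroups, and Borel subgroups normalised by Borel subgroups
-/

set_option autoImplicit false
set_option backward.isDefEq.respectTransparency false

universe u

open CategoryTheory CategoryTheory.Limits MonoidalCategory CartesianMonoidalCategory MonObj GrpObj AlgebraicGeometry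

namespace Groth.Agent.AGFRoot

variable {k : Type u} [Field k]

theorem conjBy_comp {G Q H : Over (Spec (CommRingCat.of k))} [GrpObj G] [GrpObj Q] (q : G ⟶ Q) [IsMonHom q]
    (g : 𝟙_ (Over (Spec (CommRingCat.of k))) ⟶ G) (i : H ⟶ G) :
    AGF.conjBy g i ≫ q = AGF.conjBy (g ≫ q) (i ≫ q) := by
  simp only [AGF.conjBy, MonObj.mul_comp, GrpObj.inv_comp, Category.assoc]

theorem whisker_mul_comp {G Q P : Over (Spec (CommRingCat.of k))} [GrpObj G] [GrpObj Q] [GrpObj P] (i : P ⟶ G)
    (q : G ⟶ Q) [IsMonHom q] :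
    ((G ◁ i) ≫ μ[G]) ≫ q = (fst G P ≫ q) * (snd G P ≫ i ≫ q) := by
  rw [← Category.id_comp ((G ◁ i) ≫ μ[G]), Quot.lift_whisker_mul, MonObj.mul_comp, Category.id_comp,
    Category.id_comp, Category.assoc]

theorem connectedSpace_of_surjective {X Y : Scheme.{u}} (f : X ⟶ Y) [Surjective f] [ConnectedSpace X] :
    ConnectedSpace Y where
  toPreconnectedSpace := f.surjective.denseRange.preconnectedSpace f.continuous
  toNonempty := Nonempty.map f inferInstance

variable [IsAlgClosed k]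

/-- A smooth surjective image of a solvable group is solvable. -/
theorem isSolvableGrp_of_surjective {G I : Over (Spec (CommRingCat.of k))} [GrpObj G] [GrpObj I]
    [LocallyOfFiniteType G.hom] [Smooth I.hom] (q : G ⟶ I) [IsMonHom q] [Surjective q.left]
    (hs : Red.IsSolvableGrp G) : Red.IsSolvableGrp I := by
  have := isSolvable_points hs
  let f : (𝟙_ (Over (Spec (CommRingCat.of k))) ⟶ G) →* (𝟙_ (Over (Spec (CommRingCat.of k))) ⟶ I) :=
    MonoidHom.mk' (fun g => g ≫ q) fun g h => MonObj.mul_comp g h q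
  have : Group.IsSolvable (𝟙_ (Over (Spec (CommRingCat.of k))) ⟶ I) :=
    Group.isSolvable_of_surjective (f := f) fun x => exists_point_over q x
  exact isSolvableGrp_of_points

variable {G Q : Over (Spec (CommRingCat.of k))} [GrpObj G] [GrpObj Q] [IsAffine G.left] [Smooth G.hom]
  [IsAffine Q.left] [Smooth Q.hom]

/-- Properness of quotients passes to images. -/
theorem isProper_image_quotient {P P' X Y : Over (Spec (CommRingCat.of k))} [GrpObj P] [GrpObj P'] (q : G ⟶ Q)
    [IsMonHom q] [Surjective q.left] {iP : P ⟶ G} {b : AlgGrp.Action G Y} {y : 𝟙_ (Over (Spec (CommRingCat.of k))) ⟶ Y}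
    (hY : AGF.IsQuotient iP Y b y) [IsProper Y.hom] (iP' : P' ⟶ Q) [IsMonHom iP'] [IsClosedImmersion iP'.left]
    (p : P ⟶ P') (hp : p ≫ iP' = iP ≫ q) {a : AlgGrp.Action Q X} {o : 𝟙_ (Over (Spec (CommRingCat.of k))) ⟶ X}
    (hX : AGF.IsQuotient iP' X a o) : IsProper X.hom := by
  have := Quot.isSeparated_quotient hX
  obtain ⟨hl, -, -, -⟩ := Quot.facts hX
  obtain ⟨-, -, hlfp, -⟩ := Quot.facts hY
  have := hl
  have := hlfp
  have := hY.2.1
  have := hY.2.2.1
  obtain ⟨π, hπ⟩ := GrpSchLib.OrbitImmersion.exists_desc hY.2.2.2 (q ≫ a.orbitMap o) (by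
    rw [← Category.assoc, ← Category.assoc]
    refine (Quot.orbit_eq_iff hX.2.2.2 _ _).mpr ⟨snd G P ≫ p, ?_⟩
    rw [whisker_mul_comp, Category.assoc, hp])
  have : Surjective π.left := by
    have : Surjective ((b.orbitMap y).left ≫ π.left) := by
      rw [← Over.comp_left, hπ, Over.comp_left]
      have := hX.2.2.1
      infer_instance
    exact Surjective.of_comp (b.orbitMap y).left π.left
  have : UniversallyClosed (π.left ≫ X.hom) := by rw [Over.w π]; infer_instance
  have := UniversallyClosed.of_comp_surjective π.left X.hom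
  exact ⟨⟩

variable [ConnectedSpace G.left] [ConnectedSpace Q.left]

/-- The image of a parabolic subgroup is parabolic. -/
theorem isParabolicOver_image {P P' : Over (Spec (CommRingCat.of k))} [GrpObj P] [GrpObj P'] (q : G ⟶ Q)
    [IsMonHom q] [Surjective q.left] {iP : P ⟶ G} (hP : Red.IsParabolicOver k iP) (iP' : P' ⟶ Q) [IsMonHom iP']
    [IsClosedImmersion iP'.left] [IsReduced P'.left] (p : P ⟶ P') (hp : p ≫ iP' = iP ≫ q) :
    Red.IsParabolicOver k iP' := by
  have hP' := hP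
  obtain ⟨hm, hc, hsm, -⟩ := hP'
  have := hm
  have := hc
  have := hsm
  have : IsAffine P.left := isAffine_of_isAffineHom iP.left
  have : IsAffine P'.left := isAffine_of_isAffineHom iP'.left
  have : LocallyOfFiniteType P'.hom := by rw [← Over.w iP']; infer_instance
  have : Smooth P'.hom := GrpSchLib.smooth_of_isReduced_of_isAlgClosed P'
  have : Mono iP.left := inferInstance
  have : Mono iP := Over.mono_of_mono_left iP
  have : Mono iP'.left := inferInstance
  have : Mono iP' := Over.mono_of_mono_left iP'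
  obtain ⟨Y, b, y, hY1, -, hY2, hY3, hY4⟩ := GrpSchLib.HomogeneousQuot.exists_quot G P iP
  obtain ⟨X, a, o, hX1, -, hX2, hX3, hX4⟩ := GrpSchLib.HomogeneousQuot.exists_quot Q P' iP'
  have hY : AGF.IsQuotient iP Y b y := ⟨hY1, hY2, hY3, hY4⟩
  have hX : AGF.IsQuotient iP' X a o := ⟨hX1, hX2, hX3, hX4⟩
  have := (isProper_iff_isParabolicOver iP hY).mpr hP
  exact (isProper_iff_isParabolicOver iP' hX).mp (isProper_image_quotient q hY iP' p hp hX)

/-- The image of a Borel subgroup is a Borel subgroup. -/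
theorem isBorelOver_image {B B' : Over (Spec (CommRingCat.of k))} [GrpObj B] [GrpObj B'] (q : G ⟶ Q) [IsMonHom q]
    [Surjective q.left] {iB : B ⟶ G} (hB : Red.IsBorelOver k iB) (iB' : B' ⟶ Q) [IsMonHom iB']
    [IsClosedImmersion iB'.left] [IsReduced B'.left] (p : B ⟶ B') [Surjective p.left] (hp : p ≫ iB' = iB ≫ q) :
    Red.IsBorelOver k iB' := by
  have hB' := hB
  obtain ⟨hm, hc, hsm, hcn, hs, -⟩ := hB'
  have := hm
  have := hc
  have := hsm
  have := hcn
  have : IsAffine B.left := isAffine_of_isAffineHom iB.left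
  have : IsAffine B'.left := isAffine_of_isAffineHom iB'.left
  have : LocallyOfFiniteType B'.hom := by rw [← Over.w iB']; infer_instance
  have : Smooth B'.hom := GrpSchLib.smooth_of_isReduced_of_isAlgClosed B'
  have : Mono iB.left := inferInstance
  have : Mono iB := Over.mono_of_mono_left iB
  have : Mono iB'.left := inferInstance
  have : Mono iB' := Over.mono_of_mono_left iB'
  have : IsMonHom p :=
    { one_hom := by rw [← cancel_mono iB', Category.assoc, hp, IsMonHom.one_hom (iB ≫ q), IsMonHom.one_hom iB']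
      mul_hom := by
        rw [← cancel_mono iB', Category.assoc, hp, IsMonHom.mul_hom (iB ≫ q), Category.assoc, IsMonHom.mul_hom iB',
          MonoidalCategory.tensorHom_comp_tensorHom_assoc, hp] }
  have : ConnectedSpace B'.left := connectedSpace_of_surjective p.left
  have hs' : Red.IsSolvableGrp B' := isSolvableGrp_of_surjective p hs
  obtain ⟨Y, b, y, hY1, -, hY2, hY3, hY4⟩ := GrpSchLib.HomogeneousQuot.exists_quot G B iB
  obtain ⟨X, a, o, hX1, -, hX2, hX3, hX4⟩ := GrpSchLib.HomogeneousQuot.exists_quot Q B' iB'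
  have hY : AGF.IsQuotient iB Y b y := ⟨hY1, hY2, hY3, hY4⟩
  have hX : AGF.IsQuotient iB' X a o := ⟨hX1, hX2, hX3, hX4⟩
  have := isProper_of_isBorelOver hB hY
  have := isProper_image_quotient q hY iB' p hp hX
  exact isBorelOver_of_isProper iB' hs' hX

/-- The image of a Borel subgroup exists. -/
theorem exists_borel_image {B : Over (Spec (CommRingCat.of k))} [GrpObj B] (q : G ⟶ Q) [IsMonHom q]
    [Surjective q.left] {iB : B ⟶ G} (hB : Red.IsBorelOver k iB) :
    ∃ (I : Over (Spec (CommRingCat.of k))) (_ : GrpObj I) (i : I ⟶ Q) (p : B ⟶ I),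
      Red.IsBorelOver k i ∧ Surjective p.left ∧ p ≫ i = iB ≫ q := by
  have := hB.1
  have := hB.2.1
  have := hB.2.2.1
  have : IsAffine B.left := isAffine_of_isAffineHom iB.left
  obtain ⟨I, _, p, i, _, _, hpi, _, hfl, hsu, hl, -⟩ := GrpSchLib.ImageFactor.exists_image (iB ≫ q)
  have := hfl
  have := hsu
  have : IsReduced B.left := isReduced_of_smooth
  have : IsReduced I.left := FBaseLib.isReduced_of_flat_surjective p.left
  exact ⟨I, inferInstance, i, p, isBorelOver_image q hB i p hpi, hsu, hpi⟩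

/-- Every Borel subgroup of a quotient group comes from a Borel subgroup. -/
theorem exists_borel_onto (q : G ⟶ Q) [IsMonHom q] [Surjective q.left] {B' : Over (Spec (CommRingCat.of k))}
    [GrpObj B'] {iB' : B' ⟶ Q} (hB' : Red.IsBorelOver k iB') :
    ∃ (B : Over (Spec (CommRingCat.of k))) (_ : GrpObj B) (iB : B ⟶ G) (p : B ⟶ B'),
      Red.IsBorelOver k iB ∧ Surjective p.left ∧ p ≫ iB' = iB ≫ q := by
  obtain ⟨B, _, iB, hB, -⟩ := exists_borel_proper (G := G)
  obtain ⟨I, _, i, p, hI, hsu, hpi⟩ := exists_borel_image q hB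
  obtain ⟨g, f, hf⟩ := borel_conj hI hB'
  obtain ⟨g', hg'⟩ := exists_point_over q g
  refine ⟨B, inferInstance, AGF.conjBy g' iB, p ≫ f.hom, isBorelOver_conjBy hB g', ?_, ?_⟩
  · have := hsu
    have : IsIso f.hom.left := ((Over.forget _).mapIso f).isIso_hom
    rw [Over.comp_left]
    infer_instance
  · rw [Category.assoc, hf, comp_conjBy, hpi, conjBy_comp, hg']

/-- The reduced preimage of a closed subgroup. -/
theorem exists_preimage (q : G ⟶ Q) [IsMonHom q] {P' : Over (Spec (CommRingCat.of k))} [GrpObj P'] (iP' : P' ⟶ Q)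
    [IsMonHom iP'] [IsClosedImmersion iP'.left] :
    ∃ (P : Over (Spec (CommRingCat.of k))) (_ : GrpObj P) (iP : P ⟶ G) (p : P ⟶ P'), IsMonHom iP ∧
      IsClosedImmersion iP.left ∧ Smooth P.hom ∧ p ≫ iP' = iP ≫ q ∧ (Surjective q.left → Surjective p.left) ∧
      ∀ (T : Over (Spec (CommRingCat.of k))) [IsReduced T.left] (g : T ⟶ G) (t : T ⟶ P'),
        g ≫ q = t ≫ iP' → ∃ s : T ⟶ P, s ≫ iP = g := by
  let i := pullback.fst q iP'
  let r := pullback.snd q iP'
  have hw : i ≫ q = r ≫ iP' := pullback.condition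
  have hlift : ∀ {T : Over (Spec (CommRingCat.of k))} (g : T ⟶ G) (t : T ⟶ P'),
      g ≫ q = t ≫ iP' → ∃ h : T ⟶ pullback q iP', h ≫ i = g := fun g t h =>
    ⟨pullback.lift g t h, pullback.lift_fst _ _ _⟩
  let P := pullback q iP'
  obtain ⟨η', he⟩ := hlift η[G] η[P'] (by rw [IsMonHom.one_hom q, IsMonHom.one_hom iP'])
  obtain ⟨μ', hm⟩ := hlift ((fst P P ≫ i) * (snd P P ≫ i)) ((fst P P ≫ r) * (snd P P ≫ r)) (by
    simp only [MonObj.mul_comp, Category.assoc, hw])
  obtain ⟨ι', hv⟩ := hlift i⁻¹ r⁻¹ (by simp only [GrpObj.inv_comp, hw])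
  have : Mono iP'.left := inferInstance
  have : Mono iP' := Over.mono_of_mono_left iP'
  have : Mono i := inferInstanceAs (Mono (pullback.fst q iP'))
  obtain ⟨str, hi⟩ := GrpSchLib.exists_grpObj_of_mono i η' he μ' hm ι' hv
  letI := str
  haveI := hi
  have hsq := (IsPullback.of_hasPullback q iP').map (Over.forget _)
  have hic : IsClosedImmersion i.left :=
    MorphismProperty.of_isPullback (P := @IsClosedImmersion) hsq.flip ‹_›
  have : LocallyOfFiniteType (pullback q iP').hom := by rw [← Over.w i]; infer_instance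
  have : QuasiCompact (pullback q iP').hom := by rw [← Over.w i]; infer_instance
  obtain ⟨R, _, j, _, _, hred, hjs, hl, -⟩ := GrpSchLib.RedSubgroup.exists_redSubgroup (pullback q iP')
  have := hred
  have := hl
  have : IsClosedImmersion (j ≫ i).left := by rw [Over.comp_left]; infer_instance
  refine ⟨R, inferInstance, j ≫ i, j ≫ r, inferInstance, inferInstance,
    GrpSchLib.smooth_of_isReduced_of_isAlgClosed R, by rw [Category.assoc, Category.assoc, hw], fun hqs => ?_,
    fun T _ g t hgt => ?_⟩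
  · have : Surjective r.left := MorphismProperty.of_isPullback (P := @Surjective) hsq hqs
    have := hjs
    rw [Over.comp_left]
    infer_instance
  · let h : T ⟶ pullback q iP' := pullback.lift g t hgt
    let c := pullback.fst h.left j.left
    have : Surjective c := by
      have := hjs
      exact MorphismProperty.pullback_fst (P := @Surjective) _ _ ‹_›
    have := isIso_of_isClosedImmersion_of_surjective c
    let s := inv c ≫ pullback.snd h.left j.left
    have hs : s ≫ j.left = h.left := by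
      rw [Category.assoc, ← pullback.condition, IsIso.inv_hom_id_assoc]
    refine ⟨Over.homMk s (by rw [← Over.w j, ← Category.assoc, hs, Over.w h]), ?_⟩
    have e : (Over.homMk s (by rw [← Over.w j, ← Category.assoc, hs, Over.w h]) : T ⟶ R) ≫ j = h :=
      Over.OverMorphism.ext hs
    rw [← Category.assoc, e]
    exact pullback.lift_fst _ _ _

/-- Every parabolic subgroup of a quotient group comes from a parabolic subgroup. -/
theorem exists_parabolic_onto (q : G ⟶ Q) [IsMonHom q] [Surjective q.left] {P' : Over (Spec (CommRingCat.of k))}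
    [GrpObj P'] {iP' : P' ⟶ Q} (hP' : Red.IsParabolicOver k iP') :
    ∃ (P : Over (Spec (CommRingCat.of k))) (_ : GrpObj P) (iP : P ⟶ G) (p : P ⟶ P'),
      Red.IsParabolicOver k iP ∧ Surjective p.left ∧ p ≫ iP' = iP ≫ q := by
  obtain ⟨hm, hc, -, B', _, b', hb'⟩ := hP'
  have := hm
  have := hc
  obtain ⟨B, _, iB, pB, hB, -, hpB⟩ := exists_borel_onto q hb'
  obtain ⟨P, _, iP, p, hmP, hcP, hsP, hp, hps, huniv⟩ := exists_preimage q iP'
  have := hB.2.2.1
  have : IsReduced B.left := isReduced_of_smooth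
  obtain ⟨s, hs⟩ := huniv B iB (pB ≫ b') (by rw [Category.assoc, hpB])
  exact ⟨P, inferInstance, iP, p, ⟨hmP, hcP, hsP, B, inferInstance, s, hs ▸ hB⟩, hps ‹_›, hp⟩

omit [ConnectedSpace G.left] [ConnectedSpace Q.left] [IsAffine Q.left] in
/-- Inclusion of smooth subgroups may be tested on rational points. -/
theorem exists_fac_of_pts {B C : Over (Spec (CommRingCat.of k))} [Smooth B.hom] (iB : B ⟶ G) (iC : C ⟶ G)
    [IsClosedImmersion iC.left]
    (h : ∀ x : 𝟙_ (Over (Spec (CommRingCat.of k))) ⟶ B, ∃ z : 𝟙_ (Over (Spec (CommRingCat.of k))) ⟶ C,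
      z ≫ iC = x ≫ iB) : ∃ f : B ⟶ C, f ≫ iC = iB := by
  have : IsReduced B.left := isReduced_of_smooth
  let e : 𝟙_ (Over (Spec (CommRingCat.of k))) ⟶ Over.mk (Spec.map (CommRingCat.ofHom (algebraMap k k))) :=
    Over.homMk (𝟙 (Spec (CommRingCat.of k))) (by
      show 𝟙 _ ≫ Spec.map (CommRingCat.ofHom (algebraMap k k)) = 𝟙 _
      simp)
  let e' : Over.mk (Spec.map (CommRingCat.ofHom (algebraMap k k))) ⟶ 𝟙_ (Over (Spec (CommRingCat.of k))) := toUnit _
  have hee : e' ≫ e = 𝟙 _ := Over.OverMorphism.ext (by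
    show (Spec.map (CommRingCat.ofHom (algebraMap k k))) ≫ 𝟙 _ = 𝟙 _
    simp)
  refine GrpSchLib.exists_fac_of_points (K := k) iB iC fun s => ?_
  obtain ⟨z, hz⟩ := h (e ≫ s)
  exact ⟨e' ≫ z, by rw [Category.assoc, hz, ← Category.assoc, ← Category.assoc, hee, Category.id_comp]⟩

omit [ConnectedSpace Q.left] [IsAffine Q.left] in
/-- A Borel subgroup containing a Borel subgroup is equal to it. -/
theorem exists_iso_of_le {B₁ B₂ : Over (Spec (CommRingCat.of k))} [GrpObj B₁] [GrpObj B₂] {i₁ : B₁ ⟶ G}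
    {i₂ : B₂ ⟶ G} (h₁ : Red.IsBorelOver k i₁) (h₂ : Red.IsBorelOver k i₂) (f : B₁ ⟶ B₂) (hf : f ≫ i₂ = i₁) :
    ∃ e : B₁ ≅ B₂, e.hom ≫ i₂ = i₁ := by
  have := h₂.1
  have := h₁.2.2.2.2.2 B₂ i₂ f h₂.2.1 h₂.2.2.1 h₂.2.2.2.1 h₂.2.2.2.2.1 hf
  exact ⟨asIso f, hf⟩

/-- A Borel subgroup is determined by its image when the kernel lies in a Borel subgroup. -/
theorem borel_eq_of_image_eq (q : G ⟶ Q) [IsMonHom q] [Surjective q.left]
    {B₀ B₁ B₂ B' : Over (Spec (CommRingCat.of k))} [GrpObj B₀] [GrpObj B₁] [GrpObj B₂] [GrpObj B']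
    {i₀ : B₀ ⟶ G} {i₁ : B₁ ⟶ G} {i₂ : B₂ ⟶ G} {i' : B' ⟶ Q} (h₀ : Red.IsBorelOver k i₀)
    (hker : ∀ (g : 𝟙_ (Over (Spec (CommRingCat.of k))) ⟶ G), g ≫ q = 1 → ∃ b, b ≫ i₀ = g)
    (h₁ : Red.IsBorelOver k i₁) (h₂ : Red.IsBorelOver k i₂) (h' : Red.IsBorelOver k i')
    (f₁ : B₁ ⟶ B') (f₂ : B₂ ⟶ B') (hf₁ : f₁ ≫ i' = i₁ ≫ q) (hf₂ : f₂ ≫ i' = i₂ ≫ q) :
    ∃ e : B₁ ≅ B₂, e.hom ≫ i₂ = i₁ := by
  have := h₂.2.1
  have := h₂.1
  have := h₁.2.1
  have := h₁.1
  have := h₁.2.2.1
  have := h₂.2.2.1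
  have := h'.2.1
  have := h'.1
  -- B₂ surjects onto B'
  obtain ⟨I, _, iI, pI, hI, hsI, hpI⟩ := exists_borel_image q h₂
  have := hI.2.1
  have := hI.2.2.1
  have : Mono i'.left := inferInstance
  have : Mono i' := Over.mono_of_mono_left i'
  obtain ⟨j, hj⟩ := exists_fac_of_pts iI i' fun x => by
    have := hsI
    obtain ⟨y, hy⟩ := exists_point_over pI x
    exact ⟨y ≫ f₂, by rw [Category.assoc, hf₂, ← hpI, ← Category.assoc, hy]⟩
  obtain ⟨ej, hej⟩ := exists_iso_of_le hI h' j hj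
  have hlift : ∀ z : 𝟙_ (Over (Spec (CommRingCat.of k))) ⟶ B', ∃ y, y ≫ f₂ = z := fun z => by
    have := hsI
    obtain ⟨y, hy⟩ := exists_point_over pI (z ≫ ej.inv)
    refine ⟨y, ?_⟩
    rw [← cancel_mono i', Category.assoc, hf₂, ← hpI, ← Category.assoc, hy, ← hej, Category.assoc,
      Iso.inv_hom_id_assoc]
  -- the kernel lies in B₂
  obtain ⟨g, e, he⟩ := borel_conj h₀ h₂
  obtain ⟨f, hf⟩ := exists_fac_of_pts i₁ i₂ fun x => by
    obtain ⟨y, hy⟩ := hlift (x ≫ f₁)
    have hn : ((y ≫ i₂)⁻¹ * (x ≫ i₁)) ≫ q = 1 := by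
      rw [MonObj.mul_comp, GrpObj.inv_comp, Category.assoc, Category.assoc, ← hf₂, ← hf₁, ← Category.assoc,
        ← Category.assoc, hy, inv_mul_cancel]
    obtain ⟨b, hb⟩ := hker (g⁻¹ * ((y ≫ i₂)⁻¹ * (x ≫ i₁)) * g) (by
      rw [MonObj.mul_comp, MonObj.mul_comp, hn, GrpObj.inv_comp, _root_.mul_one, inv_mul_cancel])
    refine ⟨y * (b ≫ e.hom), ?_⟩
    rw [MonObj.mul_comp, Category.assoc, he, comp_conjBy, hb, AGF.conjBy, toUnit_unit, Category.id_comp]
    group
  exact exists_iso_of_le h₁ h₂ f hf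

/-- The underlying object of a semidirect product. -/
noncomputable def SD (B B' : Over (Spec (CommRingCat.of k))) : Over (Spec (CommRingCat.of k)) := B ⊗ B'

/-- The first projection. -/
noncomputable def sdFst (B B' : Over (Spec (CommRingCat.of k))) : SD B B' ⟶ B := fst B B'

/-- The second projection. -/
noncomputable def sdSnd (B B' : Over (Spec (CommRingCat.of k))) : SD B B' ⟶ B' := snd B B'

/-- The pairing. -/
noncomputable def sdLift {T B B' : Over (Spec (CommRingCat.of k))} (f : T ⟶ B) (g : T ⟶ B') : T ⟶ SD B B' := lift f g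

omit [IsAlgClosed k] in
@[simp] theorem sdLift_fst {T B B' : Over (Spec (CommRingCat.of k))} (f : T ⟶ B) (g : T ⟶ B') :
    sdLift f g ≫ sdFst B B' = f := lift_fst f g

omit [IsAlgClosed k] in
@[simp] theorem sdLift_snd {T B B' : Over (Spec (CommRingCat.of k))} (f : T ⟶ B) (g : T ⟶ B') :
    sdLift f g ≫ sdSnd B B' = g := lift_snd f g

omit [IsAlgClosed k] in
@[simp] theorem sdLift_fst_assoc {T B B' Z : Over (Spec (CommRingCat.of k))} (f : T ⟶ B) (g : T ⟶ B') (h : B ⟶ Z) :
    sdLift f g ≫ sdFst B B' ≫ h = f ≫ h := lift_fst_assoc f g h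

omit [IsAlgClosed k] in
@[simp] theorem sdLift_snd_assoc {T B B' Z : Over (Spec (CommRingCat.of k))} (f : T ⟶ B) (g : T ⟶ B') (h : B' ⟶ Z) :
    sdLift f g ≫ sdSnd B B' ≫ h = g ≫ h := lift_snd_assoc f g h

omit [IsAlgClosed k] in
theorem sd_ext {T B B' : Over (Spec (CommRingCat.of k))} (f g : T ⟶ SD B B')
    (h₁ : f ≫ sdFst B B' = g ≫ sdFst B B') (h₂ : f ≫ sdSnd B B' = g ≫ sdSnd B B') : f = g :=
  CartesianMonoidalCategory.hom_ext f g h₁ h₂

omit [IsAffine Q.left] [Smooth Q.hom] [ConnectedSpace Q.left] [GrpObj Q] in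
/-- No other Borel subgroup normalises a Borel subgroup. -/
theorem borel_unique_of_normalizes {B B' : Over (Spec (CommRingCat.of k))} [GrpObj B] [GrpObj B']
    {iB : B ⟶ G} {iB' : B' ⟶ G} (hB : Red.IsBorelOver k iB) (hB' : Red.IsBorelOver k iB')
    (hn : ∀ (T : Over (Spec (CommRingCat.of k))) (x : T ⟶ B') (h : T ⟶ B),
      (∃ h' : T ⟶ B, (x ≫ iB') * (h ≫ iB) * (x ≫ iB')⁻¹ = h' ≫ iB) ∧
      (∃ h' : T ⟶ B, (x ≫ iB')⁻¹ * (h ≫ iB) * (x ≫ iB') = h' ≫ iB)) :
    ∃ f : B' ≅ B, f.hom ≫ iB = iB' := by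
  have := hB.1
  have := hB.2.1
  have := hB.2.2.1
  have := hB.2.2.2.1
  have := hB'.1
  have := hB'.2.1
  have := hB'.2.2.1
  have := hB'.2.2.2.1
  have : IsAffine B.left := isAffine_of_isAffineHom iB.left
  have : IsAffine B'.left := isAffine_of_isAffineHom iB'.left
  have : Mono iB.left := inferInstance
  have : Mono iB := Over.mono_of_mono_left iB
  let W := SD B B'
  let a : W ⟶ G ⊗ B' := lift ((sdFst B B' ≫ iB) * (sdSnd B B' ≫ iB')) (sdSnd B B')
  have ha1 : a ≫ fst G B' = (sdFst B B' ≫ iB) * (sdSnd B B' ≫ iB') := lift_fst _ _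
  have ha2 : a ≫ snd G B' = sdSnd B B' := lift_snd _ _
  have : Mono a := ⟨fun {T} u v e => by
    have e2 : u ≫ sdSnd B B' = v ≫ sdSnd B B' := by rw [← ha2, ← Category.assoc, e, Category.assoc]
    refine sd_ext _ _ ?_ e2
    have e1 := congrArg (· ≫ fst G B') e
    simp only [Category.assoc, ha1, MonObj.comp_mul] at e1
    rw [← Category.assoc u (sdSnd B B'), e2, Category.assoc, mul_left_inj, ← Category.assoc, ← Category.assoc,
      cancel_mono] at e1
    exact e1⟩
  obtain ⟨c, hc⟩ := (hn (W ⊗ W) (fst W W ≫ sdSnd B B') (snd W W ≫ sdFst B B')).1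
  let μ' : W ⊗ W ⟶ W :=
    sdLift ((fst W W ≫ sdFst B B') * c) ((fst W W ≫ sdSnd B B') * (snd W W ≫ sdSnd B B'))
  have hμ1 : μ' ≫ sdFst B B' = (fst W W ≫ sdFst B B') * c := sdLift_fst _ _
  have hμ2 : μ' ≫ sdSnd B B' = (fst W W ≫ sdSnd B B') * (snd W W ≫ sdSnd B B') := sdLift_snd _ _
  have hm : μ' ≫ a = (fst W W ≫ a) * (snd W W ≫ a) := by
    refine CartesianMonoidalCategory.hom_ext _ _ ?_ ?_
    · simp only [MonObj.mul_comp, Category.assoc, ha1, MonObj.comp_mul]
      rw [← Category.assoc μ', ← Category.assoc μ', hμ1, hμ2]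
      simp only [MonObj.mul_comp, Category.assoc]
      simp only [Category.assoc] at hc
      rw [← hc]
      group
    · simp only [MonObj.mul_comp, Category.assoc, ha2, hμ2]
  obtain ⟨c', hc'⟩ := (hn W (sdSnd B B') ((sdFst B B')⁻¹)).2
  let ι' : W ⟶ W := sdLift c' ((sdSnd B B')⁻¹)
  have hv : ι' ≫ a = a⁻¹ := by
    refine CartesianMonoidalCategory.hom_ext _ _ ?_ ?_
    · rw [GrpObj.inv_comp, Category.assoc, ha1, MonObj.comp_mul, sdLift_fst_assoc, sdLift_snd_assoc, GrpObj.inv_comp,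
        ← hc', GrpObj.inv_comp]
      group
    · rw [GrpObj.inv_comp, Category.assoc, ha2]
      exact sdLift_snd _ _
  have he : sdLift η[B] η[B'] ≫ a = η[G ⊗ B'] := by
    refine CartesianMonoidalCategory.hom_ext _ _ ?_ ?_
    · rw [IsMonHom.one_hom (fst G B'), Category.assoc, ha1, MonObj.comp_mul, sdLift_fst_assoc, sdLift_snd_assoc,
        IsMonHom.one_hom, IsMonHom.one_hom]
      simp only [MonObj.one_eq_one, _root_.mul_one]
    · rw [IsMonHom.one_hom (snd G B'), Category.assoc, ha2, sdLift_snd]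
  obtain ⟨str, hahom⟩ := GrpSchLib.exists_grpObj_of_mono a (sdLift η[B] η[B']) he μ' hm ι' hv
  letI := str
  haveI := hahom
  let φ : W ⟶ G := a ≫ fst G B'
  let ψ : W ⟶ B' := a ≫ snd G B'
  -- the semidirect product is smooth, connected and solvable
  have : Smooth W.hom := by
    show Smooth (pullback.fst B.hom B'.hom ≫ B.hom)
    infer_instance
  have : IsAffine W.left := inferInstanceAs (IsAffine (pullback B.hom B'.hom))
  have : LocallyOfFiniteType W.hom := inferInstance
  have : IrreducibleSpace B.left := S0348.result k B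
  have : IrreducibleSpace B'.left := S0348.result k B'
  have : GeometricallyIrreducible B.hom := GrpSchLib.geometricallyIrreducible_of_isAlgClosed B.hom
  have : IrreducibleSpace W.left := inferInstanceAs (IrreducibleSpace ↥(pullback B.hom B'.hom))
  have : ConnectedSpace W.left := inferInstance
  have := isSolvable_points hB.2.2.2.2.1
  have := isSolvable_points hB'.2.2.2.2.1
  let jB : B ⟶ W := sdLift (𝟙 B) (toUnit B ≫ η[B'])
  have hjB : jB ≫ a = lift iB (toUnit B ≫ η[B']) := by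
    refine CartesianMonoidalCategory.hom_ext _ _ ?_ ?_
    · rw [Category.assoc, ha1, lift_fst, MonObj.comp_mul, sdLift_fst_assoc, sdLift_snd_assoc, Category.id_comp,
        Category.assoc, IsMonHom.one_hom, ← Hom.one_def, _root_.mul_one]
    · rw [Category.assoc, ha2, sdLift_snd, lift_snd]
  let fB : (𝟙_ (Over (Spec (CommRingCat.of k))) ⟶ B) →* (𝟙_ (Over (Spec (CommRingCat.of k))) ⟶ W) :=
    MonoidHom.mk' (fun b => b ≫ jB) fun x y => by
      rw [← cancel_mono a, Category.assoc, MonObj.mul_comp (x ≫ jB) (y ≫ jB) a, Category.assoc, Category.assoc, hjB]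
      refine CartesianMonoidalCategory.hom_ext _ _ ?_ ?_
      · simp [MonObj.mul_comp, toUnit_unit]
      · simp only [MonObj.mul_comp, Category.assoc, lift_snd, toUnit_unit, Category.id_comp]
  let fW : (𝟙_ (Over (Spec (CommRingCat.of k))) ⟶ W) →* (𝟙_ (Over (Spec (CommRingCat.of k))) ⟶ B') :=
    MonoidHom.mk' (fun w => w ≫ ψ) fun x y => MonObj.mul_comp x y ψ
  have : Group.IsSolvable (𝟙_ (Over (Spec (CommRingCat.of k))) ⟶ W) := by
    refine Group.isSolvable_of_ker_le_range fB fW fun w hw => ⟨w ≫ sdFst B B', ?_⟩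
    have hw' : w ≫ sdSnd B B' = 1 := by
      rw [← ha2]; exact hw
    show (w ≫ sdFst B B') ≫ jB = w
    refine sd_ext _ _ ?_ ?_
    · rw [Category.assoc, sdLift_fst, Category.comp_id]
    · rw [Category.assoc, sdLift_snd, hw', ← Category.assoc, comp_toUnit, ← Hom.one_def]
  have hWs : Red.IsSolvableGrp W := isSolvableGrp_of_points
  obtain ⟨I, _, p, i, _, _, hpi, _, hfl, hsu, hl, -⟩ := GrpSchLib.ImageFactor.exists_image φ
  have := hfl
  have := hsu
  have := hl
  have : IsReduced W.left := isReduced_of_smooth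
  have : IsReduced I.left := FBaseLib.isReduced_of_flat_surjective p.left
  have : Smooth I.hom := GrpSchLib.smooth_of_isReduced_of_isAlgClosed I
  have : ConnectedSpace I.left := connectedSpace_of_surjective p.left
  have hIs : Red.IsSolvableGrp I := isSolvableGrp_of_surjective p hWs
  have h1 : (jB ≫ p) ≫ i = iB := by
    show (jB ≫ p) ≫ i = iB
    rw [Category.assoc, hpi, ← Category.assoc, hjB, lift_fst]
  have h2 : (sdLift (toUnit B' ≫ η[B]) (𝟙 B') ≫ p) ≫ i = iB' := by
    rw [Category.assoc, hpi, show φ = a ≫ fst G B' from rfl, ha1, MonObj.comp_mul, sdLift_fst_assoc, sdLift_snd_assoc, Category.id_comp,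
      Category.assoc, IsMonHom.one_hom, ← Hom.one_def, _root_.one_mul]
  have := hB.2.2.2.2.2 I i (jB ≫ p) inferInstance inferInstance inferInstance hIs h1
  have := hB'.2.2.2.2.2 I i (sdLift (toUnit B' ≫ η[B]) (𝟙 B') ≫ p) inferInstance inferInstance inferInstance hIs h2
  refine ⟨asIso (sdLift (toUnit B' ≫ η[B]) (𝟙 B') ≫ p) ≪≫ (asIso (jB ≫ p)).symm, ?_⟩
  show ((sdLift (toUnit B' ≫ η[B]) (𝟙 B') ≫ p) ≫ inv (jB ≫ p)) ≫ iB = iB'
  conv_lhs => arg 2; rw [← h1]
  rw [Category.assoc _ (inv (jB ≫ p)), IsIso.inv_hom_id_assoc]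
  exact h2

end Groth.Agent.AGFRoot
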