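import Groth.Agent.AGFRoot.SolvTorus
import Groth.Agent.AGFRoot.AffBridge
import Groth.Agent.AGFRoot.BorelConj
import Groth.Agent.GrpSchLib.Cartier
import Groth.Agent.GrpSchLib.RankOneNonComm
import Groth.Agent.RedSub30.TorusClosed
import Groth.Agent.AlgGrpQ.Kolchin
import Groth.Agent.CAlgOdd.GLChar
import Groth.Agent.MaxTorusLib.Basic
import Groth.Agent.RedEasy38.TorusConn
import Mathlib.Algebra.MonoidAlgebra.NoZeroDivisors

/-!
# Tori in affine groups over an algebraically closed field, in coordinates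
-/

set_option autoImplicit false

universe u

open CategoryTheory CategoryTheory.Limits MonoidalCategory CartesianMonoidalCategory MonObj GrpObj AlgebraicGeometry
open WithConv

noncomputable section

namespace Groth.Agent.AGFRoot.SolvSch

open GrpSchLib.AffineHopf

variable {k : Type u} [Field k] {A : Type u} [CommRing A] [HopfAlgebra k A]
  {G : Over (Spec (CommRingCat.of k))} [GrpObj G]

/-- The rational points, in coordinates. -/
def pts (eG : sp k A ≅ G) [IsMonHom eG.hom] :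
    WithConv (A →ₐ[k] k) →* (𝟙_ (Over (Spec (CommRingCat.of k))) ⟶ G) :=
  MonoidHom.mk' (fun g => unitSp.hom ≫ spMap g.ofConv ≫ eG.hom) fun g h => by
    rw [← MonObj.comp_mul, ← MonObj.mul_comp, spMap_mul]

theorem pts_apply (eG : sp k A ≅ G) [IsMonHom eG.hom] (g : WithConv (A →ₐ[k] k)) :
    pts eG g = unitSp.hom ≫ spMap g.ofConv ≫ eG.hom := rfl

theorem pts_bijective (eG : sp k A ≅ G) [IsMonHom eG.hom] : Function.Bijective (pts eG) := by
  refine ⟨fun g h e => ?_, fun x => ?_⟩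
  · rw [pts_apply, pts_apply, cancel_epi, cancel_mono] at e
    exact WithConv.ofConv_injective (spMap_injective e)
  · obtain ⟨f, hf⟩ := exists_eq_spMap (unitSp.inv ≫ x ≫ eG.inv)
    refine ⟨toConv f, ?_⟩
    rw [pts_apply, ofConv_toConv, ← hf]
    simp

theorem exists_coords (G : Over (Spec (CommRingCat.of k))) [GrpObj G] [IsAffine G.left] [LocallyOfFiniteType G.hom] :
    ∃ (A : Type u) (_ : CommRing A) (_ : HopfAlgebra k A) (_ : Algebra.FiniteType k A) (eG : sp k A ≅ G),
      IsMonHom eG.hom := by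
  obtain ⟨A, _, _, ⟨t⟩⟩ := exists_hopf G
  exact ⟨A, inferInstance, inferInstance, finiteType_of_iso (G := G) ((Grp.forget _).mapIso t), (Grp.forget _).mapIso t,
    t.hom.hom.isMonHom_hom⟩

theorem isDomain_coords [IsAlgClosed k] [Algebra.FiniteType k A] [Smooth G.hom] [ConnectedSpace G.left]
    (eG : sp k A ≅ G) : (∀ e : A, IsIdempotentElem e → e = 0 ∨ e = 1) ∧ IsDomain A := by
  have : IsIso eG.hom.left := inferInstanceAs (IsIso ((Over.forget _).map eG.hom))
  have : IsReduced G.left := isReduced_of_smooth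
  have h : IsReduced (sp k A).left := isReduced_of_isOpenImmersion eG.hom.left
  have : IsReduced (Spec (CommRingCat.of A)) := h
  have : _root_.IsReduced A := (affine_isReduced_iff (CommRingCat.of A)).mp ‹_›
  have : ConnectedSpace (PrimeSpectrum A) :=
    (Scheme.homeoOfIso ((Over.forget _).mapIso eG)).connectedSpace_iff.mpr ‹ConnectedSpace G.left›
  have hconn : ∀ e : A, IsIdempotentElem e → e = 0 ∨ e = 1 := fun e he =>
    CAlgOdd.GLChar.eq_zero_or_one_of_isIdempotentElem he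
  exact ⟨hconn, ComodLib.isDomain_of_connected k hconn⟩

theorem isTrigonalizable_coords [IsAlgClosed k] [Algebra.FiniteType k A] [Smooth G.hom] [ConnectedSpace G.left]
    (eG : sp k A ≅ G) [IsMonHom eG.hom] (hs : Red.IsSolvableGrp G) : HopfRep.IsTrigonalizable k A := by
  obtain ⟨hconn, _⟩ := isDomain_coords eG
  have := isSolvable_points hs
  have : Group.IsSolvable (WithConv (A →ₐ[k] k)) := Group.isSolvable_of_isSolvable_injective (f := pts eG) (pts_bijective eG).1
  exact AlgGrpQ.isTrigonalizable_of_solvable k A hconn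

theorem exists_liftC {M : Type u} [CommGroup M] (f : MonoidAlgebra k M →ₐ[k] k) :
    ∃ x : M →* kˣ, f = SolvChar.liftC x :=
  ⟨((f : MonoidAlgebra k M →* k).comp (MonoidAlgebra.of k M)).toHomUnits, MonoidAlgebra.algHom_ext (fun m => by simp) (by ext)⟩

variable [IsAlgClosed k] [IsAffine G.left]

/-- A subtorus in coordinates. -/
theorem exists_zeta (eG : sp k A ≅ G) [IsMonHom eG.hom] {S : Over (Spec (CommRingCat.of k))} [GrpObj S]
    (iS : S ⟶ G) [IsMonHom iS] (hS : Red.IsTorus S) :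
    ∃ (M : Type u) (_ : CommGroup M) (_ : Monoid.FG M) (_ : IsMulTorsionFree M) (ζ : A →ₐc[k] MonoidAlgebra k M)
      (eS : sp k (MonoidAlgebra k M) ≅ S) (_ : IsMonHom eS.hom),
      spMap (ζ : A →ₐ[k] MonoidAlgebra k M) ≫ eG.hom = eS.hom ≫ iS := by
  obtain ⟨r, ⟨s⟩⟩ := exists_isSplitTorusWith hS
  obtain ⟨d⟩ := nonempty_DS_iso k (Fin r → ℤ)
  let eU : ULift.{u} (Multiplicative (Fin r → ℤ)) ≃* Multiplicative (Fin r → ℤ) := MulEquiv.ulift
  let tS : Grp.mk (sp k (MonoidAlgebra k (ULift.{u} (Multiplicative (Fin r → ℤ))))) ≅ Grp.mk S :=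
    spIso (MonoidAlgebra.domCongrBialgEquiv k k eU.symm) ≪≫ d ≪≫ s.symm
  let eS : sp k (MonoidAlgebra k (ULift.{u} (Multiplicative (Fin r → ℤ)))) ≅ S := (Grp.forget _).mapIso tS
  have : Group.FG (Multiplicative (Fin r → ℤ)) := inferInstance
  have : Group.FG (ULift.{u} (Multiplicative (Fin r → ℤ))) :=
    Group.fg_of_surjective (f := eU.symm.toMonoidHom) eU.symm.surjective
  have : Monoid.FG (ULift.{u} (Multiplicative (Fin r → ℤ))) := Group.fg_iff_monoid_fg.mp inferInstance
  have : IsMulTorsionFree (ULift.{u} (Multiplicative (Fin r → ℤ))) :=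
    eU.injective.isMulTorsionFree eU.toMonoidHom
  have : IsMonHom eS.hom := tS.hom.hom.isMonHom_hom
  have : IsMonHom eG.inv := inferInstance
  obtain ⟨φ, hφ⟩ := exists_bialgHom (eS.hom ≫ iS ≫ eG.inv)
  refine ⟨_, inferInstance, inferInstance, inferInstance, φ, eS, inferInstance, ?_⟩
  rw [← hφ, Category.assoc, Category.assoc, Iso.inv_hom_id, Category.comp_id]

theorem pts_comp {M : Type u} [CommGroup M] (eG : sp k A ≅ G) [IsMonHom eG.hom] {S : Over (Spec (CommRingCat.of k))}
    [GrpObj S] {iS : S ⟶ G} {ζ : A →ₐc[k] MonoidAlgebra k M} {eS : sp k (MonoidAlgebra k M) ≅ S} [IsMonHom eS.hom]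
    (h : spMap (ζ : A →ₐ[k] MonoidAlgebra k M) ≫ eG.hom = eS.hom ≫ iS) (x : M →* kˣ) :
    pts eS (toConv (SolvChar.liftC x)) ≫ iS = pts eG (Solv.theta ζ x) := by
  rw [pts_apply, pts_apply, Category.assoc, Category.assoc, ← h, ← Category.assoc (spMap _), spMap_comp]
  rfl

omit [IsAlgClosed k] in
theorem exists_pts_eq {M : Type u} [CommGroup M] {S : Over (Spec (CommRingCat.of k))} [GrpObj S]
    (eS : sp k (MonoidAlgebra k M) ≅ S) [IsMonHom eS.hom] (p : 𝟙_ (Over (Spec (CommRingCat.of k))) ⟶ S) :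
    ∃ x : M →* kˣ, pts eS (toConv (SolvChar.liftC x)) = p := by
  obtain ⟨g, rfl⟩ := (pts_bijective eS).2 p
  obtain ⟨x, hx⟩ := exists_liftC g.ofConv
  exact ⟨x, by rw [← hx]⟩

/-- Basic properties of tori. -/
theorem torus_facts {S : Over (Spec (CommRingCat.of k))} [GrpObj S] (hS : Red.IsTorus S) :
    IsAffine S.left ∧ Smooth S.hom ∧ ConnectedSpace S.left ∧ Red.IsSolvableGrp S := by
  obtain ⟨r, ⟨s⟩⟩ := exists_isSplitTorusWith hS
  obtain ⟨d⟩ := nonempty_DS_iso k (Fin r → ℤ)
  let eS : sp k (MonoidAlgebra k (Multiplicative (Fin r → ℤ))) ≅ S := (Grp.forget _).mapIso (d ≪≫ s.symm)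
  have : IsMonHom eS.hom := (d ≪≫ s.symm).hom.hom.isMonHom_hom
  have : IsIso eS.hom.left := inferInstanceAs (IsIso ((Over.forget _).map eS.hom))
  have : IsIso eS.inv.left := inferInstanceAs (IsIso ((Over.forget _).map eS.inv))
  have hA : IsAffine S.left := .of_isIso eS.inv.left
  have : Group.FG (Multiplicative (Fin r → ℤ)) := inferInstance
  have : Monoid.FG (Multiplicative (Fin r → ℤ)) := Group.fg_iff_monoid_fg.mp inferInstance
  have : Algebra.FiniteType k (MonoidAlgebra k (Multiplicative (Fin r → ℤ))) := MonoidAlgebra.finiteType_of_fg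
  have : IsDomain (MonoidAlgebra k (Multiplicative (Fin r → ℤ))) := NoZeroDivisors.to_isDomain _
  have hft : LocallyOfFiniteType S.hom := by
    have h1 : LocallyOfFiniteType (Spec.map (CommRingCat.ofHom (algebraMap k (MonoidAlgebra k (Multiplicative (Fin r → ℤ)))))) :=
      (HasRingHomProperty.Spec_iff (P := @LocallyOfFiniteType)).mpr (RingHom.finiteType_algebraMap.mpr inferInstance)
    rw [← Over.w eS.inv]
    exact MorphismProperty.comp_mem _ _ _ inferInstance h1
  have : IsReduced (Spec (CommRingCat.of (MonoidAlgebra k (Multiplicative (Fin r → ℤ))))) := inferInstance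
  have : IsReduced (sp k (MonoidAlgebra k (Multiplicative (Fin r → ℤ)))).left :=
    inferInstanceAs (IsReduced (Spec (CommRingCat.of (MonoidAlgebra k (Multiplicative (Fin r → ℤ))))))
  have hred : IsReduced S.left := isReduced_of_isOpenImmersion eS.inv.left
  have hsm : Smooth S.hom := GrpSchLib.smooth_of_isReduced_of_isAlgClosed S
  refine ⟨hA, hsm, RedEasy38.connectedSpace_torus hS, ?_⟩
  have : Group.IsSolvable (𝟙_ (Over (Spec (CommRingCat.of k))) ⟶ S) := by
    refine ⟨⟨1, ?_⟩⟩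
    rw [derivedSeries_one, commutator_def, Subgroup.commutator_eq_bot_iff_le_centralizer]
    intro a _ b _
    obtain ⟨g, rfl⟩ := (pts_bijective eS).2 a
    obtain ⟨h, rfl⟩ := (pts_bijective eS).2 b
    rw [← map_mul, ← map_mul, mul_comm]
  exact isSolvableGrp_of_points

/-- Subtori of affine groups are closed. -/
theorem isClosedImmersion_torus {S : Over (Spec (CommRingCat.of k))} [GrpObj S] (iS : S ⟶ G) [IsMonHom iS] [Mono iS]
    (hS : Red.IsTorus S) : IsClosedImmersion iS.left :=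
  RedSub30.TorusClosed.isClosedImmersion_of_mono iS (GrpSchLib.RankOne.isMultTypeFT_of_isTorus hS)

variable [Smooth G.hom] [ConnectedSpace G.left]

/-- A connected solvable group has a torus which contains a conjugate of every torus. -/
theorem exists_torus_conj_le (hs : Red.IsSolvableGrp G) :
    ∃ (T₀ : Over (Spec (CommRingCat.of k))) (_ : GrpObj T₀) (j : T₀ ⟶ G) (_ : IsMonHom j) (_ : Mono j),
      Red.IsTorus T₀ ∧ ∀ (S : Over (Spec (CommRingCat.of k))) [GrpObj S] (iS : S ⟶ G) [IsMonHom iS], Red.IsTorus S →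
        ∃ (g : 𝟙_ (Over (Spec (CommRingCat.of k))) ⟶ G) (f : S ⟶ T₀), IsMonHom f ∧ f ≫ j = AGF.conjBy g iS := by
  obtain ⟨A, _, _, _, eG, _⟩ := exists_coords G
  obtain ⟨-, _⟩ := isDomain_coords eG
  have hT := isTrigonalizable_coords eG hs
  obtain ⟨Θ, hΘ⟩ := Solv.exists_splitting hT
  let j : sp k (MonoidAlgebra k (GroupLike k A)) ⟶ G := spMap (Θ : A →ₐ[k] _) ≫ eG.hom
  have hΘs : Function.Surjective Θ := fun z => ⟨_, hΘ z⟩
  have : IsClosedImmersion (spMap (Θ : A →ₐ[k] MonoidAlgebra k (GroupLike k A))).left :=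
    IsClosedImmersion.spec_of_surjective _ hΘs
  have : Mono (spMap (Θ : A →ₐ[k] MonoidAlgebra k (GroupLike k A))) := Over.mono_of_mono_left _
  have hT₀ : Red.IsTorus (sp k (MonoidAlgebra k (GroupLike k A))) := by
    have : Group.FG (GroupLike k A) := Group.fg_iff_monoid_fg.mpr inferInstance
    have : AddGroup.FG (Additive (GroupLike k A)) := AddGroup.fg_of_group_fg
    have : Module.Finite ℤ (Additive (GroupLike k A)) := Module.Finite.iff_addGroup_fg.mpr inferInstance
    obtain ⟨n, b⟩ := Module.basisOfFiniteTypeTorsionFree' (R := ℤ) (M := Additive (GroupLike k A))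
    let e : Multiplicative (Fin n → ℤ) ≃* GroupLike k A := (b.equivFun.toAddEquiv.symm).toMultiplicativeLeft
    obtain ⟨d⟩ := nonempty_DS_iso k (Fin n → ℤ)
    exact MaxTorusLib.isTorus_of_iso
      (spIso (MonoidAlgebra.domCongrBialgEquiv k k e) ≪≫ d) (MaxTorusLib.isTorus_DS _ n)
  refine ⟨_, inferInstance, j, inferInstance, inferInstance, hT₀, fun S _ iS _ hS => ?_⟩
  obtain ⟨M, _, _, _, ζ, eS, _, h⟩ := exists_zeta eG iS hS
  obtain ⟨u, -, hu⟩ := Solv.exists_conj_theta ζ hT hΘ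
  obtain ⟨_, hsm, _, _⟩ := torus_facts hS
  have := hsm
  refine ⟨pts eG u, eS.inv ≫ spMap ((ζ.comp Solv.chr : _ →ₐc[k] _) : MonoidAlgebra k (GroupLike k A) →ₐ[k] _),
    inferInstance, ?_⟩
  have : IsReduced S.left := isReduced_of_smooth
  refine AVFac.ext_pts fun p => ?_
  obtain ⟨x, rfl⟩ := exists_pts_eq eS p
  rw [comp_conjBy, pts_comp eG h, AGF.conjBy, toUnit_unit, Category.id_comp, ← map_inv, ← map_mul, ← map_mul,
    hu, pts_apply, pts_apply]
  simp only [j, Category.assoc, Iso.hom_inv_id_assoc]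
  congr 1
  rw [← Category.assoc (spMap _), spMap_comp, ← Category.assoc (spMap _), spMap_comp]
  congr 2
  exact AlgHom.ext fun a => (Solv.apply_chr (Solv.theta ζ x) (Θ a)).trans rfl

/-- Maximal tori of a connected solvable group are conjugate. -/
theorem maxTorus_conj_solvable (hs : Red.IsSolvableGrp G) {T T' : Over (Spec (CommRingCat.of k))} [GrpObj T] [GrpObj T']
    {iT : T ⟶ G} {iT' : T' ⟶ G} (hT : AGF.IsMaxTorus iT) (hT' : AGF.IsMaxTorus iT') :
    ∃ (g : 𝟙_ (Over (Spec (CommRingCat.of k))) ⟶ G) (f : T ≅ T'), f.hom ≫ iT' = AGF.conjBy g iT := by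
  obtain ⟨T₀, _, j, _, _, hT₀, key⟩ := exists_torus_conj_le hs
  have aux : ∀ (U : Over (Spec (CommRingCat.of k))) [GrpObj U] (iU : U ⟶ G), AGF.IsMaxTorus iU →
      ∃ (g : 𝟙_ (Over (Spec (CommRingCat.of k))) ⟶ G) (f : U ⟶ T₀), IsIso f ∧ f ≫ j = AGF.conjBy g iU := by
    intro U _ iU ⟨_, _, hU, hmax⟩
    obtain ⟨g, f, _, hf⟩ := key U iU hU
    exact ⟨g, f, hmax T₀ (AGF.conjBy g⁻¹ j) f hT₀ (by rw [comp_conjBy, hf, conjBy_inv_cancel']), hf⟩
  obtain ⟨g, f, _, hf⟩ := aux T iT hT
  obtain ⟨g', f', _, hf'⟩ := aux T' iT' hT'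
  refine ⟨g'⁻¹ * g, asIso f ≪≫ (asIso f').symm, ?_⟩
  have h2 : iT' = AGF.conjBy g'⁻¹ (f' ≫ j) := by rw [hf', conjBy_inv_cancel']
  show (f ≫ inv f') ≫ iT' = _
  rw [h2, comp_conjBy, Category.assoc, IsIso.inv_hom_id_assoc, hf, conjBy_conjBy]

end Groth.Agent.AGFRoot.SolvSch
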