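import Groth.Agent.ComodLib.Criterion

/-!
# Linear reductivity from complements in codimension one, without characters
-/

universe u

open TensorProduct

namespace Groth.Agent.AGFRoot

variable {k : Type u} [Field k] {A : Type u} [CommRing A] [HopfAlgebra k A]

/-- A coaction on a stable line is by a group-like element. -/
theorem exists_groupLike_of_mem {V : Type u} [AddCommGroup V] [Module k V] [HopfRep.Comod k A V]
    {W : Submodule k V} (hW : HopfRep.IsSubcomod (k := k) (A := A) W) {v : V} (hv : v ≠ 0)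
    (hvW : v ∈ W) (hline : ∀ w ∈ W, ∃ c : k, c • v = w) :
    ∃ a : A, IsGroupLikeElem k a ∧ HopfRep.Comod.coact (k := k) (A := A) v = v ⊗ₜ[k] a := by
  obtain ⟨z, hz⟩ := hW v hvW
  obtain ⟨a, ha⟩ : ∃ a : A, W.subtype.rTensor A z = v ⊗ₜ[k] a := by
    clear hz
    induction z using TensorProduct.induction_on with
    | zero => exact ⟨0, by simp⟩
    | add p q hp hq =>
      obtain ⟨a, ha⟩ := hp
      obtain ⟨b, hb⟩ := hq
      exact ⟨a + b, by rw [map_add, ha, hb, tmul_add]⟩
    | tmul w b =>
      obtain ⟨c, hc⟩ := hline w w.2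
      exact ⟨c • b, by rw [LinearMap.rTensor_tmul, W.subtype_apply, ← hc, smul_tmul]⟩
  have hca : HopfRep.Comod.coact (k := k) (A := A) v = v ⊗ₜ[k] a := hz.symm.trans ha
  obtain ⟨f, hf⟩ := Module.Projective.exists_dual_ne_zero k hv
  refine ⟨a, ⟨?_, ?_⟩, hca⟩
  · have h := LinearMap.congr_fun (HopfRep.Comod.counit_comp (k := k) (A := A) (V := V)) v
    rw [LinearMap.comp_apply, hca, LinearMap.lTensor_tmul, LinearMap.flip_apply,
      TensorProduct.mk_apply] at h
    have h2 := congrArg (fun t => TensorProduct.lid k k (f.rTensor k t)) h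
    simp only [LinearMap.rTensor_tmul, TensorProduct.lid_tmul, smul_eq_mul] at h2
    exact mul_left_cancel₀ hf h2
  · have h := LinearMap.congr_fun (HopfRep.Comod.coassoc (k := k) (A := A) (V := V)) v
    simp only [LinearMap.comp_apply, hca, LinearMap.rTensor_tmul, LinearMap.lTensor_tmul,
      LinearEquiv.coe_coe, TensorProduct.assoc_tmul] at h
    have h2 := congrArg (fun t => TensorProduct.lid k (A ⊗[k] A) (f.rTensor (A ⊗[k] A) t)) h
    simp only [LinearMap.rTensor_tmul, TensorProduct.lid_tmul] at h2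
    exact (smul_right_injective (A ⊗[k] A) hf h2).symm

theorem isLinearlyReductive_of_codimOne (hX : ∀ a : A, IsGroupLikeElem k a → a = 1)
    (h : ∀ (V : Type u) [AddCommGroup V] [Module k V] [HopfRep.Comod k A V], Module.Finite k V →
        ∀ W : Submodule k V, HopfRep.IsSubcomod (k := k) (A := A) W →
          Module.finrank k V = Module.finrank k ↥W + 1 →
          ∃ W' : Submodule k V, HopfRep.IsSubcomod (k := k) (A := A) W' ∧ IsCompl W W') :
    HopfRep.IsLinearlyReductive k A := by
  refine ComodLib.isLinearlyReductive_of_hasFixedVectors fun V _ _ _ hfin π hsurj hπ => ?_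
  have := hfin
  have hker : HopfRep.IsSubcomod (k := k) (A := A) (LinearMap.ker π) := by
    let _ : HopfRep.Comod k A k := HopfRep.Comod.trivial k A k
    exact ComodLib.isSubcomod_ker (C := A) (show Hoch.IsComodHom A π from hπ.symm)
  have hr := LinearMap.finrank_range_add_finrank_ker π
  rw [LinearMap.range_eq_top.mpr hsurj, finrank_top, Module.finrank_self] at hr
  obtain ⟨W', hW', hc⟩ := h V hfin _ hker (by omega)
  have h1 : Module.finrank k W' = 1 := by
    have := Submodule.finrank_add_eq_of_isCompl hc; omega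
  obtain ⟨⟨v, hvW⟩, hv0, hline⟩ := finrank_eq_one_iff'.mp h1
  have hv : v ≠ 0 := fun h0 => hv0 (Subtype.ext h0)
  have hπv : π v ≠ 0 := fun h0 => hv (Submodule.disjoint_def.mp hc.disjoint v (by simpa using h0) hvW)
  obtain ⟨a, ha, hca⟩ := exists_groupLike_of_mem hW' hv hvW fun w hw => by
    obtain ⟨c, hc⟩ := hline ⟨w, hw⟩
    exact ⟨c, congrArg Subtype.val hc⟩
  exact ⟨v, by rw [hX a ha] at hca; exact hca, hπv⟩

end Groth.Agent.AGFRoot
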