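import Groth.Agent.RootData.PMorphism
import Groth.Prelude.Def_AGF

/-!
# The image of a base under an isogeny of reduced root data

Only the condition on roots is used.
-/

set_option linter.unusedSectionVars false

namespace Groth.Agent.AGFRoot

open Set Function Module RootD Groth.Agent.RootData

variable {ι M N : Type*} [AddCommGroup M] [AddCommGroup N] [Fintype ι] {P : RootPairing ι ℤ M N}

theorem coroot_mem_natSpan [P.IsReduced] {Δ : Set ι} (h : Simple P Δ) {k : ι} (hk : k ∈ posOf P Δ) :
    P.coroot k ∈ AddSubmonoid.closure (P.coroot '' Δ) := by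
  classical
  induction hn : (h.ht k).toNat using Nat.strong_induction_on generalizing k with
  | _ n ih =>
    by_cases hkΔ : k ∈ Δ
    · exact AddSubmonoid.subset_closure ⟨k, hkΔ, rfl⟩
    have hne : ∀ a ∈ Δ, ∃ b, b ≠ a ∧ h.co k b ≠ 0 := fun a ha => by
      by_contra hh; push Not at hh
      exact hkΔ (h.eq_of_pos_multiple ha hk (isIndiv_of_reduced k) hh ▸ ha)
    obtain ⟨a, ha, hca, hna⟩ := h.exists_simple_pos hk
    have hp := h.refl_pos ha hk (hne a ha)
    have hlt : h.ht (P.reflectionPerm a k) < h.ht k := by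
      simp only [Simple.ht, h.co_refl ha, Pi.sub_apply, Finset.sum_sub_distrib]
      simp; exact hna
    have hr := ih _ (by have := h.ht_pos hp; omega) hp rfl
    have hm : 0 < nn P a k := by
      by_contra hh
      exact absurd ((nn_nonpos_comm P).mp (not_lt.mp hh)) (by omega)
    have e : P.coroot k = P.coroot (P.reflectionPerm a k) + (nn P a k).toNat • P.coroot a := by
      rw [← natCast_zsmul, Int.toNat_of_nonneg hm.le, P.coroot_reflectionPerm,
        P.coreflection_apply_coroot, ← nn_cast P a k, Int.cast_id, sub_add_cancel]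
    rw [e]
    exact add_mem hr (nsmul_mem (AddSubmonoid.subset_closure (Set.mem_image_of_mem P.coroot ha)) _)

/-- A system of simple roots of a reduced root datum is the support of a base. -/
noncomputable def baseOfSimple [P.IsReduced] (Δ : Finset ι) (h : Simple P (Δ : Set ι)) : P.Base where
  support := Δ
  linearIndepOn_root := h.li
  linearIndepOn_coroot := h.coroot_li
  root_mem_or_neg_mem := h.mem
  coroot_mem_or_neg_mem i := by
    rcases h.posOf_isPosSys.cover i with hi | hi
    · exact .inl (coroot_mem_natSpan h hi)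
    · exact .inr (coroot_neg P i ▸ coroot_mem_natSpan h hi)

variable {ι' M' N' : Type*} [AddCommGroup M'] [AddCommGroup N'] [Fintype ι']
  {P' : RootPairing ι' ℤ M' N'} {f : M' →ₗ[ℤ] M} {e : ι ≃ ι'} {q : ι → ℕ}

theorem map_neg_idx [P.IsReduced] [P'.IsReduced] (hf : Function.Injective f) (hq : ∀ i, 0 < q i)
    (hroot : ∀ i, f (P'.root (e i)) = (q i : ℤ) • P.root i) (i : ι) :
    e (P.reflectionPerm i i) = P'.reflectionPerm (e i) (e i) := by
  have h2 : (q i : ℤ) • P'.root (e (P.reflectionPerm i i)) =
      (-(q (P.reflectionPerm i i) : ℤ)) • P'.root (e i) := hf (by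
    rw [map_smul, map_smul, hroot, hroot, RootData.root_neg, smul_neg, smul_neg, neg_smul,
      smul_comm])
  set j := e (P.reflectionPerm i i)
  have hni : ¬ LinearIndependent ℤ ![P'.root j, P'.root (e i)] := fun hl => by
    have h3 := (LinearIndependent.pair_iff.mp hl (q i : ℤ) (q (P.reflectionPerm i i) : ℤ)
      (by rw [h2, neg_smul, neg_add_cancel])).1
    have := hq i; omega
  rcases RootPairing.IsReduced.eq_or_eq_neg j (e i) hni with h | h
  · have : P.reflectionPerm i i = i := e.injective (P'.root.injective h)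
    have h4 := congrArg P.root this
    rw [RootData.root_neg] at h4
    exact absurd (eq_zero_of_two_smul (P := P) h4) (P.ne_zero i)
  · exact P'.root.injective (h.trans (RootData.root_neg P' (e i)).symm)
where
  eq_zero_of_two_smul {P : RootPairing ι ℤ M N} {x : M} (h : -x = x) : x = 0 := by
    have := torsionFreeM P
    have h2 : (2 : ℤ) • x = (2 : ℤ) • (0 : M) := by
      rw [smul_zero, two_smul]; nth_rw 1 [← h]; exact neg_add_cancel x
    exact zsmul_cancelM P (by norm_num) h2

theorem image_isPosSys [P.IsReduced] [P'.IsReduced] (hf : Function.Injective f) (hq : ∀ i, 0 < q i)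
    (hroot : ∀ i, f (P'.root (e i)) = (q i : ℤ) • P.root i) {S : Set ι} (hS : IsPosSys P S) :
    IsPosSys P' (e '' S) := by
  refine ⟨?_, fun i' => ?_, fun k' n hn hk => ?_⟩
  · rintro _ ⟨i, hi, rfl⟩ hh
    rw [← map_neg_idx hf hq hroot, e.injective.mem_set_image] at hh
    exact hS.disjoint hi hh
  · obtain ⟨i, rfl⟩ := e.surjective i'
    rw [← map_neg_idx hf hq hroot, e.injective.mem_set_image, e.injective.mem_set_image]
    exact hS.cover i
  · obtain ⟨k, rfl⟩ := e.surjective k'
    rw [e.injective.mem_set_image]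
    refine hS.sat (n * q k) (Nat.mul_pos hn (hq k)) ?_
    have hle : natSpan P' (e '' S) ≤ (natSpan P S).comap f.toAddMonoidHom := by
      refine AddSubmonoid.closure_le.mpr ?_
      rintro _ ⟨_, ⟨i, hi, rfl⟩, rfl⟩
      show f (P'.root (e i)) ∈ natSpan P S
      rw [hroot, natCast_zsmul]
      exact nsmul_mem (root_mem_natSpan hi) _
    have := hle hk
    rw [AddSubmonoid.mem_comap] at this
    simpa [hroot, natCast_zsmul, mul_smul] using this

theorem simple_image [P.IsReduced] [P'.IsReduced] (hf : Function.Injective f) (hq : ∀ i, 0 < q i)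
    (hroot : ∀ i, f (P'.root (e i)) = (q i : ℤ) • P.root i) {Δ : Set ι} (hΔ : Simple P Δ) :
    Simple P' (e '' Δ) := by
  classical
  have hS := image_isPosSys hf hq hroot hΔ.posOf_isPosSys
  suffices hmain : e '' Δ = indec P' (e '' posOf P Δ) from hmain ▸ indec_simple hS
  have hsub : ∀ b ∈ Δ, e b ∈ indec P' (e '' posOf P Δ) := by
    intro b hb
    refine ⟨⟨b, hΔ.subset_posOf hb, rfl⟩, ?_⟩
    rintro ⟨_, ⟨i, hi, rfl⟩, _, ⟨j, hj, rfl⟩, h⟩
    have h' := congrArg f h
    rw [map_add, hroot, hroot, hroot] at h'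
    have hc : (q b : ℤ) • hΔ.co b = (q i : ℤ) • hΔ.co i + (q j : ℤ) • hΔ.co j := by
      have h0 := li_comb_eq_zero (P := P) hΔ.li
        (c := (q b : ℤ) • hΔ.co b - ((q i : ℤ) • hΔ.co i + (q j : ℤ) • hΔ.co j))
        (fun a ha => by simp [hΔ.co_supp ha])
        (by rw [comb_sub, comb_add, comb_smul, comb_smul, comb_smul, hΔ.co_spec, hΔ.co_spec, hΔ.co_spec,
            h', sub_self])
      exact sub_eq_zero.mp h0
    have only : ∀ k ∈ posOf P Δ, (∀ a, a ≠ b → hΔ.co k a = 0) → k = b := fun k hk =>
      hΔ.eq_of_pos_multiple hb hk (isIndiv_of_reduced k)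
    have hz : ∀ a, a ≠ b → hΔ.co i a = 0 ∧ hΔ.co j a = 0 := by
      intro a ha
      have := congrFun hc a
      simp [hΔ.co_simple hb, ha] at this
      have h1 := hΔ.mem_posOf_iff.mp hi a
      have h2 := hΔ.mem_posOf_iff.mp hj a
      have := hq i; have := hq j
      constructor <;> nlinarith
    rw [only i hi fun a ha => (hz a ha).1, only j hj fun a ha => (hz a ha).2] at h
    exact P'.ne_zero (e b) (add_eq_left.mp h.symm)
  refine subset_antisymm (by rintro _ ⟨b, hb, rfl⟩; exact hsub b hb) fun c hc => ?_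
  obtain ⟨k, hk, rfl⟩ := hc.1
  by_contra hkn
  set L := ∏ a, q a
  set r : ι → ℕ := fun a => ∏ x ∈ Finset.univ.erase a, q x
  have hr : ∀ a, q a * r a = L := fun a => Finset.mul_prod_erase _ _ (Finset.mem_univ a)
  have key : (r k : ℤ) • P'.root (e k) = ∑ a, (hΔ.co k a * r a) • P'.root (e a) := hf (by
    rw [map_smul, hroot, map_sum, smul_smul]
    simp only [map_smul, hroot, smul_smul]
    rw [show ((r k : ℤ) * q k) = L by rw [mul_comm]; exact_mod_cast hr k,
      show (L : ℤ) • P.root k = (L : ℤ) • comb P (hΔ.co k) by rw [hΔ.co_spec], comb, Finset.smul_sum]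
    refine Finset.sum_congr rfl fun a _ => ?_
    rw [smul_smul, ← hr a]; push_cast; congr 1; ring)
  have hli := (indec_simple hS).li
  let d : ι' → ℤ := fun x => (if x = e k then (r k : ℤ) else 0) - hΔ.co k (e.symm x) * r (e.symm x)
  have hd := congrFun (li_comb_eq_zero (P := P') hli (c := d) (fun x hx => by
      have hxk : x ≠ e k := fun h => hx (h ▸ hc)
      have : e.symm x ∉ Δ := fun h => hx (by simpa using hsub _ h)
      simp [d, hxk, hΔ.co_supp this]) (by
      simp only [comb, d, sub_smul, Finset.sum_sub_distrib, ite_smul, zero_smul, Finset.sum_ite_eq',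
        Finset.mem_univ, if_true]
      rw [sub_eq_zero, key]
      exact (Equiv.sum_comp e.symm (fun a => (hΔ.co k a * r a) • P'.root (e a))).symm.trans
        (Finset.sum_congr rfl fun x _ => by simp))) (e k)
  have hkΔ : k ∉ Δ := fun h => hkn ⟨k, h, rfl⟩
  simp [d, hΔ.co_supp hkΔ] at hd
  exact absurd hd (Finset.prod_pos fun x _ => hq x).ne'

end Groth.Agent.AGFRoot
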