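import Groth.Agent.AGFRoot.SolvScheme
import Groth.Agent.AGFRoot.BorelImage

/-!
# Tori in Borel subgroups and conjugacy of maximal tori
-/

set_option autoImplicit false

universe u

open CategoryTheory CategoryTheory.Limits MonoidalCategory CartesianMonoidalCategory MonObj GrpObj AlgebraicGeometry

namespace Groth.Agent.AGFRoot.SolvSch

variable {k : Type u} [Field k]

/-- A factor through a monomorphism of groups is a homomorphism. -/
theorem isMonHom_of_mono {A B C : Over (Spec (CommRingCat.of k))} [GrpObj A] [GrpObj B] [GrpObj C] (i : B ⟶ C)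
    [IsMonHom i] [Mono i] (f : A ⟶ B) (j : A ⟶ C) [IsMonHom j] (h : f ≫ i = j) : IsMonHom f where
  one_hom := by rw [← cancel_mono i, Category.assoc, h, IsMonHom.one_hom, IsMonHom.one_hom]
  mul_hom := by
    rw [← cancel_mono i, Category.assoc, h, IsMonHom.mul_hom, Category.assoc, IsMonHom.mul_hom (f := i),
      ← Category.assoc (MonoidalCategoryStruct.tensorHom f f), MonoidalCategory.tensorHom_comp_tensorHom, h]

theorem mono_of_closed {A B : Over (Spec (CommRingCat.of k))} (i : A ⟶ B) [IsClosedImmersion i.left] : Mono i := by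
  have : Mono i.left := inferInstance
  exact Over.mono_of_mono_left i

variable [IsAlgClosed k] {G : Over (Spec (CommRingCat.of k))} [GrpObj G] [IsAffine G.left] [Smooth G.hom]
  [ConnectedSpace G.left]

/-- A torus lies in a Borel subgroup. -/
theorem exists_borel_containing {S : Over (Spec (CommRingCat.of k))} [GrpObj S] (iS : S ⟶ G) [IsMonHom iS] [Mono iS]
    (hS : Red.IsTorus S) :
    ∃ (B : Over (Spec (CommRingCat.of k))) (_ : GrpObj B) (iB : B ⟶ G) (t : S ⟶ B),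
      Red.IsBorelOver k iB ∧ t ≫ iB = iS := by
  obtain ⟨B, _, iB, hB, hp⟩ := exists_borel_proper (G := G)
  have := hB.1
  have := hB.2.1
  have := mono_of_closed iB
  have := hB.2.2.1
  have : IsAffine B.left := isAffine_of_isAffineHom iB.left
  obtain ⟨Y, b, y, hY1, -, hY2, hY3, hY4⟩ := GrpSchLib.HomogeneousQuot.exists_quot G B iB
  have hY : AGF.IsQuotient iB Y b y := ⟨hY1, hY2, hY3, hY4⟩
  have := hp Y b y hY
  obtain ⟨_, hsm, hcn, hs⟩ := torus_facts hS
  have := hsm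
  have := hcn
  have := isClosedImmersion_torus iS hS
  obtain ⟨g, f, hf⟩ := exists_conj_le iS hs iB hY
  exact ⟨B, inferInstance, AGF.conjBy g iB, f, isBorelOver_conjBy hB g,
    by rw [comp_conjBy, hf, conjBy_inv_cancel]⟩

omit [IsAlgClosed k] [IsAffine G.left] [Smooth G.hom] [ConnectedSpace G.left] in
/-- A maximal torus contained in a subgroup is maximal there. -/
theorem isMaxTorus_of_fac {T B : Over (Spec (CommRingCat.of k))} [GrpObj T] [GrpObj B] {iT : T ⟶ G}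
    (hT : AGF.IsMaxTorus iT) (iB : B ⟶ G) [IsMonHom iB] [Mono iB] (t : T ⟶ B) (ht : t ≫ iB = iT) :
    AGF.IsMaxTorus t := by
  obtain ⟨h1, h2, h3, h4⟩ := hT
  have := h1
  have := h2
  refine ⟨isMonHom_of_mono iB t iT ht, ?_, h3, fun T' _ j _ _ f hT' hf => h4 T' (j ≫ iB) f hT' (by
    rw [← Category.assoc, hf, ht])⟩
  have : Mono (t ≫ iB) := ht.symm ▸ h2
  exact mono_of_mono t iB

/-- Borel pairs are conjugate. -/
theorem borelPair_conj {B B' T T' : Over (Spec (CommRingCat.of k))} [GrpObj B] [GrpObj B'] [GrpObj T] [GrpObj T']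
    {iB : B ⟶ G} {iB' : B' ⟶ G} (hB : Red.IsBorelOver k iB) (hB' : Red.IsBorelOver k iB')
    {iT : T ⟶ G} {iT' : T' ⟶ G} (hT : AGF.IsMaxTorus iT) (hT' : AGF.IsMaxTorus iT')
    (t : T ⟶ B) (ht : t ≫ iB = iT) (t' : T' ⟶ B') (ht' : t' ≫ iB' = iT') :
    ∃ (g : 𝟙_ (Over (Spec (CommRingCat.of k))) ⟶ G) (f : B ≅ B') (f' : T ≅ T'),
      f.hom ≫ iB' = AGF.conjBy g iB ∧ f'.hom ≫ iT' = AGF.conjBy g iT := by
  obtain ⟨g, f, hf⟩ := borel_conj hB hB'
  have := hB.1
  have := hB'.1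
  have := hB'.2.1
  have := mono_of_closed iB'
  have := hB'.2.2.1
  have := hB'.2.2.2.1
  have : IsAffine B'.left := isAffine_of_isAffineHom iB'.left
  have := hT.1
  have := hT.2.1
  have h1 : (t ≫ f.hom) ≫ iB' = AGF.conjBy g iT := by rw [Category.assoc, hf, comp_conjBy, ht]
  have hTc : AGF.IsMaxTorus (AGF.conjBy g iT) := ⟨inferInstance, inferInstance, hT.2.2.1, fun T'' _ j _ _ e hT'' he =>
    hT.2.2.2 T'' (AGF.conjBy g⁻¹ j) e hT'' (by rw [comp_conjBy, he, conjBy_inv_cancel'])⟩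
  obtain ⟨b, f', hf'⟩ := maxTorus_conj_solvable hB'.2.2.2.2.1 (isMaxTorus_of_fac hTc iB' _ h1)
    (isMaxTorus_of_fac hT' iB' t' ht')
  refine ⟨(b ≫ iB') * g, f ≪≫ conjIso b, f', ?_, ?_⟩
  · show (f.hom ≫ AGF.conjBy b (𝟙 B')) ≫ iB' = _
    rw [Category.assoc, conjBy_comp, Category.id_comp, comp_conjBy, hf, conjBy_conjBy]
  · rw [← ht', ← Category.assoc, hf', conjBy_comp, h1, conjBy_conjBy]

/-- Maximal tori are conjugate. -/
theorem maxTorus_conj {T T' : Over (Spec (CommRingCat.of k))} [GrpObj T] [GrpObj T'] {iT : T ⟶ G} {iT' : T' ⟶ G}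
    (hT : AGF.IsMaxTorus iT) (hT' : AGF.IsMaxTorus iT') :
    ∃ (g : 𝟙_ (Over (Spec (CommRingCat.of k))) ⟶ G) (f : T ≅ T'), f.hom ≫ iT' = AGF.conjBy g iT := by
  have := hT.1
  have := hT.2.1
  have := hT'.1
  have := hT'.2.1
  obtain ⟨B, _, iB, t, hB, ht⟩ := exists_borel_containing iT hT.2.2.1
  obtain ⟨B', _, iB', t', hB', ht'⟩ := exists_borel_containing iT' hT'.2.2.1
  obtain ⟨g, -, f', -, hf'⟩ := borelPair_conj hB hB' hT hT' t ht t' ht'
  exact ⟨g, f', hf'⟩

omit [IsAlgClosed k] [IsAffine G.left] [Smooth G.hom] [ConnectedSpace G.left] in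
/-- Centralizers of conjugate subgroups are conjugate. -/
theorem centralizer_conj {T T' C C' : Over (Spec (CommRingCat.of k))} [GrpObj C] [GrpObj C'] {iT : T ⟶ G} {iT' : T' ⟶ G}
    (g : 𝟙_ (Over (Spec (CommRingCat.of k))) ⟶ G) (f : T ≅ T') (hf : f.hom ≫ iT' = AGF.conjBy g iT)
    {c : C ⟶ G} {c' : C' ⟶ G} (hc : Red.IsCentralizerOf iT c) (hc' : Red.IsCentralizerOf iT' c') :
    ∃ e : C ≅ C', e.hom ≫ c' = AGF.conjBy g c := by
  have := hc.2.1
  have := hc'.2.1
  have key : ∀ {T T' C C' : Over (Spec (CommRingCat.of k))} [GrpObj C] [GrpObj C'] {iT : T ⟶ G} {iT' : T' ⟶ G}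
      (g : 𝟙_ (Over (Spec (CommRingCat.of k))) ⟶ G) (f : T ≅ T'), f.hom ≫ iT' = AGF.conjBy g iT →
      ∀ {c : C ⟶ G} {c' : C' ⟶ G}, Red.IsCentralizerOf iT c → Red.IsCentralizerOf iT' c' →
        ∃ z : C ⟶ C', z ≫ c' = AGF.conjBy g c := by
    intro T T' C C' _ _ iT iT' g f hf c c' hc hc'
    refine (hc'.2.2 C (AGF.conjBy g c)).mpr fun X x h => ?_
    have h1 := (hc.2.2 C c).mp ⟨𝟙 C, Category.id_comp c⟩ X x (h ≫ f.inv)
    have h2 := congrArg (AGF.conjBy g) h1
    rw [conjBy_mul, conjBy_mul, ← comp_conjBy x g c, ← comp_conjBy (h ≫ f.inv) g iT, ← hf, Category.assoc,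
      Iso.inv_hom_id_assoc] at h2
    exact h2
  obtain ⟨z, hz⟩ := key g f hf hc hc'
  obtain ⟨w, hw⟩ := key g⁻¹ f.symm (by
    show f.inv ≫ iT = AGF.conjBy g⁻¹ iT'
    rw [← cancel_epi f.hom, Iso.hom_inv_id_assoc, comp_conjBy, hf, conjBy_inv_cancel']) hc' hc
  exact ⟨⟨z, w, by rw [← cancel_mono c, Category.assoc, hw, comp_conjBy, hz, conjBy_inv_cancel', Category.id_comp],
    by rw [← cancel_mono c', Category.assoc, hz, comp_conjBy, hw, conjBy_inv_cancel, Category.id_comp]⟩, hz⟩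

end Groth.Agent.AGFRoot.SolvSch
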