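import Groth.Agent.AGFRoot.SolvSection

/-!
# Tori and their centralizers in connected solvable groups
-/

set_option autoImplicit false

universe u

open TensorProduct WithConv

namespace Groth.Agent.AGFRoot.Solv

open Groth.Agent.ComodLib Groth.Agent.AlgGrpQ
open scoped commutatorElement

variable {k : Type u} [Field k] {A : Type u} [CommRing A] [HopfAlgebra k A]

local notation "Pt" => WithConv (A →ₐ[k] k)

theorem isReg_comp {f h : Pt → Pt} (hf : IsReg f) (hh : IsReg h) : IsReg fun g => f (h g) := fun a => by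
  obtain ⟨b, hb⟩ := hf a
  obtain ⟨c, hc⟩ := hh b
  exact ⟨c, fun g => (hb _).trans (hc g)⟩

theorem isReg_pow {f : Pt → Pt} (hf : IsReg f) : ∀ n : ℕ, IsReg fun g => f g ^ n
  | 0 => by simpa using isReg_const (1 : Pt)
  | n + 1 => by simpa [pow_succ] using (isReg_pow hf n).mul hf

theorem isReg_listProd {ι : Type*} (F : ι → Pt → Pt) (h : ∀ i, IsReg (F i)) :
    ∀ l : List ι, IsReg fun g => (l.map fun i => F i g).prod
  | [] => by simpa using isReg_const (1 : Pt)
  | i :: l => by simpa using (h i).mul (isReg_listProd F h l)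

theorem isReg_commutator (s : Pt) : IsReg (k := k) (A := A) fun g => ⁅s, g⁆ := by
  simp only [commutatorElement_def]
  exact (((isReg_const s).mul isReg_id).mul (isReg_const s).inv).mul isReg_id.inv

theorem isReg_retr {T : Type*} [CommGroup T] [Fintype T] (σ : T →* Pt) : ∀ n, IsReg (Tower.retr σ n)
  | 0 => isReg_id
  | n + 1 => by
    refine isReg_comp (f := Tower.step σ) ?_ (isReg_retr σ n)
    exact (isReg_pow isReg_id _).mul (isReg_listProd (fun b g => ⁅σ b, g⁆) (fun b => isReg_commutator (σ b)) _)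

theorem isIrred_image {S : Set Pt} (hS : IsIrred S) {f : Pt → Pt} (hf : IsReg f) : IsIrred (f '' S) := by
  intro a b hab
  obtain ⟨α, hα⟩ := hf a
  obtain ⟨β, hβ⟩ := hf b
  rcases hS α β fun g hg => by rw [← hα, ← hβ]; exact hab _ ⟨g, hg, rfl⟩ with h | h
  · exact Or.inl fun _ ⟨g, hg, e⟩ => e ▸ (hα g).trans (h g hg)
  · exact Or.inr fun _ ⟨g, hg, e⟩ => e ▸ (hβ g).trans (h g hg)

/-- A decreasing sequence of nonempty zero sets has a common point. -/
theorem exists_stable [Algebra.FiniteType k A] (U : ℕ → Set Pt)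
    (hU : ∀ n, ∃ E : Set A, U n = {g | ∀ a ∈ E, g.ofConv a = 0}) (hanti : Antitone U) :
    ∃ N, ∀ n, U N ⊆ U n := by
  haveI : IsNoetherianRing A := Algebra.FiniteType.isNoetherianRing k A
  choose E hE using hU
  let I : ℕ →o Ideal A := ⟨fun n => Ideal.span (⋃ m ≤ n, E m), fun a b h =>
    Ideal.span_mono (Set.biUnion_subset_biUnion_left fun m hm => le_trans hm h)⟩
  obtain ⟨N, hN⟩ := monotone_stabilizes_iff_noetherian.mpr ‹_› I
  refine ⟨N, fun n g hg => ?_⟩
  rcases le_total n N with h | h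
  · exact hanti h hg
  · rw [hE]
    intro a ha
    have h1 : a ∈ I N := by
      rw [hN n h]
      exact Ideal.subset_span (Set.mem_biUnion (le_refl n) ha)
    refine (Ideal.span_le.mpr fun b hb => ?_ : I N ≤ RingHom.ker g.ofConv.toRingHom) h1
    obtain ⟨m, hm, hb⟩ := Set.mem_iUnion₂.mp hb
    have := hanti hm hg
    rw [hE] at this
    exact this b hb

theorem mem_zeroSet_eq (U : Set Pt) (f h : Pt → Pt) (hf : IsReg f) (hh : IsReg h) :
    ∃ E : Set A, {g | f g = h g} = {g : Pt | ∀ a ∈ E, g.ofConv a = 0} := by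
  choose bf hbf using hf
  choose bh hbh using hh
  refine ⟨Set.range fun a => bf a - bh a, Set.ext fun g => ⟨fun e => ?_, fun e => ?_⟩⟩
  · rintro _ ⟨a, rfl⟩
    rw [map_sub, ← hbf, ← hbh, show f g = h g from e, sub_self]
  · exact WithConv.ofConv_injective (AlgHom.ext fun a => by
      have := e _ ⟨a, rfl⟩
      rwa [map_sub, sub_eq_zero, ← hbf, ← hbh] at this)

theorem zeroSet_iInter {ι : Sort*} (S : ι → Set Pt) (h : ∀ i, ∃ E : Set A, S i = {g | ∀ a ∈ E, g.ofConv a = 0}) :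
    ∃ E : Set A, (⋂ i, S i) = {g : Pt | ∀ a ∈ E, g.ofConv a = 0} := by
  choose E hE using h
  exact ⟨⋃ i, E i, Set.ext fun g => by simp only [hE, Set.mem_iInter, Set.mem_iUnion]; exact
    ⟨fun h a ⟨i, ha⟩ => h i a ha, fun h i a ha => h a ⟨i, ha⟩⟩⟩

variable (Θ : A →ₐc[k] MonoidAlgebra k (GroupLike k A))

/-- The projection onto the torus of a splitting. -/
noncomputable def projT : Pt →* Pt := (theta Θ).comp pr

theorem isReg_projT : IsReg (projT Θ) := fun a => ⟨chr (Θ a), fun g => by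
  show (theta Θ (pr g)).ofConv a = _
  rw [theta_apply, apply_chr]⟩

variable {Θ}

theorem projT_mul_inv_mem (hΘ : ∀ z, Θ (chr z) = z) (g : Pt) :
    (projT Θ g)⁻¹ * g ∈ (pr (k := k) (A := A)).ker := by
  rw [MonoidHom.mem_ker, map_mul, map_inv]
  show (pr (theta Θ (pr g)))⁻¹ * pr g = 1
  rw [pr_theta hΘ]
  exact MonoidHom.ext fun χ => inv_mul_cancel _

theorem commute_theta (x y : GroupLike k A →* kˣ) : Commute (theta Θ x) (theta Θ y) := by
  show theta Θ x * theta Θ y = theta Θ y * theta Θ x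
  rw [← map_mul, ← map_mul]
  exact congrArg (theta Θ) (MonoidHom.ext fun _ => mul_comm _ _)

variable [IsAlgClosed k] [Algebra.FiniteType k A] [IsDomain A]

/-- The kernel of the projection is irreducible. -/
theorem isIrred_ker_pr (hΘ : ∀ z, Θ (chr z) = z) :
    IsIrred ((pr (k := k) (A := A)).ker : Set Pt) := by
  have e : ((pr (k := k) (A := A)).ker : Set Pt) = (fun g => (projT Θ g)⁻¹ * g) '' Set.univ := by
    ext g
    refine ⟨fun hg => ⟨g, trivial, ?_⟩, fun ⟨g', _, e⟩ => e ▸ projT_mul_inv_mem hΘ g'⟩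
    show (theta Θ (pr g))⁻¹ * g = g
    rw [show pr g = 1 from hg, map_one, inv_one, one_mul]
  rw [e]
  exact isIrred_image isIrred_univ ((isReg_projT Θ).inv.mul isReg_id)

variable {M : Type u} [CommGroup M] [Monoid.FG M] [IsMulTorsionFree M] (ζ : A →ₐc[k] MonoidAlgebra k M)

/-- A torus is conjugate into the torus of a splitting by a unipotent element. -/
theorem exists_conj_theta (hT : HopfRep.IsTrigonalizable k A) (hΘ : ∀ z, Θ (chr z) = z) :
    ∃ u ∈ (pr (k := k) (A := A)).ker, ∀ x, u * theta ζ x * u⁻¹ = projT Θ (theta ζ x) := by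
  classical
  obtain ⟨ℓ, hℓp, hℓ⟩ := SolvChar.exists_prime_ne_zero (k := k)
  haveI : NeZero ℓ := ⟨hℓp.ne_zero⟩
  obtain ⟨D⟩ := exists_flagData hT
  let T := fun n => SolvChar.tors (k := k) (X := M) ℓ n
  let U : ℕ → Set Pt := fun n =>
    {u | (∀ χ : GroupLike k A, u.ofConv χ.val = 1) ∧ ∀ x ∈ T n, u * theta ζ x * u⁻¹ = projT Θ (theta ζ x)}
  have hne : ∀ n, (U n).Nonempty := fun n => by
    haveI : Fintype (T n) := Fintype.ofFinite _
    obtain ⟨u, hu, hux⟩ := Tower.exists_conj D.isTower (D.isDiv hT (SolvChar.card_tors_ne_zero ℓ n hℓ))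
      ((theta ζ).comp (T n).subtype) ((projT Θ).comp ((theta ζ).comp (T n).subtype)) fun x => by
        rw [D.tower_zero, MonoidHom.mem_ker, map_mul, map_inv]
        show pr (theta Θ (pr (theta ζ x.1))) * (pr (theta ζ x.1))⁻¹ = 1
        rw [pr_theta hΘ]
        exact MonoidHom.ext fun χ => mul_inv_cancel _
    exact ⟨u, mem_ker_pr.mp (D.tower_zero ▸ hu), fun x hx => hux ⟨x, hx⟩⟩
  have hanti : Antitone U := fun a b h u hu => ⟨hu.1, fun x hx => hu.2 x (SolvChar.tors_mono h hx)⟩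
  have hzero : ∀ n, ∃ E : Set A, U n = {g | ∀ a ∈ E, g.ofConv a = 0} := fun n => by
    have e : U n = (⋂ χ : GroupLike k A, {u : Pt | u.ofConv χ.val = 1}) ∩
        ⋂ x : T n, {u : Pt | u * theta ζ x * u⁻¹ = projT Θ (theta ζ x)} := by
      ext u
      simp only [U, Set.mem_inter_iff, Set.mem_iInter, Set.mem_setOf_eq]
      exact ⟨fun h => ⟨h.1, fun x => h.2 x x.2⟩, fun h => ⟨h.1, fun x hx => h.2 ⟨x, hx⟩⟩⟩
    obtain ⟨E₁, h₁⟩ := zeroSet_iInter (fun χ : GroupLike k A => {u : Pt | u.ofConv χ.val = 1}) fun χ =>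
      ⟨{χ.val - 1}, by ext u; simp [sub_eq_zero]⟩
    obtain ⟨E₂, h₂⟩ := zeroSet_iInter (fun x : T n => {u : Pt | u * theta ζ x * u⁻¹ = projT Θ (theta ζ x)}) fun x =>
      mem_zeroSet_eq Set.univ _ _ ((isReg_id.mul (isReg_const _)).mul isReg_id.inv) (isReg_const _)
    exact ⟨E₁ ∪ E₂, by rw [e, h₁, h₂]; ext u; simp [or_imp, forall_and]⟩
  obtain ⟨N, hN⟩ := exists_stable U hzero hanti
  obtain ⟨u, hu⟩ := hne N
  refine ⟨u, mem_ker_pr.mpr hu.1, fun x => WithConv.ofConv_injective (AlgHom.ext fun a => ?_)⟩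
  obtain ⟨b, hb⟩ := ((isReg_const u).mul isReg_id).mul (isReg_const u⁻¹) a
  simp only [id_eq] at hb
  obtain ⟨c, hc⟩ := isReg_projT Θ a
  rw [hb, hc, theta_apply, theta_apply]
  refine congrArg (SolvChar.liftC x) (sub_eq_zero.mp (SolvChar.eq_zero_of_tors hℓp hℓ fun y ⟨n, hy⟩ => ?_))
  rw [map_sub, sub_eq_zero, ← theta_apply, ← theta_apply, ← hb, ← hc, (hN n hu).2 y hy]

/-- The centralizer of a torus in a connected solvable group is irreducible. -/
theorem isIrred_centralizer (hT : HopfRep.IsTrigonalizable k A) :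
    IsIrred {g : Pt | ∀ x, Commute g (theta ζ x)} := by
  classical
  obtain ⟨Θ, hΘ⟩ := exists_splitting hT
  obtain ⟨ℓ, hℓp, hℓ⟩ := SolvChar.exists_prime_ne_zero (k := k)
  haveI : NeZero ℓ := ⟨hℓp.ne_zero⟩
  obtain ⟨D⟩ := exists_flagData hT
  obtain ⟨u, -, hux⟩ := exists_conj_theta ζ hT hΘ
  let ω : (M →* kˣ) →* Pt := (projT Θ).comp (theta ζ)
  let Z : Set Pt := {g | ∀ x, Commute g (ω x)}
  suffices hZ : IsIrred Z by
    have e : {g : Pt | ∀ x, Commute g (theta ζ x)} = (fun g => u⁻¹ * g * u) '' Z := by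
      ext g
      refine ⟨fun hg => ⟨u * g * u⁻¹, fun x => ?_, by group⟩, ?_⟩
      · show Commute _ (projT Θ (theta ζ x))
        rw [← hux x]
        exact (Commute.conj_iff u).mpr (hg x)
      · rintro ⟨h, hh, rfl⟩ x
        have h1 : Commute h (u * theta ζ x * u⁻¹) := by rw [hux x]; exact hh x
        have h2 := (Commute.conj_iff u⁻¹).mpr h1
        simpa [mul_assoc] using h2
    rw [e]
    exact isIrred_image hZ (((isReg_const u⁻¹).mul isReg_id).mul (isReg_const u))
  let T := fun n => SolvChar.tors (k := k) (X := M) ℓ n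
  let C : ℕ → Set Pt := fun n => {g | ∀ x ∈ T n, g * ω x = ω x * g}
  have hCanti : Antitone C := fun a b h g hg x hx => hg x (SolvChar.tors_mono h hx)
  have hCzero : ∀ n, ∃ E : Set A, C n = {g | ∀ a ∈ E, g.ofConv a = 0} := fun n => by
    have e : C n = ⋂ x : T n, {g : Pt | g * ω x = ω x * g} := by
      ext g
      simp only [C, Set.mem_iInter, Set.mem_setOf_eq]
      exact ⟨fun h x => h x x.2, fun h x hx => h ⟨x, hx⟩⟩
    rw [e]
    exact zeroSet_iInter _ fun x => mem_zeroSet_eq Set.univ _ _ (isReg_id.mul (isReg_const _)) ((isReg_const _).mul isReg_id)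
  obtain ⟨N, hN⟩ := exists_stable C hCzero hCanti
  have hall : ∀ g ∈ C N, ∀ x, Commute g (ω x) := fun g hg x => WithConv.ofConv_injective (AlgHom.ext fun a => by
    obtain ⟨b, hb⟩ := isReg_comp ((isReg_const g).mul isReg_id) (isReg_projT Θ) a
    obtain ⟨c, hc⟩ := isReg_comp (isReg_id.mul (isReg_const g)) (isReg_projT Θ) a
    simp only [id_eq] at hb hc
    show (g * projT Θ (theta ζ x)).ofConv a = (projT Θ (theta ζ x) * g).ofConv a
    rw [hb, hc, theta_apply, theta_apply]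
    refine congrArg (SolvChar.liftC x) (sub_eq_zero.mp (SolvChar.eq_zero_of_tors hℓp hℓ fun y ⟨n, hy⟩ => ?_))
    rw [map_sub, sub_eq_zero, ← theta_apply, ← theta_apply, ← hb, ← hc]
    exact congrArg (fun z : Pt => z.ofConv a) (hN n hg y hy))
  haveI : Fintype (T N) := Fintype.ofFinite _
  let σ : T N →* Pt := ω.comp (T N).subtype
  have hker := Tower.retr_image D.isTower (D.isDiv hT (SolvChar.card_tors_ne_zero ℓ N hℓ)) σ
  have hZeq : Z = Set.image2 (fun g v => projT Θ g * Tower.retr σ D.n v) Set.univ ((pr (k := k) (A := A)).ker : Set Pt) := by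
    ext g
    constructor
    · intro hg
      have hmem : (projT Θ g)⁻¹ * g ∈ {v | v ∈ D.tower 0 ∧ ∀ a, Commute (σ a) v} := by
        refine ⟨D.tower_zero ▸ projT_mul_inv_mem hΘ g, fun a => ?_⟩
        exact (Commute.inv_right (commute_theta _ _)).mul_right (hg a.1).symm
      rw [← hker] at hmem
      obtain ⟨v, hv, hve⟩ := hmem
      exact ⟨g, trivial, v, D.tower_zero ▸ hv, by simp [hve]⟩
    · rintro ⟨g₀, -, v, hv, rfl⟩ x
      have hmem : Tower.retr σ D.n v ∈ {v | v ∈ D.tower 0 ∧ ∀ a, Commute (σ a) v} :=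
        hker ▸ ⟨v, D.tower_zero.symm ▸ hv, rfl⟩
      refine Commute.mul_left (commute_theta _ _) (hall _ (fun y hy => ?_) x)
      exact (hmem.2 ⟨y, hy⟩).eq.symm
  rw [hZeq]
  refine isIrred_univ.image2 (isIrred_ker_pr hΘ) (fun v => (isReg_projT Θ).mul (isReg_const _)) fun g => ?_
  exact (isReg_const _).mul (isReg_retr σ D.n)

end Groth.Agent.AGFRoot.Solv
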