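import Mathlib.RingTheory.Bialgebra.MonoidAlgebra
import Mathlib.RingTheory.HopfAlgebra.MonoidAlgebra
import Mathlib.LinearAlgebra.FreeModule.PID
import Mathlib.LinearAlgebra.TensorProduct.Basis
import Mathlib.LinearAlgebra.LinearIndependent.Lemmas
import Mathlib.FieldTheory.IsAlgClosed.Basic
import Mathlib.RingTheory.RootsOfUnity.AlgebraicallyClosed
import Mathlib.Algebra.Group.Hom.Instances
import Mathlib.GroupTheory.Finiteness
import Mathlib.RingTheory.Finiteness.Basic
import Mathlib.RingTheory.TensorProduct.Basic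

/-!
# Torsion characters separate the elements of a group algebra
-/

set_option autoImplicit false

universe u

open TensorProduct

namespace Groth.Agent.AGFRoot.SolvChar

variable {k : Type u} [Field k] {X : Type u} [CommGroup X]

/-- The algebra map given by a point of the diagonalisable group of `X`. -/
noncomputable def liftC (x : X →* kˣ) : MonoidAlgebra k X →ₐ[k] k :=
  MonoidAlgebra.lift k k X ((Units.coeHom k).comp x)

@[simp] theorem liftC_single (x : X →* kˣ) (χ : X) (r : k) :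
    liftC x (MonoidAlgebra.single χ r) = r * (x χ : k) := by
  simp [liftC]

/-- The points of `ℓ`-power order. -/
def tors (ℓ : ℕ) (n : ℕ) : Subgroup (X →* kˣ) where
  carrier := {x | x ^ ℓ ^ n = 1}
  one_mem' := one_pow _
  mul_mem' {x y} hx hy := by
    refine MonoidHom.ext fun χ => ?_
    show (x χ * y χ) ^ ℓ ^ n = 1
    rw [mul_pow, show x χ ^ ℓ ^ n = 1 from DFunLike.congr_fun hx χ,
      show y χ ^ ℓ ^ n = 1 from DFunLike.congr_fun hy χ, one_mul]
  inv_mem' {x} hx := by
    refine MonoidHom.ext fun χ => ?_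
    show (x χ)⁻¹ ^ ℓ ^ n = 1
    rw [inv_pow, show x χ ^ ℓ ^ n = 1 from DFunLike.congr_fun hx χ, inv_one]

theorem mem_tors {ℓ n : ℕ} {x : X →* kˣ} : x ∈ tors (k := k) (X := X) ℓ n ↔ x ^ ℓ ^ n = 1 := Iff.rfl

theorem tors_mono {ℓ : ℕ} {m n : ℕ} (h : m ≤ n) : tors (k := k) (X := X) ℓ m ≤ tors ℓ n := fun x hx => by
  obtain ⟨d, rfl⟩ := Nat.exists_eq_add_of_le h
  refine MonoidHom.ext fun χ => ?_
  show x χ ^ ℓ ^ (m + d) = 1
  rw [pow_add, pow_mul, show x χ ^ ℓ ^ m = 1 from DFunLike.congr_fun hx χ, one_pow]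

/-- All points of `ℓ`-power order. -/
def torsAll (ℓ : ℕ) : Subgroup (X →* kˣ) where
  carrier := {x | ∃ n, x ∈ tors ℓ n}
  one_mem' := ⟨0, one_mem _⟩
  mul_mem' := fun ⟨m, hm⟩ ⟨n, hn⟩ =>
    ⟨max m n, mul_mem (tors_mono (le_max_left m n) hm) (tors_mono (le_max_right m n) hn)⟩
  inv_mem' := fun ⟨n, hn⟩ => ⟨n, inv_mem hn⟩

instance finite_tors [Monoid.FG X] (ℓ n : ℕ) [NeZero ℓ] : Finite (tors (k := k) (X := X) ℓ n) := by
  obtain ⟨S, hS⟩ := (Monoid.FG.fg_top : (⊤ : Submonoid X).FG)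
  let f : tors (k := k) (X := X) ℓ n → (S → rootsOfUnity (ℓ ^ n) k) := fun x s =>
    ⟨x.1 s, (mem_rootsOfUnity _ _).mpr (DFunLike.congr_fun x.2 (s : X))⟩
  refine Finite.of_injective f fun x y h => Subtype.ext ?_
  refine MonoidHom.eq_of_eqOn_denseM hS fun s hs => ?_
  exact congrArg Subtype.val (congrFun h ⟨s, hs⟩)

theorem card_tors_ne_zero [Monoid.FG X] (ℓ n : ℕ) [NeZero ℓ] [Fintype (tors (k := k) (X := X) ℓ n)]
    (hℓ : (ℓ : k) ≠ 0) : (Fintype.card (tors (k := k) (X := X) ℓ n) : k) ≠ 0 := by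
  intro h0
  rcases CharP.exists k with ⟨p, hp⟩
  rcases CharP.char_is_prime_or_zero k p with hprime | rfl
  · have := Fact.mk hprime
    obtain ⟨x, hx⟩ := exists_prime_orderOf_dvd_card p ((CharP.cast_eq_zero_iff k p _).mp h0)
    have h1 : orderOf x ∣ ℓ ^ n := orderOf_dvd_of_pow_eq_one (Subtype.ext (by
      rw [SubmonoidClass.coe_pow]
      exact x.2))
    rw [hx] at h1
    exact hℓ ((CharP.cast_eq_zero_iff k p ℓ).mpr (hprime.dvd_of_dvd_pow h1))
  · have := CharP.charP_to_charZero k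
    exact Fintype.card_ne_zero (by exact_mod_cast h0)

/-- An invertible prime. -/
theorem exists_prime_ne_zero : ∃ ℓ : ℕ, ℓ.Prime ∧ (ℓ : k) ≠ 0 := by
  by_cases h : ((2 : ℕ) : k) = 0
  · refine ⟨3, Nat.prime_three, fun h3 => one_ne_zero (α := k) ?_⟩
    have : ((3 : ℕ) : k) - ((2 : ℕ) : k) = 0 := by rw [h3, h, sub_zero]
    norm_num at this
  · exact ⟨2, Nat.prime_two, h⟩

variable [IsAlgClosed k] [Monoid.FG X] [IsMulTorsionFree X]

/-- Torsion points separate. -/
theorem exists_tors_ne_one {ℓ : ℕ} (hℓp : ℓ.Prime) (hℓ : (ℓ : k) ≠ 0) {χ : X} (hχ : χ ≠ 1) :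
    ∃ x ∈ torsAll (k := k) (X := X) ℓ, x χ ≠ 1 := by
  have : Group.FG X := Group.fg_iff_monoid_fg.mpr ‹_›
  have : AddGroup.FG (Additive X) := AddGroup.fg_of_group_fg
  have : Module.Finite ℤ (Additive X) := Module.Finite.iff_addGroup_fg.mpr inferInstance
  have : IsAddTorsionFree (Additive X) := inferInstance
  obtain ⟨r, b⟩ := Module.basisOfFiniteTypeTorsionFree' (R := ℤ) (M := Additive X)
  obtain ⟨i, hi⟩ : ∃ i, b.repr (Additive.ofMul χ) i ≠ 0 := by
    by_contra hne
    push Not at hne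
    exact hχ (by simpa using b.repr.injective (show b.repr (Additive.ofMul χ) = b.repr 0 by
      ext i; simp [hne i]))
  let z : ℤ := b.repr (Additive.ofMul χ) i
  let N := z.natAbs + 1
  have hN : z.natAbs < ℓ ^ N := by
    calc z.natAbs < N := Nat.lt_succ_self _
      _ ≤ ℓ ^ N := (Nat.lt_pow_self hℓp.one_lt).le
  have : NeZero ((ℓ ^ N : ℕ) : k) := ⟨by rw [Nat.cast_pow]; exact pow_ne_zero _ hℓ⟩
  obtain ⟨ζ, hζ⟩ := HasEnoughRootsOfUnity.exists_primitiveRoot k (ℓ ^ N)
  let u : kˣ := (hζ.isUnit (pow_ne_zero _ hℓp.ne_zero)).unit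
  have hu : IsPrimitiveRoot u (ℓ ^ N) := IsPrimitiveRoot.coe_units_iff.mp hζ
  let x : X →* kˣ := MonoidHom.mk' (fun m => u ^ b.repr (Additive.ofMul m) i) fun m m' => by
    rw [ofMul_mul, map_add, Finsupp.add_apply, zpow_add]
  refine ⟨x, ⟨N, MonoidHom.ext fun m => ?_⟩, fun hx => ?_⟩
  · show (u ^ b.repr (Additive.ofMul m) i) ^ ℓ ^ N = 1
    rw [← zpow_natCast, ← zpow_mul, mul_comm, zpow_mul, zpow_natCast, hu.pow_eq_one, one_zpow]
  · have hdvd : ((ℓ ^ N : ℕ) : ℤ) ∣ z := (hu.zpow_eq_one_iff_dvd z).mp hx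
    have h2 := Int.natAbs_dvd_natAbs.mpr hdvd
    rw [Int.natAbs_natCast] at h2
    exact absurd (Nat.le_of_dvd (Int.natAbs_pos.mpr hi) h2) (not_le.mpr hN)

/-- The evaluation characters at torsion points. -/
noncomputable def ev (ℓ : ℕ) (χ : X) : torsAll (k := k) (X := X) ℓ →* k :=
  { toFun := fun x => (x.1 χ : k), map_one' := by simp, map_mul' := fun x y => by simp }

theorem ev_injective {ℓ : ℕ} (hℓp : ℓ.Prime) (hℓ : (ℓ : k) ≠ 0) : Function.Injective (ev (k := k) (X := X) ℓ) := by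
  intro χ ψ h
  by_contra hne
  obtain ⟨x, hx, hx1⟩ := exists_tors_ne_one (k := k) hℓp hℓ (χ := χ * ψ⁻¹) (mul_inv_eq_one.not.mpr hne)
  refine hx1 ?_
  have e : (x χ : k) = (x ψ : k) := DFunLike.congr_fun h (⟨x, hx⟩ : torsAll (k := k) (X := X) ℓ)
  rw [map_mul, map_inv, Units.ext e, mul_inv_cancel]

/-- A function on the torus vanishing on the torsion points is zero. -/
theorem eq_zero_of_tors {ℓ : ℕ} (hℓp : ℓ.Prime) (hℓ : (ℓ : k) ≠ 0) {z : MonoidAlgebra k X}
    (h : ∀ x ∈ torsAll (k := k) (X := X) ℓ, liftC x z = 0) : z = 0 := by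
  have hli : LinearIndependent k (fun χ : X => (ev (k := k) ℓ χ : torsAll (k := k) (X := X) ℓ → k)) :=
    (linearIndependent_monoidHom (torsAll (k := k) (X := X) ℓ) k).comp _ (ev_injective hℓp hℓ)
  have e : Finsupp.linearCombination k (fun χ : X => (ev (k := k) ℓ χ : torsAll (k := k) (X := X) ℓ → k)) z.coeff = 0 := by
    funext x
    refine Eq.trans ?_ (h x.1 x.2)
    clear h
    induction z using MonoidAlgebra.induction_linear with
    | zero => simp
    | add f g hf hg => simp only [MonoidAlgebra.coeff_add, map_add, Pi.add_apply, hf, hg]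
    | single χ r => simp [ev]
  exact MonoidAlgebra.coeff_injective (linearIndependent_iff.mp hli _ e)

/-- A function on the square of the torus vanishing on the pairs of torsion points is zero. -/
theorem eq_zero_of_tors₂ {ℓ : ℕ} (hℓp : ℓ.Prime) (hℓ : (ℓ : k) ≠ 0) {z : MonoidAlgebra k X ⊗[k] MonoidAlgebra k X}
    (h : ∀ x ∈ torsAll (k := k) (X := X) ℓ, ∀ y ∈ torsAll (k := k) (X := X) ℓ,
      Algebra.TensorProduct.lift (liftC x) (liftC y) (fun _ _ => Commute.all _ _) z = 0) : z = 0 := by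
  let T := torsAll (k := k) (X := X) ℓ
  let e2 : X × X → (T × T →* k) := fun p =>
    { toFun := fun w => (w.1.1 p.1 : k) * (w.2.1 p.2 : k)
      map_one' := by simp
      map_mul' := fun v w => by
        simp only [Prod.fst_mul, Prod.snd_mul, Subgroup.coe_mul, MonoidHom.mul_apply, Units.val_mul]
        ring }
  have he : Function.Injective e2 := by
    intro p q hpq
    refine Prod.ext (ev_injective (k := k) hℓp hℓ (MonoidHom.ext fun x => ?_))
      (ev_injective (k := k) hℓp hℓ (MonoidHom.ext fun x => ?_))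
    · have := DFunLike.congr_fun hpq (x, 1)
      simpa [e2, ev] using this
    · have := DFunLike.congr_fun hpq (1, x)
      simpa [e2, ev] using this
  let b := (MonoidAlgebra.basis X k).tensorProduct (MonoidAlgebra.basis X k)
  have hli : LinearIndependent k (fun p : X × X => (e2 p : T × T → k)) :=
    (linearIndependent_monoidHom (T × T) k).comp _ he
  have e : Finsupp.linearCombination k (fun p : X × X => (e2 p : T × T → k)) (b.repr z) = 0 := by
    funext w
    let L : MonoidAlgebra k X ⊗[k] MonoidAlgebra k X →ₗ[k] k :=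
      (Algebra.TensorProduct.lift (liftC w.1.1) (liftC w.2.1) fun _ _ => Commute.all _ _).toLinearMap
    let R : MonoidAlgebra k X ⊗[k] MonoidAlgebra k X →ₗ[k] k :=
      (LinearMap.proj w).comp ((Finsupp.linearCombination k fun p : X × X => (e2 p : T × T → k)).comp b.repr.toLinearMap)
    have hLR : R = L := b.ext fun p => by
      have hR : R (b p) = e2 p w := by simp [R]
      rw [hR]
      simp [L, b, e2, liftC, Module.Basis.tensorProduct_apply']
    exact (LinearMap.congr_fun hLR z).trans (h _ w.1.2 _ w.2.2)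
  exact b.repr.map_eq_zero_iff.mp (linearIndependent_iff.mp hli _ e)

end Groth.Agent.AGFRoot.SolvChar
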