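import Groth.Agent.AGFRoot.CodimOne
import Groth.Agent.ComodLib.Chevalley
import Groth.Agent.ComodLib.Antipode
import Groth.Agent.ComodLib.Simple
import Groth.Agent.ComodLib.Trig
import Mathlib.RingTheory.HopfAlgebra.GroupLike

/-!
# Invariant functions of a proper subgroup of a trigonalizable group
-/

universe u

open TensorProduct WithConv

namespace Groth.Agent.AGFRoot

open ComodLib

variable {k : Type u} [Field k] {A B : Type u} [CommRing A] [HopfAlgebra k A] [CommRing B] [HopfAlgebra k B]

/-- A function invariant under right translations by the subgroup of a surjection. -/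
def IsRightInv (π : A →ₐc[k] B) (f : A) : Prop :=
  ∀ (R : Type u) [CommRing R] [Algebra k R] (g : A →ₐ[k] R) (h : B →ₐ[k] R),
    (toConv g * toConv (h.comp (π : A →ₐ[k] B))).ofConv f = g f

variable {X : Type} [Fintype X] [DecidableEq X] {M : X → X → A}

theorem comul_orbit (hM : IsComodMatrix k M) (v : X → k) (x : X) :
    Coalgebra.comul (R := k) (orbit k M v x) = ∑ r, M x r ⊗ₜ[k] orbit k M v r := by
  simp only [orbit, map_sum, map_smul, hM.comul, Finset.smul_sum, tmul_sum, tmul_smul]
  exact Finset.sum_comm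

theorem convMul_orbit (hM : IsComodMatrix k M) (v : X → k) {R : Type u} [CommRing R] [Algebra k R]
    (g h : A →ₐ[k] R) (x : X) :
    (toConv g * toConv h).ofConv (orbit k M v x) = ∑ r, g (M x r) * h (orbit k M v r) := by
  show (toConv g * toConv h) (orbit k M v x) = _
  rw [AlgHom.convMul_apply, comul_orbit hM v, map_sum]
  simp

theorem convMul_groupLike {θ : A} (hθ : IsGroupLikeElem k θ) {R : Type u} [CommRing R] [Algebra k R]
    (g h : A →ₐ[k] R) : (toConv g * toConv h).ofConv θ = g θ * h θ := by
  show (toConv g * toConv h) θ = _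
  rw [AlgHom.convMul_apply, hθ.comul_eq_tmul_self]
  simp

/-- The span of an orbit vector contains a character when the group is trigonalizable. -/
theorem exists_groupLike_combination (hT : HopfRep.IsTrigonalizable k A) (hM : IsComodMatrix k M)
    (v : X → k) (hv : v ≠ 0) :
    ∃ (θ : A) (c : X → k), IsGroupLikeElem k θ ∧ θ = ∑ x, c x • orbit k M v x := by
  classical
  let f : X → A := fun x => HopfAlgebra.antipode k (orbit k M v x)
  let W : Submodule k A := Submodule.span k (Set.range f)
  have hcomul : ∀ x, Coalgebra.comul (R := k) (f x) = ∑ r, f r ⊗ₜ[k] HopfAlgebra.antipode k (M x r) := fun x => by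
    simp only [f, comul_antipode, comul_orbit hM v, map_sum, TensorProduct.comm_tmul, TensorProduct.map_tmul]
  have hW : HopfRep.IsSubcomod (k := k) (A := A) W := by
    intro w hw
    have : W ≤ Submodule.comap (Coalgebra.comul (R := k) (A := A)) (LinearMap.range (W.subtype.rTensor A)) := by
      refine Submodule.span_le.mpr ?_
      rintro _ ⟨x, rfl⟩
      rw [SetLike.mem_coe, Submodule.mem_comap, hcomul]
      exact Submodule.sum_mem _ fun r _ =>
        ⟨(⟨f r, Submodule.subset_span ⟨r, rfl⟩⟩ : W) ⊗ₜ[k] HopfAlgebra.antipode k (M x r), rfl⟩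
    exact this hw
  have hne : W ≠ ⊥ := by
    intro h
    refine hv (funext fun x => ?_)
    have h0 : f x = 0 := (Submodule.mem_bot k).mp (h ▸ Submodule.subset_span ⟨x, rfl⟩)
    have h1 : orbit k M v x = 0 := by
      rw [← antipode_antipode_apply (k := k) (orbit k M v x), show HopfAlgebra.antipode k (orbit k M v x) = 0 from h0,
        map_zero]
    have h2 := congrArg (Coalgebra.counit (R := k)) h1
    simpa [orbit, map_sum, hM.counit] using h2
  obtain ⟨L, hLW, hLf, hL, hL0, hLmin⟩ := exists_simple_le hW hne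
  let cL : HopfRep.Comod k A L := ComodSub.Comod.restr (HopfRep.Comod.regular k A) L hL
  have hrk : Module.finrank k L = 1 :=
    @hT L _ _ cL hLf (isSimpleComod_restr hL hL0 hLmin)
  obtain ⟨⟨w, hwL⟩, hw0, hline⟩ := finrank_eq_one_iff'.mp hrk
  have hw : w ≠ 0 := fun h0 => hw0 (Subtype.ext h0)
  obtain ⟨a, ha, hca⟩ := exists_groupLike_of_mem hL hw hwL fun w' hw' => by
    obtain ⟨c, hc⟩ := hline ⟨w', hw'⟩
    exact ⟨c, congrArg Subtype.val hc⟩
  have hca' : Coalgebra.comul (R := k) w = w ⊗ₜ[k] a := hca
  have hwa : w = Coalgebra.counit (R := k) w • a := by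
    have h := congrArg (TensorProduct.lid k A) (Coalgebra.rTensor_counit_comul (R := k) w)
    rw [hca'] at h
    simpa using h.symm
  have hε : Coalgebra.counit (R := k) w ≠ 0 := fun h0 => hw (by rw [hwa, h0, zero_smul])
  have haW : a ∈ W := by
    have : a = (Coalgebra.counit (R := k) w)⁻¹ • w := by
      have h' := congrArg ((Coalgebra.counit (R := k) w)⁻¹ • ·) hwa
      simp only [smul_smul, inv_mul_cancel₀ hε, one_smul] at h'
      exact h'.symm
    rw [this]
    exact Submodule.smul_mem _ _ (hLW hwL)
  obtain ⟨c, hc⟩ := Submodule.mem_span_range_iff_exists_fun k |>.mp haW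
  refine ⟨HopfAlgebra.antipode k a, c, ha.antipode, ?_⟩
  rw [← hc, map_sum]
  simp only [map_smul, f, antipode_antipode_apply]

/-- A closed subgroup of a trigonalizable group without invariant functions is the whole group. -/
theorem injective_of_rightInv_const [Algebra.FiniteType k A] (hT : HopfRep.IsTrigonalizable k A)
    (π : A →ₐc[k] B) (hπ : Function.Surjective π)
    (h : ∀ f : A, IsRightInv π f → ∃ c : k, f = algebraMap k A c) : Function.Injective π := by
  classical
  obtain ⟨d, e, M, hM, hblock, hkill⟩ := exists_block_matrix π hπ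
  let ι : Fin d → Fin d ⊕ Fin e := Sum.inl
  let M₁ := powMatrix M d
  have hM₁ : IsComodMatrix k M₁ := hM.powMatrix d
  let v₁ := minorVec k ι
  have hv₁ : v₁ ι = 1 := minorVec_self Sum.inl_injective
  obtain ⟨χ, -, heig⟩ := orbit_block hM π hblock
  have hv0 : v₁ ≠ 0 := fun h0 => one_ne_zero (hv₁.symm.trans (congrFun h0 ι))
  obtain ⟨θ, c, hθ, hθc⟩ := exists_groupLike_combination hT hM₁ v₁ hv0
  have hu : θ * HopfAlgebra.antipode k θ = 1 := hθ.mul_antipode_cancel
  have key : ∀ {R : Type u} [CommRing R] [Algebra k R] (g : A →ₐ[k] R) (q : B →ₐ[k] R) x,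
      (toConv g * toConv (q.comp (π : A →ₐ[k] B))).ofConv (orbit k M₁ v₁ x) = g (orbit k M₁ v₁ x) * q χ := by
    intro R _ _ g q x
    rw [convMul_orbit hM₁]
    have e1 : ∀ r, q.comp (π : A →ₐ[k] B) (orbit k M₁ v₁ r) = v₁ r • q χ := fun r => by
      show q (π (orbit k M₁ v₁ r)) = _
      rw [heig, map_smul]
    simp only [e1]
    simp only [orbit, map_sum, map_smul, Finset.sum_mul, mul_smul_comm, smul_mul_assoc]
  have keyθ : ∀ {R : Type u} [CommRing R] [Algebra k R] (g : A →ₐ[k] R) (q : B →ₐ[k] R),
      (toConv g * toConv (q.comp (π : A →ₐ[k] B))).ofConv θ = g θ * q χ := by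
    intro R _ _ g q
    conv_lhs => rw [hθc, map_sum]
    conv_rhs => rw [hθc, map_sum, Finset.sum_mul]
    exact Finset.sum_congr rfl fun x _ => by rw [map_smul, map_smul, key, smul_mul_assoc]
  have hinv : ∀ x, ∃ cx : k, orbit k M₁ v₁ x * HopfAlgebra.antipode k θ = algebraMap k A cx := by
    intro x
    refine h _ fun R _ _ g q => ?_
    have h1 := convMul_groupLike hθ g (q.comp (π : A →ₐ[k] B))
    rw [keyθ g q] at h1
    have hqχ : q.comp (π : A →ₐ[k] B) θ = q χ := by
      have hgu : IsUnit (g θ) := IsUnit.of_mul_eq_one _ (by rw [← map_mul, hu, map_one])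
      exact (hgu.mul_left_cancel h1).symm
    rw [map_mul, key g q x, convMul_groupLike hθ.antipode, map_mul]
    have h2 : q χ * q.comp (π : A →ₐ[k] B) (HopfAlgebra.antipode k θ) = 1 := by
      rw [← hqχ, ← map_mul, hu, map_one]
    linear_combination (g (orbit k M₁ v₁ x) * g (HopfAlgebra.antipode k θ)) * h2
  choose cx hcx using hinv
  have horb : ∀ x, orbit k M₁ v₁ x = algebraMap k A (cx x) * θ := fun x => by
    rw [← hcx x, mul_assoc, mul_comm (HopfAlgebra.antipode k θ), hu, mul_one]
  have hcv : ∀ x, cx x = v₁ x := fun x => by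
    have h1 := congrArg (Coalgebra.counit (R := k)) (horb x)
    rw [← Algebra.smul_def, map_smul, hθ.counit_eq_one, smul_eq_mul, mul_one] at h1
    rw [← h1]
    simp [orbit, map_sum, hM₁.counit]
  have hkill' := hkill A (AlgHom.id k A) fun r m => eq_zero_of_minors ((Matrix.of M).map (AlgHom.id k A)) θ
    (IsUnit.of_mul_eq_one _ hu)
    (fun i => (map_orbit_minorVec M (AlgHom.id k A) i).symm.trans
      (((horb i).trans (by rw [hcv i])).trans (Algebra.smul_def _ _).symm)) r m
  rw [injective_iff_map_eq_zero]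
  exact fun a ha => hkill' a ha

end Groth.Agent.AGFRoot
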