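import Groth.Agent.AGFRoot.SolvSplit
import Mathlib.LinearAlgebra.Eigenspace.Pi
import Mathlib.LinearAlgebra.Eigenspace.Semisimple
import Mathlib.LinearAlgebra.Eigenspace.Triangularizable
import Mathlib.FieldTheory.Separable

/-!
# Splitting the diagonalisable quotient of a connected solvable group
-/

set_option autoImplicit false

universe u

open TensorProduct WithConv

namespace Groth.Agent.AGFRoot.Solv

open Groth.Agent.ComodLib Groth.Agent.AlgGrpQ

variable {k : Type u} [Field k] {X : Type u} [CommGroup X]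

theorem liftC_mul (x y : X →* kˣ) (z : MonoidAlgebra k X) :
    SolvChar.liftC (x * y) z =
      Algebra.TensorProduct.lift (SolvChar.liftC x) (SolvChar.liftC y) (fun _ _ => Commute.all _ _)
        (Coalgebra.comul (R := k) z) := by
  induction z using MonoidAlgebra.induction_linear with
  | zero => simp
  | add f g hf hg => simp [hf, hg]
  | single χ r => simp; ring

theorem liftC_one (z : MonoidAlgebra k X) : SolvChar.liftC (1 : X →* kˣ) z = Coalgebra.counit (R := k) z := by
  induction z using MonoidAlgebra.induction_linear with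
  | zero => simp
  | add f g hf hg => simp [hf, hg]
  | single χ r => simp

variable {A : Type u} [CommRing A] [HopfAlgebra k A]

local notation "Pt" => WithConv (A →ₐ[k] k)

/-- The points of the torus attached to a splitting. -/
noncomputable def theta (Θ : A →ₐc[k] MonoidAlgebra k X) : (X →* kˣ) →* Pt :=
  MonoidHom.mk' (fun x => toConv ((SolvChar.liftC x).comp (Θ : A →ₐ[k] MonoidAlgebra k X))) fun x y => by
    refine WithConv.ofConv_injective (AlgHom.ext fun a => ?_)
    rw [AlgHom.convMul_apply]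
    show SolvChar.liftC (x * y) (Θ a) = _
    rw [liftC_mul, ← CoalgHomClass.map_comp_comul_apply Θ a]
    induction Coalgebra.comul (R := k) a using TensorProduct.induction_on with
    | zero => simp
    | tmul p q => simp
    | add p q hp hq => simp only [map_add, hp, hq]

theorem theta_apply (Θ : A →ₐc[k] MonoidAlgebra k X) (x : X →* kˣ) (a : A) :
    (theta Θ x).ofConv a = SolvChar.liftC x (Θ a) := rfl

theorem pr_theta {Θ : A →ₐc[k] MonoidAlgebra k (GroupLike k A)} (hΘ : ∀ z, Θ (chr z) = z)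
    (x : GroupLike k A →* kˣ) : pr (theta Θ x) = x := by
  refine MonoidHom.ext fun χ => Units.ext ?_
  rw [pr_apply, theta_apply, show χ.val = chr (MonoidAlgebra.single χ (1 : k)) by rw [chr_single, one_smul], hΘ]
  simp

variable [IsAlgClosed k] [Algebra.FiniteType k A] [IsDomain A]

/-- Lifts of the torsion points. -/
theorem exists_lift_tors (hT : HopfRep.IsTrigonalizable k A) {ℓ : ℕ} [NeZero ℓ] (hℓ : (ℓ : k) ≠ 0) :
    ∃ σ : SolvChar.torsAll (k := k) (X := GroupLike k A) ℓ →* Pt, ∀ x, pr (σ x) = x.1 := by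
  classical
  obtain ⟨D⟩ := exists_flagData hT
  haveI : ∀ n, Fintype (SolvChar.tors (k := k) (X := GroupLike k A) ℓ n) := fun n => Fintype.ofFinite _
  let T := fun n => SolvChar.tors (k := k) (X := GroupLike k A) ℓ n
  have hdiv : ∀ n, Tower.IsDiv D.tower (Fintype.card (T n)) := fun n =>
    D.isDiv hT (SolvChar.card_tors_ne_zero ℓ n hℓ)
  have hlift : ∀ n, ∃ τ : T n →* Pt, ∀ x, pr (τ x) = x.1 := fun n => by
    choose s hs using fun x : T n => pr_surjective (k := k) (A := A) x.1
    obtain ⟨τ, hτ⟩ := Tower.exists_lift D.isTower (hdiv n) s fun a b => by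
      rw [D.tower_zero, MonoidHom.mem_ker, map_mul, map_mul, map_inv, hs, hs, hs, ← Subgroup.coe_mul, mul_inv_cancel]
    refine ⟨τ, fun x => ?_⟩
    have h := hτ x
    rw [D.tower_zero, MonoidHom.mem_ker, map_mul, map_inv, mul_inv_eq_one] at h
    rw [h, hs]
  choose τ hτ using hlift
  have hnext : ∀ n (σ : {σ : T n →* Pt // ∀ x, pr (σ x) = x.1}), ∃ σ' : {σ : T (n + 1) →* Pt // ∀ x, pr (σ x) = x.1},
      ∀ x, σ'.1 (Subgroup.inclusion (SolvChar.tors_mono (Nat.le_succ n)) x) = σ.1 x := fun n σ => by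
    obtain ⟨u, hu, hconj⟩ := Tower.exists_conj D.isTower (hdiv n)
      ((τ (n + 1)).comp (Subgroup.inclusion (SolvChar.tors_mono (Nat.le_succ n)))) σ.1 fun a => by
        rw [D.tower_zero, MonoidHom.mem_ker, map_mul, map_inv, MonoidHom.comp_apply, hτ, σ.2]
        simp
    rw [D.tower_zero, MonoidHom.mem_ker] at hu
    exact ⟨⟨(MulAut.conj u).toMonoidHom.comp (τ (n + 1)), fun x => by
      simp only [MonoidHom.comp_apply, MulEquiv.coe_toMonoidHom, MulAut.conj_apply, map_mul, map_inv, hu, hτ]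
      exact MonoidHom.ext fun χ => by simp⟩, fun x => hconj x⟩
  choose next hnext using hnext
  let σs : ∀ n, {σ : T n →* Pt // ∀ x, pr (σ x) = x.1} := fun n => Nat.rec ⟨τ 0, hτ 0⟩ next n
  have hstep : ∀ n x (hx : x ∈ T n), (σs (n + 1)).1 ⟨x, SolvChar.tors_mono (Nat.le_succ n) hx⟩ = (σs n).1 ⟨x, hx⟩ :=
    fun n x hx => hnext n (σs n) ⟨x, hx⟩
  have hcoh : ∀ m n x (hm : x ∈ T m) (hn : x ∈ T n), m ≤ n → (σs n).1 ⟨x, hn⟩ = (σs m).1 ⟨x, hm⟩ := by
    intro m n x hm hn hmn
    induction hmn with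
    | refl => rfl
    | @step n hmn ih => exact (hstep n x (SolvChar.tors_mono hmn hm)).trans (ih _)
  have hmem : ∀ x : SolvChar.torsAll (k := k) (X := GroupLike k A) ℓ, ∃ n, x.1 ∈ T n := fun x => x.2
  choose N hN using hmem
  have hval : ∀ x n (hn : x.1 ∈ T n), (σs n).1 ⟨x.1, hn⟩ = (σs (N x)).1 ⟨x.1, hN x⟩ := fun x n hn => by
    rcases le_total (N x) n with h | h
    · exact hcoh _ _ _ _ _ h
    · exact (hcoh _ _ _ _ _ h).symm
  refine ⟨MonoidHom.mk' (fun x => (σs (N x)).1 ⟨x.1, hN x⟩) fun x y => ?_, fun x => (σs (N x)).2 ⟨x.1, hN x⟩⟩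
  let n := max (N x) (N y)
  have hx : x.1 ∈ T n := SolvChar.tors_mono (le_max_left _ _) (hN x)
  have hy : y.1 ∈ T n := SolvChar.tors_mono (le_max_right _ _) (hN y)
  rw [← hval x n hx, ← hval y n hy, ← hval (x * y) n (mul_mem hx hy), ← map_mul]
  rfl

omit [Algebra.FiniteType k A] [IsDomain A] in
/-- The joint eigenvectors of commuting endomorphisms of finite order prime to the characteristic span. -/
theorem iSup_iInf_eigenspace_eq_top {ι V : Type*} [AddCommGroup V] [Module k V] [Module.Finite k V]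
    (f : ι → Module.End k V) (hc : ∀ i j, Commute (f i) (f j))
    (hf : ∀ i, ∃ m : ℕ, (m : k) ≠ 0 ∧ f i ^ m = 1) :
    ⨆ μ : ι → k, ⨅ i, (f i).eigenspace (μ i) = ⊤ := by
  have h := Module.End.iSup_iInf_maxGenEigenspace_eq_top_of_iSup_maxGenEigenspace_eq_top_of_commute f
    (fun i j _ => hc i j) fun i => Module.End.iSup_maxGenEigenspace_eq_top (f i)
  refine Eq.trans ?_ h
  refine iSup_congr fun μ => iInf_congr fun i => ?_
  obtain ⟨m, hm, he⟩ := hf i
  refine (Module.End.IsFinitelySemisimple.maxGenEigenspace_eq_eigenspace ?_ _).symm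
  refine Module.End.IsSemisimple.isFinitelySemisimple ?_
  refine Module.End.isSemisimple_of_squarefree_aeval_eq_zero
    (Polynomial.separable_X_pow_sub_C (1 : k) hm one_ne_zero).squarefree ?_
  simp [he]

/-- A connected trigonalizable group splits over its diagonalisable quotient. -/
theorem exists_splitting (hT : HopfRep.IsTrigonalizable k A) :
    ∃ Θ : A →ₐc[k] MonoidAlgebra k (GroupLike k A), ∀ z, Θ (chr z) = z := by
  classical
  obtain ⟨ℓ, hℓp, hℓ⟩ := SolvChar.exists_prime_ne_zero (k := k)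
  haveI : NeZero ℓ := ⟨hℓp.ne_zero⟩
  obtain ⟨D⟩ := exists_flagData hT
  obtain ⟨σ, hσ⟩ := exists_lift_tors hT hℓ
  let T := SolvChar.torsAll (k := k) (X := GroupLike k A) ℓ
  have huniq : ∀ {z w : MonoidAlgebra k (GroupLike k A)},
      (∀ x : T, SolvChar.liftC x.1 z = SolvChar.liftC x.1 w) → z = w := fun {z w} h =>
    sub_eq_zero.mp (SolvChar.eq_zero_of_tors hℓp hℓ fun x hx => by rw [map_sub, h ⟨x, hx⟩, sub_self])
  let E : Subalgebra k A :=
    { carrier := {a | ∃ z : MonoidAlgebra k (GroupLike k A), ∀ x : T, (σ x).ofConv a = SolvChar.liftC x.1 z}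
      mul_mem' := fun ⟨z, hz⟩ ⟨w, hw⟩ => ⟨z * w, fun x => by simp [hz, hw]⟩
      add_mem' := fun ⟨z, hz⟩ ⟨w, hw⟩ => ⟨z + w, fun x => by simp [hz, hw]⟩
      algebraMap_mem' := fun r => ⟨algebraMap k _ r, fun x => by simp⟩ }
  have hE : ∀ a, a ∈ E := by
    suffices (D.V : Set A) ⊆ E by
      intro a
      exact Algebra.adjoin_le this (D.eq_top ▸ Algebra.mem_top)
    intro a ha
    let f : T → Module.End k D.V := fun x => D.rep (σ x)
    have hsup := iSup_iInf_eigenspace_eq_top f (fun x y => by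
        show D.rep (σ x) * D.rep (σ y) = D.rep (σ y) * D.rep (σ x)
        rw [← map_mul, ← map_mul, ← map_mul, ← map_mul, mul_comm])
      fun x => by
        obtain ⟨n, hn⟩ := x.2
        refine ⟨ℓ ^ n, by rw [Nat.cast_pow]; exact pow_ne_zero _ hℓ, ?_⟩
        show D.rep (σ x) ^ ℓ ^ n = 1
        rw [← map_pow, ← map_pow, show x ^ ℓ ^ n = 1 from Subtype.ext hn, map_one, map_one]
    have hmem : (⟨a, ha⟩ : D.V) ∈ ⨆ μ : T → k, ⨅ x, (f x).eigenspace (μ x) := hsup ▸ Submodule.mem_top
    refine Submodule.iSup_induction _ (motive := fun v : D.V => (v : A) ∈ E) hmem (fun μ v hv => ?_)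
      (by simpa using E.zero_mem) fun v w hv hw => by simpa using E.add_mem hv hw
    by_cases hv0 : v = 0
    · simpa [hv0] using E.zero_mem
    have hex : ∃ i, v ∈ D.F i := ⟨D.n, D.top ▸ Submodule.mem_top⟩
    obtain ⟨i, hi⟩ : ∃ i, Nat.find hex = i + 1 := by
      refine ⟨Nat.find hex - 1, (Nat.sub_add_cancel (Nat.one_le_iff_ne_zero.mpr fun h => hv0 ?_)).symm⟩
      have := Nat.find_spec hex
      rw [h, D.bot, Submodule.mem_bot] at this
      exact this
    refine ⟨MonoidAlgebra.single (D.c i) (Coalgebra.counit (R := k) (v : A)), fun x => ?_⟩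
    have he : D.rep (σ x) v = μ x • v := Module.End.mem_eigenspace_iff.mp ((Submodule.mem_iInf _).mp hv x)
    have hstep := D.step (σ x) i v (hi ▸ Nat.find_spec hex)
    rw [he] at hstep
    have hstep : (μ x - (pr (σ x) (D.c i) : k)) • v ∈ D.F i := by
      convert hstep using 1
      exact sub_smul (μ x) (pr (σ x) (D.c i) : k) v
    have hμ : μ x = (x.1 (D.c i) : k) := by
      by_contra hne
      rw [hσ] at hstep
      exact Nat.find_min hex (by omega : i < Nat.find hex) ((Submodule.smul_mem_iff _ (sub_ne_zero.mpr hne)).mp hstep)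
    have h1 := congrArg (fun w : D.V => Coalgebra.counit (R := k) (w : A)) he
    simp only [D.rep_apply, Submodule.coe_smul, map_smul, smul_eq_mul] at h1
    rw [counit_rho] at h1
    rw [h1, hμ, SolvChar.liftC_single, mul_comm]
  choose Θ hΘ using hE
  let Θa : A →ₐ[k] MonoidAlgebra k (GroupLike k A) :=
    { toFun := Θ
      map_one' := huniq fun x => by rw [← hΘ, map_one, map_one]
      map_mul' := fun a b => huniq fun x => by rw [← hΘ, map_mul, map_mul, hΘ, hΘ]
      map_zero' := huniq fun x => by rw [← hΘ, map_zero, map_zero]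
      map_add' := fun a b => huniq fun x => by rw [← hΘ, map_add, map_add, hΘ, hΘ]
      commutes' := fun r => huniq fun x => by rw [← hΘ, AlgHom.commutes, AlgHom.commutes] }
  have hΘa : ∀ (x : T) a, SolvChar.liftC x.1 (Θa a) = (σ x).ofConv a := fun x a => (hΘ a x).symm
  refine ⟨BialgHom.ofAlgHom Θa ?_ ?_, fun z => huniq fun x => ?_⟩
  · refine AlgHom.ext fun a => ?_
    show Coalgebra.counit (R := k) (Θa a) = Coalgebra.counit (R := k) a
    rw [← liftC_one, show (1 : GroupLike k A →* kˣ) = (1 : T).1 from rfl, hΘa, map_one]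
    simp
  · refine AlgHom.ext fun a => ?_
    show Algebra.TensorProduct.map Θa Θa (Coalgebra.comul (R := k) a) = Coalgebra.comul (R := k) (Θa a)
    refine sub_eq_zero.mp (SolvChar.eq_zero_of_tors₂ hℓp hℓ fun x hx y hy => ?_)
    rw [map_sub, sub_eq_zero, ← liftC_mul,
      show x * y = ((⟨x, hx⟩ * ⟨y, hy⟩ : T) : GroupLike k A →* kˣ) from rfl, hΘa, map_mul, AlgHom.convMul_apply]
    induction Coalgebra.comul (R := k) a using TensorProduct.induction_on with
    | zero => simp
    | tmul p q => simp [← hΘa]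
    | add p q hp hq => simp only [map_add, hp, hq]
  · show SolvChar.liftC x.1 (Θa (chr z)) = _
    rw [hΘa, apply_chr, hσ]

end Groth.Agent.AGFRoot.Solv
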