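import Groth.Agent.AGFRoot.SolvTower
import Groth.Agent.AGFRoot.SolvChar
import Groth.Agent.AlgGrpQ.DiagQuot
import Groth.Agent.AlgGrpQ.Irred
import Groth.Agent.AlgGrpQ.UniPow
import Groth.Agent.S7957
import Groth.Agent.ComodLib.Orbits
import Groth.Agent.GrpSchLib.HopfFlat
import Mathlib.RingTheory.Algebraic.Integral

/-!
# The diagonalisable quotient of a trigonalizable group
-/

set_option autoImplicit false

universe u

open TensorProduct WithConv

namespace Groth.Agent.AGFRoot.Solv

open Groth.Agent.ComodLib Groth.Agent.AlgGrpQ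
open HopfRep (Comod)

variable {k : Type u} [Field k] {A : Type u} [CommRing A] [HopfAlgebra k A]

local notation "Pt" => WithConv (A →ₐ[k] k)

/-- The bialgebra map from the group algebra of the characters. -/
noncomputable def chr : MonoidAlgebra k (GroupLike k A) →ₐc[k] A :=
  MonoidAlgebra.liftGroupLikeBialgHom (R := k) (A := A)

theorem chr_single (χ : GroupLike k A) (r : k) :
    chr (MonoidAlgebra.single χ r) = r • χ.val := by
  simp [chr]

theorem chr_injective : Function.Injective (chr (k := k) (A := A)) := by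
  have e : ∀ z : MonoidAlgebra k (GroupLike k A),
      chr z = Finsupp.linearCombination k (fun χ : GroupLike k A => χ.val) z.coeff := fun z => by
    induction z using MonoidAlgebra.induction_linear with
    | zero => simp
    | add f g hf hg => simp [hf, hg]
    | single χ r => rw [chr_single]; simp
  intro y z h
  rw [e, e] at h
  exact MonoidAlgebra.coeff_injective ((linearIndep_groupLikeVal (R := k) (A := A)) h)

theorem groupLike_map_mul (g h : Pt) {a : A} (ha : IsGroupLikeElem k a) :
    (g * h).ofConv a = g.ofConv a * h.ofConv a := by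
  rw [AlgHom.convMul_apply, ha.comul_eq_tmul_self]
  simp

/-- The values of a point on the characters. -/
noncomputable def pr : Pt →* (GroupLike k A →* kˣ) where
  toFun g := ((g.ofConv : A →* k).comp (GroupLike.valMonoidHom (R := k) (A := A))).toHomUnits
  map_one' := by
    ext χ
    show (1 : Pt).ofConv χ.val = ((1 : kˣ) : k)
    simp [χ.2.counit_eq_one]
  map_mul' g h := by
    ext χ
    exact groupLike_map_mul g h χ.2

@[simp] theorem pr_apply (g : Pt) (χ : GroupLike k A) : (pr g χ : k) = g.ofConv χ.val := rfl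

theorem mem_ker_pr {g : Pt} : g ∈ (pr (k := k) (A := A)).ker ↔ ∀ χ : GroupLike k A, g.ofConv χ.val = 1 := by
  rw [MonoidHom.mem_ker]
  exact ⟨fun h χ => by rw [← pr_apply, h]; rfl, fun h => MonoidHom.ext fun χ => Units.ext ((pr_apply g χ).trans (h χ))⟩

theorem apply_chr (g : Pt) (z : MonoidAlgebra k (GroupLike k A)) :
    g.ofConv (chr z) = SolvChar.liftC (pr g) z := by
  induction z using MonoidAlgebra.induction_linear with
  | zero => simp
  | add f f' hf hf' => simp [hf, hf']
  | single χ r => simp [chr_single]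

variable [Algebra.FiniteType k A]

/-- The characters form a finitely generated group. -/
instance fg_groupLike : Monoid.FG (GroupLike k A) := by
  classical
  haveI : IsNoetherianRing A := Algebra.FiniteType.isNoetherianRing k A
  obtain ⟨S, hSsub, hS⟩ := (Submodule.fg_span_iff_fg_span_finset_subset _).mp
    (IsNoetherian.noetherian (Ideal.span (Set.range fun χ : GroupLike k A => χ.val - 1)))
  choose! c hc using fun a (ha : a ∈ Set.range fun χ : GroupLike k A => χ.val - 1) => ha
  let X₀ : Subgroup (GroupLike k A) := Subgroup.closure (c '' ↑S)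
  have hX₀ : X₀.FG := ⟨S.image c, by rw [Finset.coe_image]⟩
  haveI : Group.FG X₀ := (Group.fg_iff_subgroup_fg X₀).mpr hX₀
  haveI : Monoid.FG X₀ := Group.fg_iff_monoid_fg.mp inferInstance
  haveI : Algebra.FiniteType k (MonoidAlgebra k X₀) := MonoidAlgebra.finiteType_of_fg
  let φ : MonoidAlgebra k X₀ →ₐc[k] A := chr.comp (MonoidAlgebra.mapDomainBialgHom k X₀.subtype)
  have hφs : ∀ χ : X₀, φ (MonoidAlgebra.single χ 1) = (χ : GroupLike k A).val := fun χ => by simp [φ, chr_single]
  have hφ : Function.Injective φ := by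
    refine chr_injective.comp ?_
    exact MonoidAlgebra.mapDomain_injective Subtype.val_injective
  suffices X₀ = ⊤ by
    rw [this] at hX₀
    exact Group.fg_iff_monoid_fg.mp (Group.fg_def.mpr hX₀)
  refine eq_top_iff.mpr fun χ _ => ?_
  have hmem : χ.val - 1 ∈ Ideal.map (φ : MonoidAlgebra k X₀ →+* A)
      (RingHom.ker (Bialgebra.counitAlgHom k (MonoidAlgebra k X₀))) := by
    have h0 : χ.val - 1 ∈ Ideal.span (Set.range fun χ : GroupLike k A => χ.val - 1) := Ideal.subset_span ⟨χ, rfl⟩
    rw [Ideal.span, hS] at h0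
    refine (Ideal.span_le.mpr ?_ : Ideal.span (S : Set A) ≤ _) h0
    intro a ha
    have hr : a ∈ Set.range fun χ : GroupLike k A => χ.val - 1 := hSsub ha
    have hmX : c a ∈ X₀ := Subgroup.subset_closure ⟨a, ha, rfl⟩
    rw [SetLike.mem_coe, ← hc a hr]
    dsimp only
    rw [show (c a).val - 1 =
      (φ : MonoidAlgebra k X₀ →+* A) (MonoidAlgebra.single ⟨c a, hmX⟩ 1 - 1) by
        rw [map_sub, map_one]; exact congrArg (· - (1 : A)) (hφs ⟨c a, hmX⟩).symm]
    exact Ideal.mem_map_of_mem _ (by simp [RingHom.mem_ker])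
  obtain ⟨z, hz⟩ := mem_range_of_comul_sub_mem φ hφ χ.val ⟨χ.val ⊗ₜ[k] ⟨χ.val - 1, hmem⟩, by
    rw [LinearMap.lTensor_tmul, χ.2.comul_eq_tmul_self, ← tmul_sub]; rfl⟩
  have e : (MonoidAlgebra.mapDomainBialgHom k X₀.subtype z).coeff = (MonoidAlgebra.single χ (1 : k)).coeff :=
    congrArg MonoidAlgebra.coeff (chr_injective (hz.trans (by rw [chr_single, one_smul])))
  have h1 := congrArg (fun f : GroupLike k A →₀ k => f χ) e
  simp only [MonoidAlgebra.coeff_single, Finsupp.single_eq_same] at h1
  by_contra hχ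
  rw [show (MonoidAlgebra.mapDomainBialgHom k X₀.subtype z).coeff χ = 0 from
    Finsupp.mapDomain_notin_range _ _ fun ⟨y, hy⟩ => hχ (hy ▸ y.2)] at h1
  exact zero_ne_one h1

variable [IsAlgClosed k] [IsDomain A]

omit [Algebra.FiniteType k A] in
/-- The characters of a connected group are torsion free. -/
instance : IsMulTorsionFree (GroupLike k A) := by
  refine ⟨fun n hn a b (h : a ^ n = b ^ n) => ?_⟩
  have h1 : (a * b⁻¹) ^ n = 1 := by rw [mul_pow, inv_pow, h, mul_inv_cancel]
  suffices a * b⁻¹ = 1 from mul_inv_eq_one.mp this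
  generalize a * b⁻¹ = χ at h1 ⊢
  have hint : IsIntegral k χ.val :=
    IsIntegral.of_pow (Nat.pos_of_ne_zero hn) (by
      rw [← GroupLike.val_pow, h1]; exact isIntegral_one)
  obtain ⟨c, hc⟩ : χ.val ∈ (⊥ : Subalgebra k A) := by
    have hs := IsAlgClosed.splits (minpoly k χ.val)
    have hirr := minpoly.irreducible hint
    have hd : (minpoly k χ.val).degree = 1 := IsAlgClosed.degree_eq_one_of_irreducible k hirr
    exact minpoly.degree_eq_one_iff.mp hd
  have hc1 : c = 1 := by
    have := χ.2.counit_eq_one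
    rw [← hc] at this
    simpa using this
  exact GroupLike.val_injective (by rw [← hc, hc1, GroupLike.val_one]; simp)

omit [IsDomain A] in
/-- Every point of the diagonalisable quotient lifts. -/
theorem pr_surjective : Function.Surjective (pr (k := k) (A := A)) := fun x => by
  haveI : Algebra.FiniteType k (MonoidAlgebra k (GroupLike k A)) := MonoidAlgebra.finiteType_of_fg
  obtain ⟨g, hg⟩ := exists_lift_of_mem_range (chr (k := k) (A := A) : MonoidAlgebra k (GroupLike k A) →ₐ[k] A)
    (SolvChar.liftC x) ((GrpSchLib.HopfFlat.surjective_comap (chr (k := k) (A := A)) chr_injective) _)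
  refine ⟨toConv g, MonoidHom.ext fun χ => Units.ext ?_⟩
  have := AlgHom.congr_fun hg (MonoidAlgebra.single χ 1)
  simpa [chr_single] using this


/-- A flag of a faithful finite comodule with its characters. -/
structure FlagData (k : Type u) [Field k] (A : Type u) [CommRing A] [HopfAlgebra k A] where
  V : Submodule k A
  fin : Module.Finite k V
  n : ℕ
  F : ℕ → Submodule k V
  mono : Monotone F
  bot : F 0 = ⊥
  top : F n = ⊤
  c : ℕ → GroupLike k A
  rep : WithConv (A →ₐ[k] k) →* Module.End k V
  rep_injective : Function.Injective rep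
  rep_apply : ∀ g (v : V), ((rep g v : V) : A) = rho k A A g (v : A)
  eq_top : Algebra.adjoin k (V : Set A) = ⊤
  step : ∀ g i v, v ∈ F (i + 1) → rep g v - (pr g (c i) : k) • v ∈ F i

attribute [instance] FlagData.fin

omit [IsAlgClosed k] [IsDomain A] in
theorem exists_flagData (hT : HopfRep.IsTrigonalizable k A) : Nonempty (FlagData k A) := by
  classical
  obtain ⟨s, hs⟩ := (Algebra.FiniteType.out : (⊤ : Subalgebra k A).FG)
  obtain ⟨n, G, x, c, h0, hsub, hsn, hc, hstep⟩ := exists_flag_chain_char hT s
  let F' : ℕ → Submodule k A := fun i => ⨆ j ∈ Finset.range (i + 1), G j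
  have hle : ∀ {i j}, j ≤ i → G j ≤ F' i := fun {i j} h =>
    le_biSup (fun j => G j) (Finset.mem_range.mpr (Nat.lt_succ_of_le h))
  have hF'mono : Monotone F' := fun i j h => iSup₂_le fun l hl =>
    hle ((Nat.le_of_lt_succ (Finset.mem_range.mp hl)).trans h)
  have hρF : ∀ (g : Pt) i a, a ∈ F' i → rho k A A g a ∈ F' i := fun g i a ha => by
    have : F' i ≤ (F' i).comap (rho k A A g) := iSup₂_le fun l hl b hb =>
      hle (Nat.le_of_lt_succ (Finset.mem_range.mp hl)) (rho_mem (hsub l) g hb)
    exact this ha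
  have hfinG : ∀ i, Module.Finite k (G i) := fun i => by
    induction i with
    | zero => rw [h0]; infer_instance
    | succ i ih => exact Submodule.finiteDimensional_of_le (hstep i).1
  have hfin : ∀ i, Module.Finite k (F' i) := fun i =>
    Module.Finite.iff_fg.mpr (Submodule.fg_biSup _ _ fun j _ => Module.Finite.iff_fg.mp (hfinG j))
  let χ : ℕ → GroupLike k A := fun i => ⟨c i, hc i⟩
  have hkey : ∀ (g : Pt) i a, a ∈ F' (i + 1) → rho k A A g a - (pr g (χ i) : k) • a ∈ F' i := by
    intro g i a ha
    let L : Module.End k A := rho k A A g - (pr g (χ i) : k) • 1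
    have : F' (i + 1) ≤ (F' i).comap L := iSup₂_le fun l hl b hb => by
      show rho k A A g b - (pr g (χ i) : k) • b ∈ F' i
      rcases (Nat.le_of_lt_succ (Finset.mem_range.mp hl)).lt_or_eq with h | rfl
      · exact Submodule.sub_mem _ (hle (Nat.le_of_lt_succ h) (rho_mem (hsub l) g hb))
          (Submodule.smul_mem _ _ (hle (Nat.le_of_lt_succ h) hb))
      obtain ⟨y, hy, z, hz, rfl⟩ := Submodule.mem_sup.mp ((hstep i).1 hb)
      obtain ⟨r, rfl⟩ := Submodule.mem_span_singleton.mp hz
      have hyF := hle le_rfl hy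
      have hx : rho k A A g (x i) - (pr g (χ i) : k) • x i ∈ F' i := by
        obtain ⟨w, hw⟩ := (hstep i).2
        refine hle le_rfl ?_
        have e : slice g.ofConv.toLinearMap (Coalgebra.comul (R := k) (x i) - x i ⊗ₜ[k] c i) =
            rho k A A g (x i) - (pr g (χ i) : k) • x i := by
          rw [map_sub, slice_tmul, rho_apply, actF_apply]
          rfl
        rw [← e, ← hw, slice_rTensor]
        exact (slice g.ofConv.toLinearMap w).2
      rw [map_add, map_smul, smul_add, smul_comm _ r, show rho k A A g y + r • rho k A A g (x i) -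
        ((pr g (χ i) : k) • y + r • (pr g (χ i) : k) • x i) =
          (rho k A A g y - (pr g (χ i) : k) • y) + r • (rho k A A g (x i) - (pr g (χ i) : k) • x i) by
        rw [smul_sub]; abel]
      exact Submodule.add_mem _
        (Submodule.sub_mem _ (hρF g i y hyF) (Submodule.smul_mem _ _ hyF)) (Submodule.smul_mem _ _ hx)
    exact this ha
  let rep : Pt →* Module.End k (F' n) :=
    { toFun := fun g => (rho k A A g).restrict fun a ha => hρF g n a ha
      map_one' := LinearMap.ext fun v => Subtype.ext (by simp)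
      map_mul' := fun g h => LinearMap.ext fun v => Subtype.ext (by simp [Module.End.mul_apply]) }
  refine ⟨⟨F' n, hfin n, n, fun i => (F' i).comap (F' n).subtype, ?_, ?_, ?_, χ, rep, ?_, fun _ _ => rfl, ?_, ?_⟩⟩
  · exact fun i j h => Submodule.comap_mono (hF'mono h)
  · simp [F', h0]
  · exact Submodule.comap_subtype_self _
  · intro g h hgh
    refine WithConv.ofConv_injective (AlgHom.ext_of_adjoin_eq_top hs fun a ha => ?_)
    have e := congrArg Subtype.val (LinearMap.congr_fun hgh ⟨a, hle le_rfl (hsn ha)⟩)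
    simp only [rep, MonoidHom.coe_mk, OneHom.coe_mk, LinearMap.restrict_coe_apply] at e
    rw [← counit_rho g a, ← counit_rho h a, e]
  · exact eq_top_iff.mpr (hs ▸ Algebra.adjoin_mono fun a ha => hle le_rfl (hsn ha))
  · exact fun g i v hv => hkey g i v hv

namespace FlagData

variable (D : FlagData k A)

omit [Algebra.FiniteType k A] [IsAlgClosed k] [IsDomain A] in
theorem rep_mem (g : Pt) : D.rep g ∈ fil D.F 0 := fun i v hv => by
  cases i with
  | zero =>
    rw [Nat.zero_add, D.bot, Submodule.mem_bot] at hv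
    rw [hv, map_zero]; exact Submodule.zero_mem _
  | succ i =>
    rw [Nat.add_zero] at hv
    have := Submodule.add_mem _ (D.mono (Nat.le_succ i) (D.step g i v hv))
      (Submodule.smul_mem _ ((pr g (D.c i)) : k) hv)
    simpa using this

omit [Algebra.FiniteType k A] [IsAlgClosed k] [IsDomain A] in
theorem rep_sub_one_mem {g : Pt} (hg : g ∈ (pr (k := k) (A := A)).ker) : D.rep g - 1 ∈ fil D.F 1 :=
  fun i v hv => by
    have := D.step g i v hv
    rw [pr_apply, mem_ker_pr.mp hg, one_smul] at this
    simpa using this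

/-- The series of the unipotent radical. -/
noncomputable def tower (j : ℕ) : Subgroup Pt := (pr (k := k) (A := A)).ker ⊓ filSubgroup D.rep D.mono D.rep_mem (j + 1)

omit [Algebra.FiniteType k A] [IsAlgClosed k] [IsDomain A] in
theorem tower_zero : D.tower 0 = (pr (k := k) (A := A)).ker :=
  inf_eq_left.mpr fun _ hg => D.rep_sub_one_mem hg

omit [Algebra.FiniteType k A] [IsAlgClosed k] [IsDomain A] in
theorem isTower : Tower.IsTower D.tower D.n where
  anti i j h := fun g hg => ⟨hg.1, fil_antitone D.mono (by omega) hg.2⟩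
  normal j := by
    have hn : (filSubgroup D.rep D.mono D.rep_mem (j + 1)).Normal := ⟨fun g hg x => by
      show D.rep (x * g * x⁻¹) - 1 ∈ fil D.F (j + 1)
      have h := mul_mem_fil (mul_mem_fil (D.rep_mem x) (show D.rep g - 1 ∈ fil D.F (j + 1) from hg)) (D.rep_mem x⁻¹)
      have h1 : D.rep x * D.rep x⁻¹ = 1 := by rw [← map_mul, mul_inv_cancel, map_one]
      have e : D.rep (x * g * x⁻¹) - 1 = D.rep x * (D.rep g - 1) * D.rep x⁻¹ := by
        refine LinearMap.ext fun v => ?_
        simp [map_mul, Module.End.mul_apply, ← LinearMap.congr_fun h1 v]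
      rw [e]
      simpa using h⟩
    exact Subgroup.normal_inf_normal _ _
  central j := fun g hg => ⟨by
      have h1 : ⁅D.tower 0, D.tower j⁆ ≤ (pr (k := k) (A := A)).ker := by
        rw [Subgroup.commutator_le]
        intro a _ b _
        rw [MonoidHom.mem_ker, map_commutatorElement, commutatorElement_eq_one_iff_commute]
        exact MonoidHom.ext fun χ => mul_comm _ _
      exact h1 hg, by
      have h2 := (Subgroup.commutator_mono (inf_le_right : D.tower 0 ≤ _) (inf_le_right : D.tower j ≤ _)).trans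
        (commutator_filSubgroup_le (hρ := D.rep_mem) 1 (j + 1)) hg
      rwa [show 1 + (j + 1) = j + 1 + 1 by omega] at h2⟩
  bot := (Subgroup.eq_bot_iff_forall _).mpr fun g hg => by
    have h : g ∈ filSubgroup D.rep D.mono D.rep_mem D.n := fil_antitone D.mono (Nat.le_succ _) hg.2
    rwa [filSubgroup_eq_bot D.bot D.top D.rep_injective, Subgroup.mem_bot] at h

omit [Algebra.FiniteType k A] [IsAlgClosed k] [IsDomain A] in
theorem mem_of_pow {m : ℕ} (hm : (m : k) ≠ 0) (j : ℕ) (u : Pt) (hu : u ∈ D.tower j)
    (hp : u ^ m ∈ D.tower (j + 1)) : u ∈ D.tower (j + 1) := by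
  refine ⟨hu.1, ?_⟩
  have hN : D.rep u - 1 ∈ fil D.F (j + 1) := hu.2
  have key : ∀ l : ℕ, D.rep (u ^ l) - 1 - (l : k) • (D.rep u - 1) ∈ fil D.F (j + 2) := fun l => by
    induction l with
    | zero =>
      have e : D.rep (u ^ 0) - 1 - ((0 : ℕ) : k) • (D.rep u - 1) = 0 := LinearMap.ext fun v => by simp
      rw [e]; exact Submodule.zero_mem _
    | succ l ih =>
      have e : D.rep (u ^ (l + 1)) - 1 - ((l + 1 : ℕ) : k) • (D.rep u - 1) =
          (D.rep (u ^ l) - 1 - (l : k) • (D.rep u - 1)) * D.rep u + (l : k) • ((D.rep u - 1) * (D.rep u - 1)) := by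
        refine LinearMap.ext fun v => ?_
        simp only [pow_succ, map_mul, Nat.cast_succ, LinearMap.sub_apply, LinearMap.add_apply, LinearMap.smul_apply,
          Module.End.mul_apply, Module.End.one_apply, map_sub, add_smul, one_smul, smul_sub]
        abel
      rw [e]
      exact Submodule.add_mem _ (by simpa using mul_mem_fil ih (D.rep_mem u))
        (Submodule.smul_mem _ _ (fil_antitone D.mono (by omega) (mul_mem_fil hN hN)))
  have h1 : D.rep (u ^ m) - 1 ∈ fil D.F (j + 2) := hp.2
  have h2 : (m : k) • (D.rep u - 1) ∈ fil D.F (j + 2) := by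
    have e : (m : k) • (D.rep u - 1) = (D.rep (u ^ m) - 1) - (D.rep (u ^ m) - 1 - (m : k) • (D.rep u - 1)) :=
      LinearMap.ext fun v => by simp
    rw [e, show ∀ a b : Module.End k D.V, a - b = a + (-1 : k) • b from fun a b => LinearMap.ext fun v => by
      simp [sub_eq_add_neg]]
    exact Submodule.add_mem _ h1 (Submodule.smul_mem _ _ (key m))
  exact (Submodule.smul_mem_iff _ hm).mp h2

end FlagData

omit [Algebra.FiniteType k A] [IsAlgClosed k] [IsDomain A] in
/-- A unipotent group has no nontrivial characters. -/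
theorem eq_one_of_isUnipotent {H : Type u} [CommRing H] [HopfAlgebra k H] (hU : HopfRep.IsUnipotent k H) {c : H}
    (hc : IsGroupLikeElem k c) : c = 1 := by
  let W : Submodule k H := Submodule.span k {c}
  have hW : HopfRep.IsSubcomod (k := k) (A := H) W := fun a ha => by
    obtain ⟨r, rfl⟩ := Submodule.mem_span_singleton.mp ha
    exact ⟨r • ((⟨c, Submodule.mem_span_singleton_self c⟩ : W) ⊗ₜ[k] c), by
      rw [map_smul, map_smul]; exact congrArg (r • ·) hc.comul_eq_tmul_self.symm⟩
  letI cW : Comod k H W := ComodSub.Comod.restr (Comod.regular k H) W hW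
  have hi : Hoch.IsComodHom H W.subtype := ComodSub.isComodHom_subtype _ W hW
  have : Nontrivial W :=
    ⟨⟨⟨c, Submodule.mem_span_singleton_self c⟩, 0, fun h => hc.ne_zero (congrArg Subtype.val h)⟩⟩
  obtain ⟨w, hw, hw0⟩ := Submodule.exists_mem_ne_zero_of_ne_bot (hU W inferInstance this)
  obtain ⟨r, hr⟩ := Submodule.mem_span_singleton.mp w.2
  have hr0 : r ≠ 0 := fun h => hw0 (Subtype.ext (by rw [← hr, h, zero_smul]; rfl))
  have h1 := LinearMap.congr_fun hi w
  simp only [LinearMap.comp_apply] at h1
  rw [show Comod.coact (k := k) (A := H) w = w ⊗ₜ[k] (1 : H) from hw, LinearMap.rTensor_tmul] at h1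
  have h2 := congrArg (fun z => TensorProduct.lid k H ((Coalgebra.counit (R := k) (A := H)).rTensor H z)) h1
  rw [show W.subtype w = r • c from hr.symm, show Comod.coact (k := k) (A := H) (r • c) = Coalgebra.comul (R := k) (r • c) from rfl,
    map_smul, hc.comul_eq_tmul_self] at h2
  simp only [LinearMap.rTensor_tmul, TensorProduct.lid_tmul, map_smul, hc.counit_eq_one, one_smul, smul_eq_mul,
    mul_one] at h2
  exact (smul_right_injective H hr0 h2.symm).symm.trans rfl

variable (D : FlagData k A)

omit [IsDomain A] in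
theorem FlagData.exists_root (hT : HopfRep.IsTrigonalizable k A) {m : ℕ} (hm : (m : k) ≠ 0) (u : Pt)
    (hu : u ∈ D.tower 0) : ∃ v ∈ D.tower 0, v ^ m = u := by
  obtain ⟨B, _, _, ψ, J, hJH, -, hB, hJ, hU⟩ := exists_kernel_of_isTrigonalizable hT
  rw [D.tower_zero] at hu ⊢
  have hu1 : ∀ a ∈ J, u.ofConv a = 0 := by
    intro a ha
    rw [hJ] at ha
    refine (Ideal.map_le_iff_le_comap.mpr (fun b hb => ?_) : _ ≤ RingHom.ker u.ofConv.toRingHom) ha
    show u.ofConv (ψ b) = 0
    have h := mem_span_groupLike_sub_one hB b hb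
    clear hb
    induction h using Submodule.span_induction with
    | mem x hx =>
      obtain ⟨g, hg, rfl⟩ := hx
      rw [map_sub, map_sub, map_one, map_one, mem_ker_pr.mp hu ⟨ψ g, hg.map ψ⟩, sub_self]
    | zero => simp
    | add p q _ _ hp hq => rw [map_add, map_add, hp, hq, add_zero]
    | smul r p _ hp => rw [map_smul, map_smul, hp, smul_zero]
  let π : A →ₐc[k] A ⧸ J := Bialgebra.Quotient.mkBialgHom J
  let pts : WithConv (A ⧸ J →ₐ[k] k) →* Pt :=
    MonoidHom.mk' (fun v => toConv (v.ofConv.comp (π : A →ₐ[k] A ⧸ J))) fun v w =>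
      congrArg toConv (AlgHom.convMul_comp_bialgHom_distrib v w π)
  let u' : WithConv (A ⧸ J →ₐ[k] k) := toConv (Ideal.Quotient.liftₐ J u.ofConv hu1)
  obtain ⟨v, hv⟩ := (S7957.result k (A ⧸ J) hU m fun h => hm ((ringChar.spec k m).mpr h)).2 u'
  refine ⟨pts v, mem_ker_pr.mpr fun χ => ?_, ?_⟩
  · show v.ofConv (π χ.val) = 1
    rw [eq_one_of_isUnipotent hU (χ.2.map π), map_one]
  · rw [← map_pow, show v ^ m = u' from hv]
    exact WithConv.ofConv_injective (AlgHom.ext fun a => rfl)

omit [IsDomain A] in
theorem FlagData.isDiv (hT : HopfRep.IsTrigonalizable k A) {m : ℕ} (hm : (m : k) ≠ 0) : Tower.IsDiv D.tower m :=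
  ⟨D.exists_root hT hm, D.mem_of_pow hm⟩

end Groth.Agent.AGFRoot.Solv
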