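import Mathlib.GroupTheory.QuotientGroup.Basic
import Mathlib.GroupTheory.Solvable
import Mathlib.Algebra.Group.Submonoid.BigOperators
import Mathlib.Algebra.Group.Subgroup.Finite
import Mathlib.GroupTheory.Commutator.Basic
import Mathlib.Algebra.BigOperators.Group.Finset.Basic
import Mathlib.Tactic.Group

/-!
# Lifting finite abelian groups along extensions by divisible unipotent groups

A `Tower` is a central series of a normal subgroup `W 0` of `Γ` with uniquely `m`-divisible steps. Homomorphisms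
from a group of order `m` into `Γ ⧸ W 0` lift, lifts are conjugate, and there is a map of `W 0` onto the
centralizer of a lift, built from products and powers.
-/

set_option autoImplicit false

open scoped commutatorElement

namespace Groth.Agent.AGFRoot.Tower

variable {Γ : Type*} [Group Γ]

/-- A central series of a normal subgroup of `Γ`. -/
structure IsTower (W : ℕ → Subgroup Γ) (N : ℕ) : Prop where
  anti : Antitone W
  normal : ∀ j, (W j).Normal
  central : ∀ j, ⁅W 0, W j⁆ ≤ W (j + 1)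
  bot : W N = ⊥

/-- The steps of the series are uniquely divisible by `m`. -/
structure IsDiv (W : ℕ → Subgroup Γ) (m : ℕ) : Prop where
  exists_root : ∀ u ∈ W 0, ∃ v ∈ W 0, v ^ m = u
  mem_of_pow : ∀ j, ∀ u ∈ W j, u ^ m ∈ W (j + 1) → u ∈ W (j + 1)

variable {W : ℕ → Subgroup Γ} {N : ℕ} {m : ℕ}

theorem IsTower.le_zero (h : IsTower W N) (j : ℕ) : W j ≤ W 0 := h.anti (Nat.zero_le j)

theorem IsTower.conj_mem (h : IsTower W N) {j : ℕ} {w : Γ} (hw : w ∈ W j) (g : Γ) : g * w * g⁻¹ ∈ W j :=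
  (h.normal j).conj_mem w hw g

theorem IsDiv.mem_of_pow_mem (h : IsTower W N) (hd : IsDiv W m) {u : Γ} (hu : u ∈ W 0) :
    ∀ j, u ^ m ∈ W j → u ∈ W j := by
  intro j
  induction j with
  | zero => exact fun _ => hu
  | succ j ih => exact fun hp => hd.mem_of_pow j u (ih (h.anti (Nat.le_succ j) hp)) hp

theorem IsTower.commute_mk (h : IsTower W N) {j : ℕ} [(W (j + 1)).Normal] {u w : Γ} (hu : u ∈ W 0) (hw : w ∈ W j) :
    Commute (u : Γ ⧸ W (j + 1)) (w : Γ ⧸ W (j + 1)) := by
  have hc : ⁅u, w⁆ ∈ W (j + 1) := h.central j (Subgroup.commutator_mem_commutator hu hw)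
  have e : ((⁅u, w⁆ : Γ) : Γ ⧸ W (j + 1)) = 1 := (QuotientGroup.eq_one_iff _).mpr hc
  rw [commutatorElement_def] at e
  simp only [QuotientGroup.mk_mul, QuotientGroup.mk_inv] at e
  exact mul_inv_eq_iff_eq_mul.mp (mul_inv_eq_one.mp e)

theorem IsTower.eq_of_pow_eq (h : IsTower W N) (hd : IsDiv W m) {u v : Γ} (hu : u ∈ W 0) (hv : v ∈ W 0)
    (he : u ^ m = v ^ m) : u = v := by
  suffices hj : ∀ j, u⁻¹ * v ∈ W j by
    have h1 := hj N
    rw [h.bot, Subgroup.mem_bot, inv_mul_eq_one] at h1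
    exact h1
  intro j
  induction j with
  | zero => exact mul_mem (inv_mem hu) hv
  | succ j ih =>
    have := h.normal (j + 1)
    refine hd.mem_of_pow j _ ih ((QuotientGroup.eq_one_iff _).mp ?_)
    have hc := h.commute_mk hu ih
    have e : ((v : Γ) : Γ ⧸ W (j + 1)) = (u : Γ ⧸ W (j + 1)) * ((u⁻¹ * v : Γ) : Γ ⧸ W (j + 1)) := by
      rw [← QuotientGroup.mk_mul, mul_inv_cancel_left]
    have e2 : (u : Γ ⧸ W (j + 1)) ^ m = (v : Γ ⧸ W (j + 1)) ^ m := by
      rw [← QuotientGroup.mk_pow, ← QuotientGroup.mk_pow, he]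
    rw [e, hc.mul_pow, left_eq_mul] at e2
    rw [QuotientGroup.mk_pow]
    exact e2

variable {A : Type*} [CommGroup A] [Fintype A]

/-- The image of `W j` in the quotient by the next step. -/
abbrev Layer (W : ℕ → Subgroup Γ) (j : ℕ) [(W (j + 1)).Normal] : Subgroup (Γ ⧸ W (j + 1)) :=
  (W j).map (QuotientGroup.mk' (W (j + 1)))

theorem IsTower.layer_comm (h : IsTower W N) (j : ℕ) [(W (j + 1)).Normal] (x y : Layer W j) : x * y = y * x := by
  obtain ⟨_, u, hu, rfl⟩ := x
  obtain ⟨_, v, hv, rfl⟩ := y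
  exact Subtype.ext (h.commute_mk (h.le_zero j hu) hv).eq

/-- The commutative group structure of a layer. -/
abbrev layerComm (h : IsTower W N) (j : ℕ) [(W (j + 1)).Normal] : CommGroup (Layer W j) :=
  { (inferInstance : Group (Layer W j)) with mul_comm := h.layer_comm j }

theorem layer_pow_injective {m : ℕ} (h : IsTower W N) (hd : IsDiv W m) (j : ℕ) [(W (j + 1)).Normal]
    (x y : Layer W j) (e : x ^ m = y ^ m) : x = y := by
  letI := layerComm h j
  obtain ⟨z, hz, hzx⟩ := (x * y⁻¹).2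
  have e1 : (x * y⁻¹) ^ m = 1 := by rw [mul_pow, inv_pow, e, mul_inv_cancel]
  have e2 : QuotientGroup.mk' (W (j + 1)) (z ^ m) = 1 := by
    rw [map_pow, hzx, ← SubmonoidClass.coe_pow, e1, Subgroup.coe_one]
  have hz' := hd.mem_of_pow j z hz ((QuotientGroup.eq_one_iff _).mp e2)
  have e3 : x * y⁻¹ = 1 := Subtype.ext (hzx.symm.trans ((QuotientGroup.eq_one_iff _).mpr hz'))
  exact mul_inv_eq_one.mp e3

/-- Lifting a homomorphism into `Γ ⧸ W 0`. -/
theorem exists_lift (h : IsTower W N) (hd : IsDiv W (Fintype.card A)) (s : A → Γ)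
    (hs : ∀ a b, s a * s b * (s (a * b))⁻¹ ∈ W 0) : ∃ σ : A →* Γ, ∀ a, σ a * (s a)⁻¹ ∈ W 0 := by
  classical
  have := h.normal 0
  suffices hj : ∀ j, ∃ t : A → Γ, (∀ a, t a * (s a)⁻¹ ∈ W 0) ∧ ∀ a b, t a * t b * (t (a * b))⁻¹ ∈ W j by
    obtain ⟨t, ht, htm⟩ := hj N
    refine ⟨MonoidHom.mk' t fun a b => ?_, ht⟩
    have h1 := htm a b
    rw [h.bot, Subgroup.mem_bot, mul_inv_eq_one] at h1
    exact h1.symm
  intro j
  induction j with
  | zero => exact ⟨s, fun a => by rw [mul_inv_cancel]; exact one_mem _, hs⟩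
  | succ j ih =>
    obtain ⟨t, ht, hc⟩ := ih
    have := h.normal (j + 1)
    have := h.normal j
    letI := layerComm h j
    let m := Fintype.card A
    let S : A → Γ ⧸ W (j + 1) := fun a => (t a : Γ ⧸ W (j + 1))
    let c : A → A → Layer W j := fun a b => ⟨_, Subgroup.mem_map_of_mem _ (hc a b)⟩
    let act : A → (Layer W j →* Layer W j) := fun a =>
      MonoidHom.mk' (fun x => ⟨S a * x.1 * (S a)⁻¹, by
        obtain ⟨_, w, hw, rfl⟩ := x
        exact ⟨t a * w * (t a)⁻¹, h.conj_mem hw (t a), by simp [S]⟩⟩)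
        fun x y => Subtype.ext (by simp only [Subgroup.coe_mul]; group)
    have hcS : ∀ a b, (c a b).1 = S a * S b * (S (a * b))⁻¹ := fun a b => by
      show QuotientGroup.mk' (W (j + 1)) (t a * t b * (t (a * b))⁻¹) = _
      simp [S]
    have hcoc : ∀ a b d, c a b * c (a * b) d = act a (c b d) * c a (b * d) := fun a b d => Subtype.ext (by
      simp only [Subgroup.coe_mul, act, MonoidHom.mk'_apply, hcS, mul_assoc a b d]
      group)
    let C : A → Layer W j := fun a => ∏ d, c a d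
    have hC : ∀ a b, c a b ^ m * C (a * b) = act a (C b) * C a := fun a b => by
      simp only [C, map_prod]
      rw [← Fintype.prod_equiv (Equiv.mulLeft b) (fun d => c a (b * d)) (fun d => c a d) (fun d => rfl),
        ← Finset.prod_mul_distrib, ← Finset.prod_congr rfl (fun d _ => hcoc a b d), Finset.prod_mul_distrib,
        Finset.prod_const, Finset.card_univ]
    have hroot : ∀ a, ∃ v ∈ W j, QuotientGroup.mk' (W (j + 1)) v ^ m = (C a).1 := fun a => by
      obtain ⟨w, hw, he⟩ := (C a).2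
      obtain ⟨v, hv, hvw⟩ := hd.exists_root w (h.le_zero j hw)
      exact ⟨v, IsDiv.mem_of_pow_mem h hd hv j (hvw ▸ hw), by rw [← map_pow, hvw, he]⟩
    choose v hv hvC using hroot
    let V : A → Layer W j := fun a => ⟨_, Subgroup.mem_map_of_mem _ (hv a)⟩
    have hV : ∀ a, V a ^ m = C a := fun a => Subtype.ext (by rw [SubmonoidClass.coe_pow]; exact hvC a)
    have huniq : ∀ x y : Layer W j, x ^ m = y ^ m → x = y := layer_pow_injective h hd j
    have hkey : ∀ a b, c a b * V (a * b) = act a (V b) * V a := fun a b => huniq _ _ (by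
      rw [mul_pow, mul_pow, ← map_pow, hV, hV, hV, hC])
    refine ⟨fun a => (v a)⁻¹ * t a, fun a => ?_, fun a b => ?_⟩
    · rw [mul_assoc]
      exact mul_mem (inv_mem (h.le_zero j (hv a))) (ht a)
    · rw [← QuotientGroup.eq_one_iff]
      have e := congrArg Subtype.val (hkey a b)
      simp only [Subgroup.coe_mul, hcS, V, act, MonoidHom.mk'_apply] at e
      simp only [QuotientGroup.mk'_apply] at e
      simp only [QuotientGroup.mk_mul, QuotientGroup.mk_inv]
      change (v a : Γ ⧸ W (j + 1))⁻¹ * S a * ((v b : Γ ⧸ W (j + 1))⁻¹ * S b) *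
        ((v (a * b) : Γ ⧸ W (j + 1))⁻¹ * S (a * b))⁻¹ = 1
      calc _ = (v a : Γ ⧸ W (j + 1))⁻¹ * S a * (v b : Γ ⧸ W (j + 1))⁻¹ * (S a)⁻¹ *
            (S a * S b * (S (a * b))⁻¹ * (v (a * b) : Γ ⧸ W (j + 1))) := by group
        _ = 1 := by rw [e]; group

/-- Two lifts are conjugate. -/
theorem exists_conj (h : IsTower W N) (hd : IsDiv W (Fintype.card A)) (σ τ : A →* Γ)
    (hc : ∀ a, τ a * (σ a)⁻¹ ∈ W 0) : ∃ u ∈ W 0, ∀ a, u * σ a * u⁻¹ = τ a := by
  classical
  suffices hj : ∀ j, ∃ u ∈ W 0, ∀ a, τ a * (u * σ a * u⁻¹)⁻¹ ∈ W j by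
    obtain ⟨u, hu, hu'⟩ := hj N
    refine ⟨u, hu, fun a => ?_⟩
    have h1 := hu' a
    rw [h.bot, Subgroup.mem_bot, mul_inv_eq_one] at h1
    exact h1.symm
  intro j
  induction j with
  | zero => exact ⟨1, one_mem _, fun a => by simpa using hc a⟩
  | succ j ih =>
    obtain ⟨u, hu, hd'⟩ := ih
    have := h.normal (j + 1)
    letI := layerComm h j
    let m := Fintype.card A
    let σ' : A →* Γ ⧸ W (j + 1) :=
      (QuotientGroup.mk' (W (j + 1))).comp ((MulAut.conj u).toMonoidHom.comp σ)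
    let τ' : A →* Γ ⧸ W (j + 1) := (QuotientGroup.mk' (W (j + 1))).comp τ
    let d : A → Layer W j := fun a => ⟨_, Subgroup.mem_map_of_mem _ (hd' a)⟩
    have hdS : ∀ a, (d a).1 = τ' a * (σ' a)⁻¹ := fun a => by
      show QuotientGroup.mk' (W (j + 1)) (τ a * (u * σ a * u⁻¹)⁻¹) = _
      simp only [σ', τ', MonoidHom.comp_apply, map_mul, map_inv, MulEquiv.coe_toMonoidHom, MulAut.conj_apply]
    let act : A → (Layer W j →* Layer W j) := fun a =>
      MonoidHom.mk' (fun x => ⟨σ' a * x.1 * (σ' a)⁻¹, by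
        obtain ⟨_, w, hw, rfl⟩ := x
        exact ⟨(MulAut.conj u (σ a)) * w * (MulAut.conj u (σ a))⁻¹, h.conj_mem hw _, by simp [σ']⟩⟩)
        fun x y => Subtype.ext (by simp only [Subgroup.coe_mul]; group)
    have hcoc : ∀ a b, d (a * b) = d a * act a (d b) := fun a b => Subtype.ext (by
      simp only [Subgroup.coe_mul, act, MonoidHom.mk'_apply, hdS, map_mul]
      group)
    let D : Layer W j := ∏ b, d b
    have hD : ∀ a, d a ^ m * act a D = D := fun a => by
      simp only [D, map_prod]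
      rw [show m = (Finset.univ : Finset A).card from Finset.card_univ.symm, ← Finset.prod_const, ← Finset.prod_mul_distrib,
        ← Fintype.prod_equiv (Equiv.mulLeft a) (fun b => d (a * b)) (fun b => d b) (fun b => rfl)]
      exact Finset.prod_congr rfl fun b _ => (hcoc a b).symm
    obtain ⟨w, hw, he⟩ := D.2
    obtain ⟨v, hv, hvw⟩ := hd.exists_root w (h.le_zero j hw)
    have hvj : v ∈ W j := IsDiv.mem_of_pow_mem h hd hv j (hvw ▸ hw)
    let V : Layer W j := ⟨_, Subgroup.mem_map_of_mem _ hvj⟩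
    have hV : V ^ m = D := Subtype.ext (by
      rw [SubmonoidClass.coe_pow]
      show QuotientGroup.mk' (W (j + 1)) v ^ m = D.1
      rw [← map_pow, hvw, he])
    have huniq : ∀ x y : Layer W j, x ^ m = y ^ m → x = y := layer_pow_injective h hd j
    have hkey : ∀ a, d a * act a V = V := fun a => huniq _ _ (by rw [mul_pow, ← map_pow, hV, hD])
    refine ⟨v * u, mul_mem hv hu, fun a => ?_⟩
    rw [← QuotientGroup.eq_one_iff]
    have e := congrArg Subtype.val (hkey a)
    simp only [Subgroup.coe_mul, hdS, V, act, MonoidHom.mk'_apply] at e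
    simp only [QuotientGroup.mk'_apply] at e
    have es : σ' a = (u : Γ ⧸ W (j + 1)) * σ a * (u : Γ ⧸ W (j + 1))⁻¹ := by simp [σ']
    simp only [QuotientGroup.mk_mul, QuotientGroup.mk_inv]
    change τ' a * ((v : Γ ⧸ W (j + 1)) * u * σ a * ((v : Γ ⧸ W (j + 1)) * u)⁻¹)⁻¹ = 1
    calc τ' a * ((v : Γ ⧸ W (j + 1)) * u * σ a * ((v : Γ ⧸ W (j + 1)) * u)⁻¹)⁻¹
        = τ' a * (σ' a)⁻¹ * (σ' a * (v : Γ ⧸ W (j + 1)) * (σ' a)⁻¹) * (v : Γ ⧸ W (j + 1))⁻¹ := by
          rw [es]; group
      _ = 1 := by rw [e, mul_inv_cancel]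

variable (W) in
/-- The elements of `W 0` centralised by `σ` modulo `W j`. -/
def centMod (σ : A →* Γ) (j : ℕ) : Set Γ := {u | u ∈ W 0 ∧ ∀ a, ⁅σ a, u⁆ ∈ W j}

/-- One step of the retraction onto the centralizer. -/
noncomputable def step (σ : A →* Γ) (u : Γ) : Γ :=
  u ^ Fintype.card A * ((Finset.univ : Finset A).toList.map fun b => ⁅σ b, u⁆).prod

omit [Fintype A] in
theorem commutator_eq_mul (σ : A →* Γ) (u : Γ) (a b : A) :
    ⁅σ (a * b), u⁆ = σ a * ⁅σ b, u⁆ * (σ a)⁻¹ * ⁅σ a, u⁆ := by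
  simp only [commutatorElement_def, map_mul]
  group

theorem step_mem (h : IsTower W N) (σ : A →* Γ) {j : ℕ} {u : Γ} (hu : u ∈ centMod W σ j) :
    step σ u ∈ centMod W σ (j + 1) := by
  classical
  have := h.normal (j + 1)
  letI := layerComm h j
  obtain ⟨hu0, hua⟩ := hu
  have hP : ((Finset.univ : Finset A).toList.map fun b => ⁅σ b, u⁆).prod ∈ W j :=
    list_prod_mem fun x hx => by
      obtain ⟨b, -, rfl⟩ := List.mem_map.mp hx
      exact hua b
  refine ⟨mul_mem (pow_mem hu0 _) (h.le_zero j hP), fun a => ?_⟩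
  let m := Fintype.card A
  let π := QuotientGroup.mk' (W (j + 1))
  let d : A → Layer W j := fun b => ⟨_, Subgroup.mem_map_of_mem _ (hua b)⟩
  let D : Layer W j := ∏ b, d b
  have hD1 : π ((Finset.univ : Finset A).toList.map fun b => ⁅σ b, u⁆).prod = D.1 := by
    rw [map_list_prod, List.map_map]
    show _ = ((∏ b, d b : Layer W j) : Γ ⧸ W (j + 1))
    rw [← Finset.prod_map_toList Finset.univ d, SubmonoidClass.coe_list_prod, List.map_map]
    rfl
  let act : Layer W j →* Layer W j :=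
    MonoidHom.mk' (fun x => ⟨π (σ a) * x.1 * (π (σ a))⁻¹, by
      obtain ⟨_, w, hw, rfl⟩ := x
      exact ⟨σ a * w * (σ a)⁻¹, h.conj_mem hw _, by simp [π]⟩⟩)
      fun x y => Subtype.ext (by simp only [Subgroup.coe_mul]; group)
  have hcoc : ∀ b, d (a * b) = act (d b) * d a := fun b => Subtype.ext (by
    show π ⁅σ (a * b), u⁆ = π (σ a) * π ⁅σ b, u⁆ * (π (σ a))⁻¹ * π ⁅σ a, u⁆
    rw [commutator_eq_mul]
    simp only [map_mul, map_inv])
  have hD : act D * d a ^ m = D := by
    simp only [D, map_prod]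
    rw [show m = (Finset.univ : Finset A).card from Finset.card_univ.symm, ← Finset.prod_const, ← Finset.prod_mul_distrib,
      ← Fintype.prod_equiv (Equiv.mulLeft a) (fun b => d (a * b)) (fun b => d b) (fun b => rfl)]
    exact Finset.prod_congr rfl fun b _ => (hcoc b).symm
  refine (QuotientGroup.eq_one_iff _).mp ?_
  show π ⁅σ a, step σ u⁆ = 1
  have e := congrArg Subtype.val hD
  simp only [Subgroup.coe_mul, SubmonoidClass.coe_pow, act, MonoidHom.mk'_apply] at e
  change π (σ a) * D.1 * (π (σ a))⁻¹ * (π ⁅σ a, u⁆) ^ m = D.1 at e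
  have hcu : Commute (π ⁅σ a, u⁆) (π u) := (h.commute_mk hu0 (hua a)).symm
  have e1 : π (σ a) * π u ^ m * (π (σ a))⁻¹ = π ⁅σ a, u⁆ ^ m * π u ^ m := by
    rw [← conj_pow, ← hcu.mul_pow]
    congr 1
    simp only [← map_mul, ← map_inv, commutatorElement_def]
    congr 1
    group
  have hcD : Commute (π u) D.1 := by
    obtain ⟨w, hw, he⟩ := D.2
    exact he ▸ h.commute_mk hu0 hw
  have hcd : Commute (π ⁅σ a, u⁆) D.1 := congrArg Subtype.val (h.layer_comm j (d a) D)
  simp only [step, commutatorElement_def (σ a) (_ * _), map_mul, map_inv, map_pow, hD1]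
  rw [mul_inv_eq_one]
  calc π (σ a) * (π u ^ m * D.1) * (π (σ a))⁻¹
      = (π (σ a) * π u ^ m * (π (σ a))⁻¹) * (π (σ a) * D.1 * (π (σ a))⁻¹) := by group
    _ = π u ^ m * π ⁅σ a, u⁆ ^ m * (π (σ a) * D.1 * (π (σ a))⁻¹) := by
        rw [e1, (hcu.pow_pow m m).eq]
    _ = π u ^ m * D.1 := by
        rw [mul_assoc]
        congr 1
        have hc' : Commute (π ⁅σ a, u⁆ ^ m) (π (σ a) * D.1 * (π (σ a))⁻¹) :=
          congrArg Subtype.val (h.layer_comm j (d a ^ m) (act D))
        rw [hc'.eq, e]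

theorem step_eq_pow (σ : A →* Γ) {u : Γ} (hu : ∀ a, Commute (σ a) u) : step σ u = u ^ Fintype.card A := by
  rw [step, List.prod_eq_one, mul_one]
  intro x hx
  obtain ⟨b, -, rfl⟩ := List.mem_map.mp hx
  exact commutatorElement_eq_one_iff_commute.mpr (hu b)

/-- The iterated retraction. -/
noncomputable def retr (σ : A →* Γ) : ℕ → Γ → Γ
  | 0, u => u
  | n + 1, u => step σ (retr σ n u)

theorem retr_mem (h : IsTower W N) (σ : A →* Γ) {u : Γ} (hu : u ∈ W 0) : ∀ n, retr σ n u ∈ centMod W σ n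
  | 0 => ⟨hu, fun a => by
      have := h.normal 0
      rw [commutatorElement_def]
      exact mul_mem (h.conj_mem hu (σ a)) (inv_mem hu)⟩
  | n + 1 => step_mem h σ (retr_mem h σ hu n)

theorem retr_eq_pow (σ : A →* Γ) {u : Γ} (hu : ∀ a, Commute (σ a) u) :
    ∀ n, retr σ n u = u ^ Fintype.card A ^ n
  | 0 => (pow_one u).symm
  | n + 1 => by
    rw [retr, retr_eq_pow σ hu n, step_eq_pow σ fun a => (hu a).pow_right _, ← pow_mul, ← pow_succ]

/-- The retraction maps `W 0` onto the centralizer of `σ` in `W 0`. -/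
theorem retr_image (h : IsTower W N) (hd : IsDiv W (Fintype.card A)) (σ : A →* Γ) :
    retr σ N '' (W 0 : Set Γ) = {u | u ∈ W 0 ∧ ∀ a, Commute (σ a) u} := by
  ext w
  constructor
  · rintro ⟨u, hu, rfl⟩
    obtain ⟨h1, h2⟩ := retr_mem h σ hu N
    refine ⟨h1, fun a => ?_⟩
    have h3 := h2 a
    rw [h.bot, Subgroup.mem_bot] at h3
    exact commutatorElement_eq_one_iff_commute.mp h3
  · rintro ⟨hw, hwc⟩
    suffices H : ∀ n, ∃ v ∈ W 0, (∀ a, Commute (σ a) v) ∧ v ^ Fintype.card A ^ n = w by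
      obtain ⟨v, hv, hvc, hvw⟩ := H N
      exact ⟨v, hv, (retr_eq_pow σ hvc N).trans hvw⟩
    intro n
    induction n with
    | zero => exact ⟨w, hw, hwc, pow_one w⟩
    | succ n ih =>
      obtain ⟨v, hv, hvc, hvw⟩ := ih
      obtain ⟨r, hr, hrv⟩ := hd.exists_root v hv
      refine ⟨r, hr, fun a => ?_, by rw [pow_succ', pow_mul, hrv, hvw]⟩
      have e : σ a * r * (σ a)⁻¹ = r := by
        refine h.eq_of_pow_eq hd (h.conj_mem hr (σ a)) hr ?_
        rw [conj_pow, hrv, (hvc a).eq, mul_inv_cancel_right]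
      exact mul_inv_eq_iff_eq_mul.mp e

end Groth.Agent.AGFRoot.Tower
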